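import Mathlib

/-!
# Groups whose involutions lie in a subgroup permuted transitively: definitions
-/

set_option autoImplicit false

namespace Cfsg.Agent.Pyramid

variable {H : Type*} [Group H]

/-- `E` is exactly the set of elements of square one. -/
def IsInvSub (E : Subgroup H) : Prop := ∀ x : H, x ∈ E ↔ x * x = 1

/-- Conjugation is transitive on the non-identity elements of `E`. -/
def ConjTrans (E : Subgroup H) : Prop :=
  ∀ a ∈ E, ∀ b ∈ E, a ≠ 1 → b ≠ 1 → ∃ g : H, g * a * g⁻¹ = b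

/-- Conjugation is transitive on ordered pairs of distinct non-identity elements of `E`. -/
def ConjTrans₂ (E : Subgroup H) : Prop :=
  ∀ a ∈ E, ∀ b ∈ E, ∀ c ∈ E, ∀ d ∈ E, a ≠ 1 → b ≠ 1 → c ≠ 1 → d ≠ 1 → a ≠ b → c ≠ d →
    ∃ g : H, g * a * g⁻¹ = c ∧ g * b * g⁻¹ = d

/-- There is no non-trivial normal subgroup of odd order. -/
def CoreFree₂ (H : Type*) [Group H] : Prop :=
  ∀ N : Subgroup H, N.Normal → Odd (Nat.card N) → N = ⊥

theorem IsInvSub.sq {E : Subgroup H} (hE : IsInvSub E) {x : H} (hx : x ∈ E) : x * x = 1 :=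
  (hE x).1 hx

theorem IsInvSub.inv_eq {E : Subgroup H} (hE : IsInvSub E) {x : H} (hx : x ∈ E) : x⁻¹ = x :=
  inv_eq_of_mul_eq_one_right (hE.sq hx)

theorem IsInvSub.comm {E : Subgroup H} (hE : IsInvSub E) {x y : H} (hx : x ∈ E) (hy : y ∈ E) :
    x * y = y * x := by
  have h := hE.inv_eq (E.mul_mem hx hy)
  rwa [mul_inv_rev, hE.inv_eq hx, hE.inv_eq hy, eq_comm] at h

theorem IsInvSub.conj_mem {E : Subgroup H} (hE : IsInvSub E) {x : H} (hx : x ∈ E) (g : H) :
    g * x * g⁻¹ ∈ E :=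
  (hE _).2 (by rw [show g * x * g⁻¹ * (g * x * g⁻¹) = g * (x * x) * g⁻¹ by group, hE.sq hx]; group)

theorem IsInvSub.normal {E : Subgroup H} (hE : IsInvSub E) : E.Normal :=
  ⟨fun _ hx g => hE.conj_mem hx g⟩

theorem IsInvSub.mem_centralizer {E : Subgroup H} (hE : IsInvSub E) {x : H} (hx : x ∈ E) :
    x ∈ Subgroup.centralizer (E : Set H) :=
  Subgroup.mem_centralizer_iff.2 fun _ hy => hE.comm hy hx

end Cfsg.Agent.Pyramid
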