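import Mathlib
import Cfsg.Agent.Linear.GLTwo

/-!
For `k` even and `p ^ k ≠ 9`: the group `F_q² ⋊ SL₂(q)`, `q = p ^ (k / 2)`, is non-solvable, has
exactly `q ^ 2` involutions and they form one conjugacy class.
-/

set_option autoImplicit false
set_option linter.style.haveILetI false

namespace Cfsg.Agent.Pyramid

open Matrix

variable (F : Type) [Field F]

/-- The natural action of `SL₂` on the plane, as automorphisms of a multiplicative group. -/
def planeAction : Matrix.SpecialLinearGroup (Fin 2) F →* MulAut (Multiplicative (Fin 2 → F)) where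
  toFun g :=
    { toFun := fun v => Multiplicative.ofAdd ((g : Matrix (Fin 2) (Fin 2) F) *ᵥ v.toAdd)
      invFun := fun v =>
        Multiplicative.ofAdd (((g⁻¹ : Matrix.SpecialLinearGroup (Fin 2) F) :
          Matrix (Fin 2) (Fin 2) F) *ᵥ v.toAdd)
      left_inv := fun v => by
        simp only [toAdd_ofAdd, Matrix.mulVec_mulVec, ← Matrix.SpecialLinearGroup.coe_mul,
          inv_mul_cancel, Matrix.SpecialLinearGroup.coe_one, Matrix.one_mulVec, ofAdd_toAdd]
      right_inv := fun v => by
        simp only [toAdd_ofAdd, Matrix.mulVec_mulVec, ← Matrix.SpecialLinearGroup.coe_mul,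
          mul_inv_cancel, Matrix.SpecialLinearGroup.coe_one, Matrix.one_mulVec, ofAdd_toAdd]
      map_mul' := fun v w => by
        rw [toAdd_mul, Matrix.mulVec_add, ofAdd_add] }
  map_one' := by
    ext1 v
    simp
  map_mul' g h := by
    ext1 v
    exact congrArg Multiplicative.ofAdd
      (Matrix.mulVec_mulVec v.toAdd (g : Matrix (Fin 2) (Fin 2) F) (h : Matrix (Fin 2) (Fin 2) F)).symm

/-- The affine group `F² ⋊ SL₂(F)`. -/
abbrev AffSL : Type :=
  Multiplicative (Fin 2 → F) ⋊[planeAction F] Matrix.SpecialLinearGroup (Fin 2) F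

variable {F}

theorem affSL_involution_iff [Fintype F] (hodd : Odd (Fintype.card F)) (x : AffSL F) :
    orderOf x = 2 ↔ (x.right : Matrix (Fin 2) (Fin 2) F) = -1 := by
  haveI := Fact.mk Nat.prime_two
  have h2 : (2 : F) ≠ 0 := Linear.two_ne_zero_of_odd_card hodd
  rw [orderOf_eq_prime_iff]
  constructor
  · rintro ⟨hsq, hne⟩
    rw [pow_two] at hsq
    have hr : x.right * x.right = 1 := by
      have := congrArg SemidirectProduct.right hsq
      simpa using this
    refine Linear.eq_neg_one_of_mul_self h2 (fun h1 => hne ?_) hr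
    have hl := congrArg SemidirectProduct.left hsq
    simp only [SemidirectProduct.mul_left, h1, map_one, MulAut.one_apply,
      SemidirectProduct.one_left] at hl
    refine SemidirectProduct.ext ?_ h1
    have : x.left.toAdd + x.left.toAdd = 0 := by
      rw [← toAdd_mul, hl, toAdd_one]
    apply Multiplicative.toAdd.injective
    funext i
    have hi : x.left.toAdd i + x.left.toAdd i = 0 := congrFun this i
    rw [← two_mul] at hi
    simpa using (mul_eq_zero.1 hi).resolve_left h2
  · intro h
    have hr : x.right * x.right = 1 := by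
      apply Subtype.ext
      rw [Matrix.SpecialLinearGroup.coe_mul, h, neg_mul_neg, one_mul,
        Matrix.SpecialLinearGroup.coe_one]
    refine ⟨?_, fun h1 => ?_⟩
    · rw [pow_two]
      refine SemidirectProduct.ext ?_ (by simpa using hr)
      rw [SemidirectProduct.mul_left, SemidirectProduct.one_left]
      apply Multiplicative.toAdd.injective
      rw [toAdd_mul, toAdd_one]
      change x.left.toAdd + (x.right : Matrix (Fin 2) (Fin 2) F) *ᵥ x.left.toAdd = 0
      rw [h, Matrix.neg_mulVec, Matrix.one_mulVec, add_neg_cancel]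
    · rw [h1, SemidirectProduct.one_right, Matrix.SpecialLinearGroup.coe_one] at h
      have h00 := congrFun (congrFun h 0) 0
      simp at h00
      apply h2
      linear_combination h00

theorem affSL_involution_conj [Fintype F] (hodd : Odd (Fintype.card F)) (x y : AffSL F)
    (hx : orderOf x = 2) (hy : orderOf y = 2) : ∃ g : AffSL F, g * x * g⁻¹ = y := by
  have h2 : (2 : F) ≠ 0 := Linear.two_ne_zero_of_odd_card hodd
  rw [affSL_involution_iff hodd] at hx hy
  set w : Fin 2 → F := (2 : F)⁻¹ • (y.left.toAdd - x.left.toAdd) with hw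
  refine ⟨SemidirectProduct.inl (Multiplicative.ofAdd w), ?_⟩
  refine SemidirectProduct.ext ?_ ?_
  · apply Multiplicative.toAdd.injective
    simp only [SemidirectProduct.mul_left, SemidirectProduct.mul_right, ← map_inv,
      SemidirectProduct.left_inl, SemidirectProduct.right_inl, map_one, MulAut.one_apply, one_mul,
      toAdd_mul, toAdd_ofAdd]
    change w + x.left.toAdd + (x.right : Matrix (Fin 2) (Fin 2) F) *ᵥ
      (-w) = y.left.toAdd
    rw [hx, Matrix.neg_mulVec, Matrix.one_mulVec, neg_neg, hw]
    funext i
    simp only [Pi.add_apply, Pi.smul_apply, Pi.sub_apply, smul_eq_mul]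
    field_simp
    ring
  · simp only [SemidirectProduct.mul_right, ← map_inv, SemidirectProduct.right_inl, one_mul,
      mul_one]
    exact Subtype.ext (hx.trans hy.symm)

theorem affSL_card_involution [Fintype F] (hodd : Odd (Fintype.card F)) :
    Nat.card {x : AffSL F // orderOf x = 2} = Fintype.card F ^ 2 := by
  have hdet : Matrix.det (-1 : Matrix (Fin 2) (Fin 2) F) = 1 := by
    simp [Matrix.det_fin_two]
  let e : {x : AffSL F // orderOf x = 2} ≃ (Fin 2 → F) :=
    { toFun := fun x => x.1.left.toAdd
      invFun := fun v => ⟨⟨Multiplicative.ofAdd v, ⟨-1, hdet⟩⟩,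
        (affSL_involution_iff hodd _).2 rfl⟩
      left_inv := fun x => Subtype.ext (SemidirectProduct.ext (by simp)
        (Subtype.ext ((affSL_involution_iff hodd x.1).1 x.2).symm))
      right_inv := fun v => by simp }
  rw [Nat.card_congr e, Nat.card_eq_fintype_card, Fintype.card_fun, Fintype.card_fin]

theorem affSL_not_solvable [Fintype F] (h5 : 5 ≤ Fintype.card F) :
    ¬ Group.IsSolvable (AffSL F) := by
  classical
  intro hs
  haveI := hs
  have hsl : Group.IsSolvable (Matrix.SpecialLinearGroup (Fin 2) F) :=
    Group.isSolvable_of_surjective (f := (SemidirectProduct.rightHom : AffSL F →* _))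
      SemidirectProduct.rightHom_surjective
  haveI := hsl
  obtain ⟨a, ha0, hasq⟩ : ∃ a : F, a ≠ 0 ∧ a ^ 2 ≠ 1 := by
    by_contra hcon
    push Not at hcon
    have hsub : (Finset.univ : Finset F) ⊆ {0, 1, -1} := by
      intro a _
      by_cases ha : a = 0
      · simp [ha]
      · rcases sq_eq_one_iff.1 (hcon a ha) with h | h <;> simp [h]
    have := Finset.card_le_card hsub
    rw [Finset.card_univ] at this
    have h3 := Finset.card_le_three (a := (0 : F)) (b := 1) (c := -1)
    omega
  haveI : Nontrivial (Matrix.SpecialLinearGroup (Fin 2) F) := by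
    refine ⟨⟨1, ⟨!![1, 1; 0, 1], by simp [Matrix.det_fin_two]⟩, fun h => ?_⟩⟩
    have := congrArg (fun g : Matrix.SpecialLinearGroup (Fin 2) F =>
      (g : Matrix (Fin 2) (Fin 2) F) 0 1) h
    simp at this
  exact (Group.IsSolvable.commutator_lt_top_of_nontrivial _).ne
    (Matrix.SL2.commutator_eq_top ha0 hasq)

/-- The converse direction of S3930. -/
theorem converse (p k : ℕ) (hp : p.Prime) (hp2 : p ≠ 2) (hk : 1 ≤ k) (hk2 : Even k)
    (h9 : p ^ k ≠ 9) :
    ∃ (G : Type) (_ : Group G) (_ : Finite G), Nat.card {x : G // orderOf x = 2} = p ^ k ∧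
      (∀ x y : G, orderOf x = 2 → orderOf y = 2 → ∃ g : G, g * x * g⁻¹ = y) ∧
      ¬ Group.IsSolvable G := by
  classical
  obtain ⟨m, rfl⟩ := hk2
  haveI := Fact.mk hp
  have hm : m ≠ 0 := by omega
  letI : Fintype (GaloisField p m) := Fintype.ofFinite _
  have hcard : Fintype.card (GaloisField p m) = p ^ m := by
    rw [Fintype.card_eq_nat_card, GaloisField.card p m hm]
  have hodd : Odd (Fintype.card (GaloisField p m)) := by
    rw [hcard]
    exact (hp.odd_of_ne_two hp2).pow
  have h5 : 5 ≤ Fintype.card (GaloisField p m) := by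
    rw [hcard]
    have h3 : 3 ≤ p ^ m := le_trans (by have := hp.two_le; omega)
      (Nat.le_self_pow hm p)
    have hodd' : Odd (p ^ m) := (hp.odd_of_ne_two hp2).pow
    obtain ⟨c, hc⟩ := hodd'
    by_contra hlt
    apply h9
    have : p ^ m = 3 := by omega
    rw [pow_add, this]; norm_num
  haveI : Finite (AffSL (GaloisField p m)) := by
    haveI : Finite (Multiplicative (Fin 2 → GaloisField p m)) :=
      Finite.of_equiv _ Multiplicative.ofAdd
    exact Finite.of_equiv _ SemidirectProduct.equivProd.symm
  refine ⟨AffSL (GaloisField p m), inferInstance, inferInstance, ?_,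
    fun x y hx hy => affSL_involution_conj hodd x y hx hy, affSL_not_solvable h5⟩
  rw [affSL_card_involution hodd, hcard, ← pow_mul]
  congr 1
  omega

end Cfsg.Agent.Pyramid
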