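import Cfsg.Agent.Pyramid.Basic
import Cfsg.Agent.Invol.Basic
import Cfsg.Agent.SignalizerTwo.Main

/-!
# A solubility criterion: semiregular action on the top layer of a Sylow 2-subgroup

`E` is a central subgroup consisting of all elements of square one, the squares of a Sylow
2-subgroup `S` lie in `E`, and the elements of odd order of the normaliser of `S` act semiregularly
on `S / E`.  Then the group is soluble (the odd order theorem is taken as a hypothesis).
-/

set_option autoImplicit false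
set_option linter.unusedSectionVars false
set_option linter.style.haveILetI false

universe u

namespace Cfsg.Agent.Pyramid

open Subgroup
open scoped Pointwise

section Core

variable {X : Type u} [Group X] [Finite X]

/-- The subgroup generated by the elements of odd order of a centraliser. -/
def oddPart (a : X) : Subgroup X :=
  closure {x | x * a = a * x ∧ Odd (orderOf x)}

lemma exists_two_pow_odd (x : X) : ∃ k : ℕ, Odd (orderOf (x ^ 2 ^ k)) ∧
    ∃ m : ℕ, Odd m ∧ (x ^ m) ^ 2 ^ k = 1 ∧
      ∀ H : Subgroup X, x ^ m ∈ H → x ^ 2 ^ k ∈ H → x ∈ H := by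
  obtain ⟨k, m, hm, hn⟩ := Nat.exists_eq_pow_mul_and_not_dvd (orderOf_pos x).ne' 2 (by norm_num)
  have hm' : Odd m := Nat.not_even_iff_odd.1 fun h => hm (even_iff_two_dvd.1 h)
  refine ⟨k, ?_, m, hm', by rw [← pow_mul, mul_comm, ← hn, pow_orderOf_eq_one], fun H h1 h2 => ?_⟩
  · rw [orderOf_pow x, hn, Nat.gcd_eq_right (dvd_mul_right _ _),
      Nat.mul_div_cancel_left _ (pow_pos (by norm_num) k)]
    exact hm'
  · have hcop : Nat.gcd m (2 ^ k) = 1 :=
      Nat.Coprime.pow_right k (Nat.Coprime.symm ((Nat.Prime.coprime_iff_not_dvd Nat.prime_two).2 hm))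
    have hb := Nat.gcd_eq_gcd_ab m (2 ^ k)
    rw [hcop] at hb
    have hx : x = (x ^ m) ^ Nat.gcdA m (2 ^ k) * (x ^ 2 ^ k) ^ Nat.gcdB m (2 ^ k) := by
      rw [← zpow_natCast, ← zpow_natCast x (2 ^ k), ← zpow_mul, ← zpow_mul, ← zpow_add, ← hb,
        Nat.cast_one, zpow_one]
    rw [hx]
    exact mul_mem (H.zpow_mem h1 _) (H.zpow_mem h2 _)

variable (V : Sylow 2 X)

/-- The elements normalising a Sylow 2-subgroup centralise it as soon as those of odd order do. -/
lemma normalizer_fix (hVc : ∀ v ∈ (V : Subgroup X), ∀ w ∈ (V : Subgroup X), v * w = w * v)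
    {a : X}
    (hfix : ∀ g ∈ normalizer ((V : Subgroup X) : Set X), Odd (orderOf g) → g * a = a * g →
      ∀ v ∈ (V : Subgroup X), g * v = v * g)
    {g : X} (hg : g ∈ normalizer ((V : Subgroup X) : Set X)) (hga : g * a = a * g)
    {v : X} (hv : v ∈ (V : Subgroup X)) : g * v = v * g := by
  obtain ⟨k, hodd, m, -, hmk, hgen⟩ := exists_two_pow_odd g
  have h2 := hfix _ (pow_mem hg _) hodd ((Commute.pow_left hga _).eq) v hv
  have h1 : g ^ m ∈ (V : Subgroup X) := by
    have hP : IsPGroup 2 (zpowers (g ^ m)) := by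
      rintro ⟨y, hy⟩
      refine ⟨k, Subtype.ext ?_⟩
      obtain ⟨i, rfl⟩ := hy
      show ((g ^ m) ^ i) ^ 2 ^ k = 1
      rw [← zpow_natCast, ← zpow_mul, mul_comm, zpow_mul, zpow_natCast, hmk, one_zpow]
    have hmem : g ^ m ∈ zpowers (g ^ m) ⊓ normalizer ((V : Subgroup X) : Set X) :=
      ⟨mem_zpowers _, pow_mem hg _⟩
    exact (le_of_eq (hP.inf_normalizer_sylow V) hmem).2
  exact mem_centralizer_singleton_iff.1 (hgen (centralizer {v})
    (mem_centralizer_singleton_iff.2 (hVc _ h1 v hv)) (mem_centralizer_singleton_iff.2 h2))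

/-- Centralisers of involutions of the Sylow subgroup have normal complements of odd order. -/
lemma oddPart_spec (hVc : ∀ v ∈ (V : Subgroup X), ∀ w ∈ (V : Subgroup X), v * w = w * v)
    {a : X} (ha : a ∈ (V : Subgroup X))
    (hfix : ∀ g ∈ normalizer ((V : Subgroup X) : Set X), Odd (orderOf g) → g * a = a * g →
      ∀ v ∈ (V : Subgroup X), g * v = v * g) :
    Odd (Nat.card (oddPart a)) ∧ (∀ x ∈ oddPart a, x * a = a * x ∧ Odd (orderOf x)) ∧
      centralizer {a} ≤ oddPart a ⊔ V := by
  haveI : Fact (Nat.Prime 2) := ⟨Nat.prime_two⟩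
  have hVH : (V : Subgroup X) ≤ centralizer {a} := fun v hv =>
    mem_centralizer_singleton_iff.2 (hVc v hv a ha)
  set P := V.subtype hVH with hP
  have hPc : normalizer ((P : Subgroup (centralizer {a})) : Set (centralizer {a})) ≤
      centralizer ((P : Subgroup (centralizer {a})) : Set (centralizer {a})) := by
    intro g hg
    rw [mem_centralizer_iff]
    intro v hv
    have hv' : (v : X) ∈ (V : Subgroup X) := hv
    have hg' : (g : X) ∈ normalizer ((V : Subgroup X) : Set X) := by
      rw [mem_normalizer_iff] at hg ⊢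
      intro x
      constructor
      · intro hx
        exact (hg ⟨x, hVH hx⟩).1 hx
      · intro hx
        have hxC : x ∈ centralizer {a} := by
          have h3 := mul_mem (mul_mem (inv_mem g.2) (hVH hx)) g.2
          simpa [mul_assoc] using h3
        exact (hg ⟨x, hxC⟩).2 hx
    exact Subtype.ext
      (normalizer_fix V hVc hfix hg' (mem_centralizer_singleton_iff.1 g.2) hv').symm
  set K := (MonoidHom.transferSylow P hPc).ker with hK
  have hcomp : K.IsComplement' (P : Subgroup (centralizer {a})) :=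
    MonoidHom.ker_transferSylow_isComplement' P hPc
  have hidx : K.index = Nat.card (P : Subgroup (centralizer {a})) := hcomp.symm.index_eq_card
  have hKodd : Odd (Nat.card K) := by
    rw [← hcomp.index_eq_card]
    exact Nat.not_even_iff_odd.1 fun h => P.not_dvd_index (even_iff_two_dvd.1 h)
  obtain ⟨n, hn⟩ := IsPGroup.iff_card.1 P.2
  have hin : ∀ x : centralizer {a}, Odd (orderOf x) → x ∈ K := by
    intro x hx
    rw [hK, MonoidHom.mem_ker]
    have h1 := orderOf_map_dvd (MonoidHom.transferSylow P hPc) x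
    have h2 : orderOf (MonoidHom.transferSylow P hPc x) ∣ 2 ^ n :=
      hn ▸ orderOf_dvd_natCard _
    exact orderOf_eq_one_iff.1 (Nat.eq_one_of_dvd_coprimes
      (Nat.Coprime.pow_right n (Nat.coprime_two_right.2 hx)) h1 h2)
  have hle : oddPart a = K.map (centralizer {a}).subtype := by
    refine le_antisymm ((closure_le _).2 ?_) ?_
    · rintro x ⟨hxa, hx⟩
      exact ⟨⟨x, mem_centralizer_singleton_iff.2 hxa⟩,
        hin _ (by rwa [← orderOf_submonoid]), rfl⟩
    · rintro _ ⟨x, hx, rfl⟩
      refine subset_closure ⟨mem_centralizer_singleton_iff.1 x.2, ?_⟩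
      show Odd (orderOf (x : X))
      rw [orderOf_submonoid]
      exact hKodd.of_dvd_nat (K.orderOf_dvd_natCard hx)
  refine ⟨?_, ?_, ?_⟩
  · rwa [hle, card_map_of_injective (Subgroup.subtype_injective _)]
  · intro x hx
    rw [hle] at hx
    obtain ⟨y, hy, rfl⟩ := hx
    refine ⟨mem_centralizer_singleton_iff.1 y.2, ?_⟩
    show Odd (orderOf (y : X))
    rw [orderOf_submonoid]
    exact hKodd.of_dvd_nat (K.orderOf_dvd_natCard hy)
  · intro x hx
    have : (⟨x, hx⟩ : centralizer {a}) ∈ K ⊔ (P : Subgroup (centralizer {a})) := by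
      rw [hcomp.sup_eq_top]; trivial
    have h' := Subgroup.mem_map_of_mem (centralizer {a}).subtype this
    rw [Subgroup.map_sup, ← hle] at h'
    refine SetLike.le_def.1 (sup_le le_sup_left (le_trans ?_ le_sup_right)) h'
    rintro _ ⟨y, hy, rfl⟩
    exact hy

/-- The core of the criterion. -/
theorem isSolvable_of_abelian_sylow
    (hFT : ∀ (K : Type u) [Group K] [Finite K], Odd (Nat.card K) → Group.IsSolvable K)
    (hV : Cfsg.IsElementaryAbelian 2 (V : Subgroup X)) (h8 : 8 ≤ Nat.card (V : Subgroup X))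
    (hcore : CoreFree₂ X)
    (hfix : ∀ a ∈ (V : Subgroup X), a ≠ 1 → ∀ g ∈ normalizer ((V : Subgroup X) : Set X),
      Odd (orderOf g) → g * a = a * g → ∀ v ∈ (V : Subgroup X), g * v = v * g)
    (htwo : ∃ u ∈ (V : Subgroup X), ∃ w ∈ (V : Subgroup X), u ≠ 1 ∧ w ≠ 1 ∧ ¬ IsConj u w) :
    Group.IsSolvable X := by
  haveI : Fact (Nat.Prime 2) := ⟨Nat.prime_two⟩
  have hVc : ∀ v ∈ (V : Subgroup X), ∀ w ∈ (V : Subgroup X), v * w = w * v := fun v hv w hw =>
    congrArg Subtype.val (hV.1.is_comm.comm ⟨v, hv⟩ ⟨w, hw⟩)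
  have hsq : ∀ v ∈ (V : Subgroup X), v * v = 1 := fun v hv => by
    simpa [pow_two] using hV.2 v hv
  have hspec := fun a (ha : a ∈ (V : Subgroup X)) (ha1 : a ≠ 1) =>
    oddPart_spec V hVc ha (hfix a ha ha1)
  have hθ : Cfsg.IsSolvableSignalizerFunctor 2 (V : Subgroup X) oddPart := by
    refine ⟨⟨fun a ha ha1 x hx => mem_centralizer_singleton_iff.2 ((hspec a ha ha1).2.1 x hx).1,
      fun a ha ha1 h => ?_, fun a ha ha1 b hb x hx => ?_, fun a ha ha1 b hb hb1 x hx => ?_⟩,
      fun a ha ha1 => hFT _ (hspec a ha ha1).1⟩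
    · exact Nat.not_even_iff_odd.2 (hspec a ha ha1).1 (even_iff_two_dvd.2 h)
    · obtain ⟨hxa, hxo⟩ := (hspec a ha ha1).2.1 x hx
      refine subset_closure ⟨?_, by rwa [Invol.orderOf_conj]⟩
      have hba := hVc b hb a ha
      exact (((show Commute b a from hba).mul_left hxa).mul_left
        (show Commute b a from hba).inv_left).eq
    · exact subset_closure ⟨mem_centralizer_singleton_iff.1 hx.2, ((hspec a ha ha1).2.1 x hx.1).2⟩
  obtain ⟨hW, -⟩ := SignalizerTwo.complete_iSup hV h8 hθ
  set W := ⨆ a : {a : X // a ∈ (V : Subgroup X) ∧ a ≠ 1}, oddPart a.1 with hWdef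
  have hWodd : Odd (Nat.card W) := Nat.odd_iff.2 (Nat.two_dvd_ne_zero.1 hW.2.1)
  have hθW : ∀ a ∈ (V : Subgroup X), a ≠ 1 → oddPart a ≤ W := fun a ha ha1 =>
    le_iSup (fun b : {b : X // b ∈ (V : Subgroup X) ∧ b ≠ 1} => oddPart b.1) ⟨a, ha, ha1⟩
  have hconjW : ∀ g ∈ normalizer ((V : Subgroup X) : Set X), ∀ x ∈ W, g * x * g⁻¹ ∈ W := by
    intro g hg
    suffices h : W ≤ W.comap (MulAut.conj g).toMonoidHom from fun x hx => h hx
    refine iSup_le fun a => (closure_le _).2 ?_
    rintro x ⟨hxa, hxo⟩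
    refine hθW (g * a.1 * g⁻¹) ((mem_normalizer_iff.1 hg _).1 a.2.1)
      (fun e => a.2.2 (by rw [mul_inv_eq_one] at e; exact mul_eq_left.1 e)) ?_
    refine subset_closure ⟨?_, ?_⟩
    · show g * x * g⁻¹ * (g * a.1 * g⁻¹) = g * a.1 * g⁻¹ * (g * x * g⁻¹)
      calc g * x * g⁻¹ * (g * a.1 * g⁻¹) = g * (x * a.1) * g⁻¹ := by group
        _ = g * (a.1 * x) * g⁻¹ := by rw [hxa]
        _ = g * a.1 * g⁻¹ * (g * x * g⁻¹) := by group
    · show Odd (orderOf (g * x * g⁻¹))
      rwa [Invol.orderOf_conj]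
  have hNW : normalizer ((V : Subgroup X) : Set X) ≤ normalizer (W : Set X) := by
    intro g hg
    rw [mem_normalizer_iff]
    intro x
    refine ⟨hconjW g hg x, fun h => ?_⟩
    have := hconjW g⁻¹ (inv_mem hg) _ h
    simpa [mul_assoc] using this
  -- the key lemma
  have key : ∀ M : Subgroup X, normalizer ((V : Subgroup X) : Set X) ≤ M →
      (∀ a ∈ (V : Subgroup X), a ≠ 1 → centralizer {a} ≤ M) → M = ⊤ := by
    intro M hNM hCM
    have hVM : (V : Subgroup X) ≤ M := le_trans le_normalizer hNM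
    have hinv : ∀ t ∈ M, orderOf t = 2 → centralizer {t} ≤ M := by
      intro t ht ht2 y hy
      have hP : IsPGroup 2 (zpowers (⟨t, ht⟩ : M)) := by
        refine IsPGroup.iff_card.2 ⟨1, ?_⟩
        rw [Nat.card_zpowers, ← orderOf_submonoid, pow_one]
        exact ht2
      obtain ⟨Q, hQ⟩ := hP.exists_le_sylow
      obtain ⟨m, hm⟩ := MulAction.exists_smul_eq M Q (V.subtype hVM)
      have hmem : (m : X) * t * (m : X)⁻¹ ∈ (V : Subgroup X) := by
        have h1 : MulAut.conj m • (⟨t, ht⟩ : M) ∈ MulAut.conj m • (Q : Subgroup M) :=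
          Subgroup.smul_mem_pointwise_smul _ _ _ (hQ (mem_zpowers _))
        rw [← Sylow.coe_subgroup_smul] at h1
        rw [hm] at h1
        exact h1
      have hne : (m : X) * t * (m : X)⁻¹ ≠ 1 := fun e => Invol.inv_ne_one ht2
        (mul_eq_left.1 (mul_inv_eq_one.1 e))
      have hy' : (m : X) * y * (m : X)⁻¹ ∈ M := hCM _ hmem hne
        (mem_centralizer_singleton_iff.2 (by
          have := mem_centralizer_singleton_iff.1 hy
          calc (m : X) * y * (m : X)⁻¹ * ((m : X) * t * (m : X)⁻¹)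
              = (m : X) * (y * t) * (m : X)⁻¹ := by group
            _ = (m : X) * (t * y) * (m : X)⁻¹ := by rw [this]
            _ = (m : X) * t * (m : X)⁻¹ * ((m : X) * y * (m : X)⁻¹) := by group))
      have := mul_mem (mul_mem (inv_mem m.2) hy') m.2
      simpa [mul_assoc] using this
    obtain ⟨u, hu, w, hw, hu1, hw1, hnc⟩ := htwo
    have hall : ∀ t : X, orderOf t = 2 → t ∈ M := by
      intro t ht
      have aux : ∀ s ∈ (V : Subgroup X), s ≠ 1 → ¬ IsConj s t → t ∈ M := by
        intro s hs hs1 hst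
        obtain ⟨z, hz, hzs, hzt⟩ :=
          Invol.exists_common_of_not_isConj (Invol.orderOf_eq_two (hsq s hs) hs1) ht hst
        have hzM : z ∈ M := hCM s hs hs1 (mem_centralizer_singleton_iff.2 hzs.eq)
        exact hinv z hzM hz (mem_centralizer_singleton_iff.2 hzt.eq.symm)
      by_cases h : IsConj u t
      · exact aux w hw hw1 fun h' => hnc (h.trans h'.symm)
      · exact aux u hu hu1 h
    set I := normalClosure ((V : Subgroup X) : Set X) with hI
    have hIM : I ≤ M := by
      rw [hI, normalClosure, closure_le]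
      intro x hx
      obtain ⟨v, hv, hvx⟩ := Group.mem_conjugatesOfSet_iff.1 hx
      by_cases hv1 : v = 1
      · subst hv1
        rw [isConj_one_right] at hvx
        subst hvx
        exact one_mem M
      · exact hall x
          ((Invol.orderOf_eq_of_isConj hvx).symm.trans (Invol.orderOf_eq_two (hsq v hv) hv1))
    have hF : normalizer ((V : Subgroup X) : Set X) ⊔ I = ⊤ :=
      Sylow.normalizer_sup_eq_top' V subset_normalClosure
    exact top_le_iff.1 (hF ▸ sup_le hNM hIM)
  -- the closure of the signalizer functor is trivial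
  have hCW : ∀ a ∈ (V : Subgroup X), a ≠ 1 → centralizer {a} ≤ normalizer (W : Set X) :=
    fun a ha ha1 => (hspec a ha ha1).2.2.trans
      (sup_le ((hθW a ha ha1).trans le_normalizer) (le_normalizer.trans hNW))
  have hWn : W.Normal := normalizer_eq_top_iff.1 (key _ hNW hCW)
  have hW1 : W = ⊥ := hcore W hWn hWodd
  have hN : normalizer ((V : Subgroup X) : Set X) = ⊤ := key _ le_rfl fun a ha ha1 =>
    (hspec a ha ha1).2.2.trans
      (sup_le (((hθW a ha ha1).trans hW1.le).trans bot_le) le_normalizer)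
  haveI hVn : (V : Subgroup X).Normal := normalizer_eq_top_iff.1 hN
  haveI : Group.IsSolvable (X ⧸ (V : Subgroup X)) := hFT _ (by
    rw [← Subgroup.index_eq_card]
    exact Nat.not_even_iff_odd.1 fun h => V.not_dvd_index (even_iff_two_dvd.1 h))
  haveI : Group.IsSolvable (V : Subgroup X) :=
    Group.isSolvable_of_comm fun a b => hV.1.is_comm.comm a b
  exact Group.isSolvable_of_ker_le_range (V : Subgroup X).subtype
    (QuotientGroup.mk' (V : Subgroup X)) (by simp)

end Core

/-- Semiregular action of the odd order elements of the normaliser on `S / E` forces solubility. -/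
theorem isSolvable_of_semiregular
    (hFT : ∀ (K : Type u) [Group K] [Finite K], Odd (Nat.card K) → Group.IsSolvable K)
    {C : Type u} [Group C] [Finite C] (E : Subgroup C) (S : Sylow 2 C)
    (hE : IsInvSub E) (hc : E ≤ Subgroup.center C) (hcore : CoreFree₂ C)
    (hsq : ∀ x ∈ (S : Subgroup C), x * x ∈ E) (hbig : 8 * Nat.card E ≤ Nat.card (S : Subgroup C))
    (htwo : ∃ x ∈ (S : Subgroup C), ∃ y ∈ (S : Subgroup C), x ∉ E ∧ y ∉ E ∧ x * x ≠ y * y)
    (hsemi : ∀ g ∈ Subgroup.normalizer ((S : Subgroup C) : Set C), Odd (orderOf g) →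
      ∀ x ∈ (S : Subgroup C), x ∉ E →
      g * x * g⁻¹ * x⁻¹ ∈ E → ∀ y ∈ (S : Subgroup C), g * y = y * g) : Group.IsSolvable C := by
  haveI : Fact (Nat.Prime 2) := ⟨Nat.prime_two⟩
  haveI hEn : E.Normal := hE.normal
  have hcen : ∀ e ∈ E, ∀ z : C, z * e = e * z := fun e he z =>
    Subgroup.mem_center_iff.1 (hc he) z
  have hE2 : IsPGroup 2 E := fun e => ⟨1, Subtype.ext (by simpa [pow_two] using hE.sq e.2)⟩
  have hES : E ≤ (S : Subgroup C) := fun e he => by
    have hmem : e ∈ E ⊓ normalizer ((S : Subgroup C) : Set C) :=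
      ⟨he, Subgroup.center_le_normalizer _ (hc he)⟩
    exact (le_of_eq (hE2.inf_normalizer_sylow S) hmem).2
  set π := QuotientGroup.mk' E with hπ
  have hπs : Function.Surjective π := QuotientGroup.mk'_surjective E
  have hker : π.ker = E := QuotientGroup.ker_mk' E
  set V := S.mapSurjective hπs with hV
  have hVeq : (V : Subgroup (C ⧸ E)) = (S : Subgroup C).map π := rfl
  have hmemS : ∀ c : C, π c ∈ (V : Subgroup (C ⧸ E)) → c ∈ (S : Subgroup C) := by
    intro c hc'
    rw [hVeq] at hc'
    obtain ⟨s, hs, he⟩ := hc'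
    have : s⁻¹ * c ∈ E := by rw [← hker, MonoidHom.mem_ker, map_mul, map_inv, he, inv_mul_cancel]
    simpa using mul_mem hs (hES this)
  have hV2 : ∀ v ∈ (V : Subgroup (C ⧸ E)), v * v = 1 := by
    intro v hv
    obtain ⟨s, hs, rfl⟩ := (hVeq ▸ hv : v ∈ (S : Subgroup C).map π)
    rw [← map_mul, ← MonoidHom.mem_ker, hker]
    exact hsq s hs
  have hVc : ∀ v ∈ (V : Subgroup (C ⧸ E)), ∀ w ∈ (V : Subgroup (C ⧸ E)), v * w = w * v := by
    intro v hv w hw
    calc v * w = (v * w)⁻¹ := (inv_eq_of_mul_eq_one_right (hV2 _ (mul_mem hv hw))).symm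
      _ = w * v := by
        rw [mul_inv_rev, inv_eq_of_mul_eq_one_right (hV2 v hv),
          inv_eq_of_mul_eq_one_right (hV2 w hw)]
  have hVe : Cfsg.IsElementaryAbelian 2 (V : Subgroup (C ⧸ E)) :=
    ⟨⟨⟨fun a b => Subtype.ext (hVc a a.2 b b.2)⟩⟩,
      fun v hv => by rw [pow_two]; exact hV2 v hv⟩
  have hcard : Nat.card (V : Subgroup (C ⧸ E)) * Nat.card E = Nat.card (S : Subgroup C) := by
    have h1 := (S : Subgroup C).index_map_eq hπs (hker.le.trans hES)
    have h2 := Subgroup.card_mul_index (V : Subgroup (C ⧸ E))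
    have h3 := Subgroup.card_mul_index (S : Subgroup C)
    have h4 := Subgroup.card_mul_index E
    rw [E.index_eq_card] at h4
    rw [hVeq] at h2 ⊢
    rw [h1] at h2
    refine Nat.eq_of_mul_eq_mul_right (Nat.pos_of_ne_zero (Subgroup.index_ne_zero_of_finite
      (H := (S : Subgroup C)))) ?_
    rw [h3, ← h4, ← h2]
    ring
  have h8 : 8 ≤ Nat.card (V : Subgroup (C ⧸ E)) :=
    Nat.le_of_mul_le_mul_right (hcard ▸ hbig) Nat.card_pos
  have hcoreX : CoreFree₂ (C ⧸ E) := by
    intro N hN hodd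
    haveI := hN
    set P := N.comap π with hPdef
    have hEP : E ≤ P := hker ▸ MonoidHom.ker_le_comap π N
    have hidx : (E.subgroupOf P).index = Nat.card N := by
      have h1 : E.relIndex P = Nat.card N := by
        have := Subgroup.card_mul_index (E.subgroupOf P)
        have h2 : Nat.card (E.subgroupOf P) = Nat.card E :=
          Nat.card_congr (Subgroup.subgroupOfEquivOfLe hEP).toEquiv
        have h3 : Nat.card P = Nat.card E * Nat.card N := by
          have h4 := Subgroup.card_mul_index P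
          have h5 := Subgroup.card_mul_index N
          have h6 := Subgroup.card_mul_index E
          rw [E.index_eq_card] at h6
          rw [hPdef, Subgroup.index_comap_of_surjective N hπs] at h4
          refine Nat.eq_of_mul_eq_mul_right (Nat.pos_of_ne_zero
            (Subgroup.index_ne_zero_of_finite (H := N))) ?_
          rw [mul_assoc, h5, h4, h6]
        rw [h2, h3] at this
        exact Nat.eq_of_mul_eq_mul_left Nat.card_pos this
      exact h1
    obtain ⟨n, hn⟩ := IsPGroup.iff_card.1 hE2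
    have hcop : Nat.Coprime (Nat.card (E.subgroupOf P)) (E.subgroupOf P).index := by
      rw [hidx, Nat.card_congr (Subgroup.subgroupOfEquivOfLe hEP).toEquiv, hn]
      exact Nat.Coprime.pow_left n (Nat.coprime_two_left.2 hodd)
    obtain ⟨K, hK⟩ := Subgroup.exists_right_complement'_of_coprime hcop
    have hKodd : Odd (Nat.card K) := by rw [← hK.symm.index_eq_card, hidx]; exact hodd
    have hKn : (K.map P.subtype).Normal := by
      refine ⟨fun x hx c => ?_⟩
      obtain ⟨k, hk, rfl⟩ := hx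
      haveI : P.Normal := inferInstance
      obtain ⟨⟨⟨e, he⟩, ⟨k', hk'⟩⟩, hek⟩ := hK.2
        ⟨c * (k : C) * c⁻¹, Subgroup.Normal.conj_mem inferInstance _ k.2 c⟩
      have hek' : (e : C) * (k' : C) = c * (k : C) * c⁻¹ := congrArg Subtype.val hek
      have hpow : ∀ j ∈ K, (j : C) ^ Nat.card K = 1 := fun j hj => by
        have := congrArg Subtype.val (orderOf_dvd_iff_pow_eq_one.1 (K.orderOf_dvd_natCard hj))
        rwa [SubmonoidClass.coe_pow, OneMemClass.coe_one] at this
      have he1 : (e : C) = 1 := by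
        have h1 : (c * (k : C) * c⁻¹) ^ Nat.card K = 1 := by
          rw [conj_pow, hpow k hk, mul_one, mul_inv_cancel]
        rw [← hek', (show Commute (e : C) (k' : C) from (hcen _ he _).symm).mul_pow,
          hpow k' hk', mul_one] at h1
        obtain ⟨r, hr⟩ := hKodd
        rw [hr, pow_succ, pow_mul, pow_two, hE.sq (show (e : C) ∈ E from he), one_pow, one_mul] at h1
        exact h1
      refine ⟨k', hk', ?_⟩
      show (k' : C) = _
      rw [he1, one_mul] at hek'
      exact hek'
    have hK1 : K.map P.subtype = ⊥ := hcore _ hKn (by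
      rwa [Subgroup.card_map_of_injective P.subtype_injective])
    have : Nat.card N = 1 := by
      rw [← hidx, hK.symm.index_eq_card, ← Subgroup.card_map_of_injective P.subtype_injective, hK1,
        Subgroup.card_bot]
    exact Subgroup.card_eq_one.1 this
  have hfixX : ∀ a ∈ (V : Subgroup (C ⧸ E)), a ≠ 1 →
      ∀ g ∈ normalizer ((V : Subgroup (C ⧸ E)) : Set (C ⧸ E)),
      Odd (orderOf g) → g * a = a * g → ∀ v ∈ (V : Subgroup (C ⧸ E)), g * v = v * g := by
    intro a ha ha1 g hg hgo hga v hv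
    obtain ⟨x, hx, rfl⟩ := (hVeq ▸ ha : a ∈ (S : Subgroup C).map π)
    obtain ⟨y, hy, rfl⟩ := (hVeq ▸ hv : v ∈ (S : Subgroup C).map π)
    obtain ⟨c, rfl⟩ := hπs g
    obtain ⟨k, hodd, -⟩ := exists_two_pow_odd (X := C) c
    have hxE : x ∉ E := fun h => ha1 (by rw [← MonoidHom.mem_ker, hker]; exact h)
    have hg2 : c ^ 2 ^ k ∈ normalizer ((S : Subgroup C) : Set C) := by
      rw [mem_normalizer_iff]
      intro z
      have hgk := pow_mem hg (2 ^ k)
      rw [mem_normalizer_iff] at hgk
      rw [← map_pow] at hgk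
      constructor
      · intro hz
        refine hmemS _ ?_
        rw [map_mul, map_mul, map_inv]
        exact (hgk _).1 (hVeq ▸ Subgroup.mem_map_of_mem π hz)
      · intro hz
        refine hmemS _ ((hgk _).2 ?_)
        rw [← map_inv, ← map_mul, ← map_mul]
        exact hVeq ▸ Subgroup.mem_map_of_mem π hz
    have hcm : c ^ 2 ^ k * x * (c ^ 2 ^ k)⁻¹ * x⁻¹ ∈ E := by
      rw [← hker, MonoidHom.mem_ker, map_mul, map_mul, map_mul, map_inv, map_inv, map_pow,
        (Commute.pow_left (show Commute (π c) (π x) from hga) _).eq, mul_inv_cancel_right,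
        mul_inv_cancel]
    have hcy := hsemi _ hg2 hodd x hx hxE hcm y hy
    have hpy : Commute (π (c ^ 2 ^ k)) (π y) := by
      show π (c ^ 2 ^ k) * π y = π y * π (c ^ 2 ^ k)
      rw [← map_mul, hcy, map_mul]
    rw [map_pow] at hpy
    obtain ⟨j, hj⟩ := exists_pow_eq_self_of_coprime (x := π c)
      ((Nat.Coprime.pow_left k (Nat.coprime_two_left.2 hgo)))
    have h' := hpy.pow_left j
    rw [hj] at h'
    exact h'.eq
  have htwoX : ∃ u ∈ (V : Subgroup (C ⧸ E)), ∃ w ∈ (V : Subgroup (C ⧸ E)),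
      u ≠ 1 ∧ w ≠ 1 ∧ ¬ IsConj u w := by
    obtain ⟨x, hx, y, hy, hxE, hyE, hxy⟩ := htwo
    refine ⟨π x, hVeq ▸ Subgroup.mem_map_of_mem π hx, π y, hVeq ▸ Subgroup.mem_map_of_mem π hy,
      fun h => hxE (by rw [← hker]; exact h), fun h => hyE (by rw [← hker]; exact h), fun h => ?_⟩
    obtain ⟨g, hg⟩ := isConj_iff.1 h
    obtain ⟨c, rfl⟩ := hπs g
    have he : y⁻¹ * (c * x * c⁻¹) ∈ E := by
      rw [← hker, MonoidHom.mem_ker, map_mul, map_mul, map_mul, map_inv, map_inv, hg,
        inv_mul_cancel]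
    obtain ⟨e, he', hye⟩ : ∃ e ∈ E, c * x * c⁻¹ = y * e := ⟨_, he, by group⟩
    apply hxy
    calc x * x = c * (x * x) * c⁻¹ := by
          rw [hcen _ (hsq x hx) c, mul_inv_cancel_right]
      _ = c * x * c⁻¹ * (c * x * c⁻¹) := by group
      _ = y * y * (e * e) := by
          rw [hye, mul_assoc, ← mul_assoc e y e, ← hcen e he' y]
          group
      _ = y * y := by rw [hE.sq he', mul_one]
  haveI : Group.IsSolvable (C ⧸ E) :=
    isSolvable_of_abelian_sylow V hFT hVe h8 hcoreX hfixX htwoX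
  haveI : Group.IsSolvable E := Group.isSolvable_of_comm fun a b =>
    Subtype.ext (hE.comm a.2 b.2)
  exact Group.isSolvable_of_ker_le_range E.subtype π (by simp [hπ])

end Cfsg.Agent.Pyramid
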