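import Cfsg.Agent.Pyramid.Dichotomy
import Cfsg.Agent.Pyramid.CoreSolvable
import Cfsg.Agent.PSolv.Cores
import Cfsg.Agent.S0205

/-!
# The centraliser of the involutions is soluble
-/

set_option autoImplicit false
set_option linter.unusedSectionVars false

universe u

namespace Cfsg.Agent.Pyramid

variable {H : Type u} [Group H] [Finite H] {E : Subgroup H} {p : ℕ}

/-- A 2-subgroup centralising `E` whose normaliser is transitive on `E` satisfies the dichotomy. -/
theorem two_subgroup_dichotomy (hE : IsInvSub E) (hp : p.Prime) (hp2 : p ≠ 2)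
    (hcard : Nat.card E = p + 1) {S : Subgroup H} (hS : IsPGroup 2 S)
    (hSC : S ≤ Subgroup.centralizer (E : Set H)) (hES : E ≤ S)
    (htr : ∀ a ∈ E, ∀ b ∈ E, a ≠ 1 → b ≠ 1 →
      ∃ g ∈ Subgroup.normalizer (S : Set H), g * a * g⁻¹ = b) :
    (∀ x y : S, x * y = y * x) ∨
      (SqData (E.subgroupOf S) ∧ RootTrans (E.subgroupOf S) ∧
        (Nat.card S = (p + 1) ^ 2 ∨ Nat.card S = (p + 1) ^ 3)) := by
  classical
  haveI : Fact p.Prime := ⟨hp⟩
  obtain ⟨x₀, hx₀, hx1⟩ : ∃ x ∈ E, x ≠ (1 : H) := by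
    by_contra h
    push Not at h
    have : E = ⊥ := (Subgroup.eq_bot_iff_forall _).2 h
    rw [this, Subgroup.card_bot] at hcard
    have := hp.pos
    omega
  set N := Subgroup.normalizer (S : Set H)
  let St : Subgroup N := (Subgroup.centralizer ({x₀} : Set H)).subgroupOf N
  have hSt : ∀ g : N, g ∈ St ↔ (g : H) * x₀ = x₀ * g := fun g => by
    rw [Subgroup.mem_subgroupOf, Subgroup.mem_centralizer_singleton_iff]
  let φ : N ⧸ St → {e : H // e ∈ E ∧ e ≠ 1} := Quotient.lift
    (fun g : N => ⟨(g : H) * x₀ * (g : H)⁻¹, hE.conj_mem hx₀ _, fun h => hx1 (conj_eq_one_iff.1 h)⟩)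
    (fun a b hab => by
      have h := (hSt _).1 (QuotientGroup.leftRel_apply.1 hab)
      push_cast at h
      refine Subtype.ext ?_
      show (a : H) * x₀ * (a : H)⁻¹ = b * x₀ * (b : H)⁻¹
      calc (a : H) * x₀ * (a : H)⁻¹ = a * (x₀ * ((a : H)⁻¹ * b)) * (b : H)⁻¹ := by group
        _ = a * ((a : H)⁻¹ * b * x₀) * (b : H)⁻¹ := by rw [h]
        _ = b * x₀ * (b : H)⁻¹ := by group)
  have hφ : Function.Bijective φ := by
    constructor
    · intro a b
      induction a using Quotient.inductionOn with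
      | h a =>
        induction b using Quotient.inductionOn with
        | h b =>
          intro hab
          have h : (a : H) * x₀ * (a : H)⁻¹ = b * x₀ * (b : H)⁻¹ := congrArg Subtype.val hab
          refine Quotient.sound (QuotientGroup.leftRel_apply.2 ((hSt _).2 ?_))
          push_cast
          calc (a : H)⁻¹ * b * x₀ = (a : H)⁻¹ * (b * x₀ * (b : H)⁻¹) * b := by group
            _ = (a : H)⁻¹ * (a * x₀ * (a : H)⁻¹) * b := by rw [h]
            _ = x₀ * ((a : H)⁻¹ * b) := by group
    · rintro ⟨e, he, he1⟩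
      obtain ⟨g, hg, hge⟩ := htr x₀ hx₀ e he hx1 he1
      exact ⟨QuotientGroup.mk ⟨g, hg⟩, Subtype.ext hge⟩
  have hidx : St.index = p := by
    rw [Subgroup.index, Nat.card_eq_of_bijective φ hφ]
    have h := Nat.card_congr
      (Equiv.sumCompl (fun x : E => (x : H) ≠ 1))
    rw [Nat.card_sum, hcard] at h
    have h1 : Nat.card {x : E // ¬ (x : H) ≠ 1} = 1 := by
      rw [Nat.card_eq_one_iff_exists]
      exact ⟨⟨1, by simp⟩, fun y => Subtype.ext (Subtype.ext (not_not.1 y.2))⟩
    have h2 : Nat.card {x : E // (x : H) ≠ 1} = Nat.card {e : H // e ∈ E ∧ e ≠ 1} :=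
      Nat.card_congr
        { toFun := fun x => ⟨x.1.1, x.1.2, x.2⟩
          invFun := fun x => ⟨⟨x.1, x.2.1⟩, x.2.2⟩
          left_inv := fun x => rfl
          right_inv := fun x => rfl }
    omega
  obtain ⟨P⟩ := (inferInstance : Nonempty (Sylow p N))
  obtain ⟨g, hgP, hgm⟩ : ∃ g ∈ (P : Subgroup N), g ∉ St := by
    by_contra h
    push Not at h
    have hdvd := Subgroup.index_dvd_of_le h
    rw [hidx] at hdvd
    exact P.not_dvd_index hdvd
  obtain ⟨m, hm⟩ := P.isPGroup' ⟨g, hgP⟩
  have hgm' : g ^ (p ^ m) = 1 := congrArg Subtype.val hm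
  let γ : MulAut S := S.normalizerMonoidHom g
  have hγ : γ ^ (p ^ m) = 1 := by
    show (S.normalizerMonoidHom g) ^ (p ^ m) = 1
    rw [← map_pow, hgm', map_one]
  have hγa : ∀ x : S, ((γ x : S) : H) = (g : H) * x * (g : H)⁻¹ := fun x => rfl
  have hE' : IsInvSub (E.subgroupOf S) := fun x => by
    rw [Subgroup.mem_subgroupOf, hE, Subtype.ext_iff]; rfl
  refine structure_dichotomy hS hE' ?_ hp hp2 ?_ hγ (x₀ := ⟨x₀, hES hx₀⟩) hx₀ ?_
  · intro e he
    rw [Subgroup.mem_center_iff]
    exact fun y => Subtype.ext (Subgroup.mem_centralizer_iff.1 (hSC y.2) e he).symm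
  · rw [Nat.card_congr (Subgroup.subgroupOfEquivOfLe hES).toEquiv, hcard]
  · intro h
    apply hgm
    rw [hSt]
    have h' := (hγa ⟨x₀, hES hx₀⟩).symm.trans (congrArg Subtype.val h)
    calc (g : H) * x₀ = g * x₀ * (g : H)⁻¹ * g := by group
      _ = x₀ * g := by rw [show (g : H) * x₀ * (g : H)⁻¹ = x₀ from h']

/-- Two elements outside `E` have different squares. -/
theorem exists_two_squares {S : Type*} [Group S] [Finite S] {F : Subgroup S} (h : SqData F)
    (htr : RootTrans F) (h3 : 3 ≤ Nat.card F) (hlt : Nat.card F < Nat.card S) :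
    ∃ x y : S, x ∉ F ∧ y ∉ F ∧ x * x ≠ y * y := by
  obtain ⟨x, hx⟩ : ∃ x, x ∉ F := by
    by_contra hall
    push Not at hall
    rw [(Subgroup.eq_top_iff' F).2 hall, Subgroup.card_top] at hlt
    exact lt_irrefl _ hlt
  have hx2 : x * x ≠ 1 := fun h' => hx ((h.inv x).2 h')
  obtain ⟨b, hb, hb1, hbx⟩ : ∃ b ∈ F, b ≠ 1 ∧ b ≠ x * x := by
    by_contra hno
    push Not at hno
    have : Nat.card F ≤ 2 := by
      classical
      haveI : Fintype F := Fintype.ofFinite F
      rw [Nat.card_eq_fintype_card, Fintype.card]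
      refine (Finset.card_le_card (t := {1, ⟨x * x, h.sq x⟩}) fun e _ => ?_).trans Finset.card_le_two
      by_cases he : (e : S) = 1
      · simp [Subtype.ext_iff, he]
      · simp [Subtype.ext_iff, hno e.1 e.2 he]
    omega
  obtain ⟨σ, hσ⟩ := htr _ (h.sq x) b hb hx2 hb1
  have hy : σ x * σ x = b := (hσ x).1 rfl
  exact ⟨x, σ x, hx, fun hy' => hb1 (hy.symm.trans (h.inv.sq hy')), by rw [hy]; exact hbx.symm⟩

/-- The case `|E| = 4`, `|S| = 16`. -/
theorem comm_of_sixteen {S : Type*} [Group S] [Finite S] {F : Subgroup S} (h : SqData F)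
    (htr : RootTrans F) (hM : ∃ M : Subgroup ↥F, M.index = 2) (hF : Nat.card F = 4)
    (hS : Nat.card S = 16) (x y : S) : x * y = y * x := by
  classical
  by_cases hxE : x ∈ F
  · exact (h.comm_e hxE y).symm
  by_cases hyE : y ∈ F
  · exact h.comm_e hyE x
  by_cases hxyE : x⁻¹ * y ∈ F
  · have := h.comm_e hxyE x
    calc x * y = x * (x * (x⁻¹ * y)) := by group
      _ = x * ((x⁻¹ * y) * x) := by rw [this]
      _ = y * x := by group
  obtain ⟨M, hM⟩ := hM
  obtain ⟨c, hc, hroots, -⟩ := sum_sq_sign h M hM htr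
  rw [hF, hS] at hc
  have hc4 : c = 4 := by omega
  have hcoset : ∀ u v : S, u ∉ F → v * v = u * u → u⁻¹ * v ∈ F := by
    intro u v hu hv
    let f : ↥F → {z : S // z * z = u * u} := fun e => ⟨u * e.1, by
      rw [h.sq_mul, h.inv.sq e.2, mul_one, mul_assoc u⁻¹, ← h.comm_e e.2 u]
      group⟩
    have hb : Function.Bijective f :=
      (Nat.bijective_iff_injective_and_card f).2
        ⟨fun e e' hee => Subtype.ext (mul_left_cancel (congrArg Subtype.val hee)), by
          rw [hroots _ (h.sq u) (fun h' => hu ((h.inv u).2 h')), hc4, hF]⟩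
    obtain ⟨e, he⟩ := hb.2 ⟨v, hv⟩
    have : u * e.1 = v := congrArg Subtype.val he
    rw [← this, inv_mul_cancel_left]
    exact e.2
  have hxy : x * y ∉ F := fun h' => hxyE (by
    have e : x⁻¹ * y = (x * x)⁻¹ * (x * y) := by group
    rw [e]; exact F.mul_mem (F.inv_mem (h.sq x)) h')
  haveI : Fintype F := Fintype.ofFinite F
  let a : F := ⟨x * x, h.sq x⟩
  let b : F := ⟨y * y, h.sq y⟩
  let d : F := ⟨x * y * (x * y), h.sq _⟩
  have ha : a ≠ 1 := fun h' => hxE ((h.inv x).2 (congrArg Subtype.val h'))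
  have hb : b ≠ 1 := fun h' => hyE ((h.inv y).2 (congrArg Subtype.val h'))
  have hd : d ≠ 1 := fun h' => hxy ((h.inv _).2 (congrArg Subtype.val h'))
  have hab : a ≠ b := fun h' => hxyE (hcoset x y hxE (congrArg Subtype.val h').symm)
  have hda : d ≠ a := fun h' => hyE (by
    have := hcoset x (x * y) hxE (congrArg Subtype.val h')
    rwa [inv_mul_cancel_left] at this)
  have hdb : d ≠ b := fun h' => hxE (by
    have := hcoset y (x * y) hyE (congrArg Subtype.val h')
    have e : x = y * (y⁻¹ * (x * y)) * y⁻¹ := by group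
    rw [e]; exact h.inv.conj_mem this y)
  have haa : a * a = 1 := Subtype.ext (h.inv.sq a.2)
  have hbb : b * b = 1 := Subtype.ext (h.inv.sq b.2)
  have hall : d = a * b := by
    by_contra hne
    have h1 : a * b ≠ 1 := fun h' => hab (mul_left_cancel (haa.trans h'.symm))
    have h2 : a * b ≠ a := fun h' => hb (mul_eq_left.1 h')
    have h3 : a * b ≠ b := fun h' => ha (mul_eq_right.1 h')
    have : ({1, a, b, a * b, d} : Finset F).card = 5 := by
      rw [Finset.card_insert_of_notMem (by simp [ha.symm, hb.symm, h1.symm, hd.symm]),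
        Finset.card_insert_of_notMem (by simp [hab, h2.symm, hda.symm]),
        Finset.card_insert_of_notMem (by simp [h3.symm, hdb.symm]),
        Finset.card_insert_of_notMem (by simp [Ne.symm hne]), Finset.card_singleton]
    have hle := Finset.card_le_univ ({1, a, b, a * b, d} : Finset F)
    rw [this, ← Nat.card_eq_fintype_card, hF] at hle
    omega
  have hk : x⁻¹ * y * x * y⁻¹ = 1 := by
    have e : x * y * (x * y) = x * x * (y * y) := congrArg Subtype.val hall
    rw [h.sq_mul, mul_eq_left] at e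
    exact e
  calc x * y = x * (x⁻¹ * y * x * y⁻¹) * y := by rw [hk, mul_one]
    _ = y * x := by group

/-- The centraliser of the involutions is soluble. -/
theorem centralizer_isSolvable (hE : IsInvSub E) (hp : p.Prime) (hp2 : p ≠ 2)
    (hcard : Nat.card E = p + 1) (htrans : ConjTrans E) (hcore : CoreFree₂ H) :
    Group.IsSolvable (Subgroup.centralizer (E : Set H)) := by
  classical
  haveI := hE.normal
  haveI : Fact (Nat.Prime 2) := ⟨Nat.prime_two⟩
  set C := Subgroup.centralizer (E : Set H) with hC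
  have hFT : ∀ (Y : Type u) [Group Y] [Finite Y], Odd (Nat.card Y) → Group.IsSolvable Y :=
    fun Y _ _ hY => Cfsg.Agent.S0205.result hY
  obtain ⟨S⟩ := (inferInstance : Nonempty (Sylow 2 C))
  let E' : Subgroup C := E.subgroupOf C
  have hEC : E ≤ C := fun x hx => hE.mem_centralizer hx
  have hE' : IsInvSub E' := fun x => by
    rw [Subgroup.mem_subgroupOf, hE, Subtype.ext_iff]; rfl
  have hcen : E' ≤ Subgroup.center C := fun e he => Subgroup.mem_center_iff.2 fun y =>
    Subtype.ext (Subgroup.mem_centralizer_iff.1 y.2 e he).symm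
  have hE'S : E' ≤ (S : Subgroup C) :=
    IsPGroup.le_sylow_of_normal (fun x => ⟨1, by
      rw [pow_one, pow_two]; exact Subtype.ext (hE'.sq x.2)⟩) S
  have hcC : CoreFree₂ C := by
    intro N hN hodd
    have h1 : (Nat.card (Cfsg.pPrimeCore 2 C)).Coprime 2 := PSolv.coprime_card_pPrimeCore 2 C
    have hle : N ≤ Cfsg.pPrimeCore 2 C :=
      PSolv.le_pPrimeCore hN (Nat.coprime_two_right.2 hodd)
    have hnorm : ((Cfsg.pPrimeCore 2 C).map C.subtype).Normal := by
      refine ⟨?_⟩
      rintro _ ⟨z, hz, rfl⟩ g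
      have hmem := Subgroup.mem_map_of_mem (MulAut.conjNormal (H := C) g).toMonoidHom hz
      rw [PSolv.map_pPrimeCore_equiv] at hmem
      exact ⟨_, hmem, by simp [MulAut.conjNormal_apply]⟩
    have := hcore _ hnorm (by
      rw [Subgroup.card_map_of_injective C.subtype_injective]
      exact Nat.coprime_two_right.1 h1)
    rw [Subgroup.map_eq_bot_iff_of_injective _ C.subtype_injective] at this
    exact le_bot_iff.1 (this ▸ hle)
  let S₀ : Subgroup H := (S : Subgroup C).map C.subtype
  have hS₀C : S₀ ≤ C := Subgroup.map_subtype_le _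
  have hES₀ : E ≤ S₀ := fun e he => ⟨⟨e, hEC he⟩, hE'S he, rfl⟩
  have hS₀p : IsPGroup 2 S₀ := S.isPGroup'.map _
  have htr : ∀ a ∈ E, ∀ b ∈ E, a ≠ 1 → b ≠ 1 →
      ∃ g ∈ Subgroup.normalizer (S₀ : Set H), g * a * g⁻¹ = b := by
    intro a ha b hb ha1 hb1
    obtain ⟨g, hg⟩ := htrans a ha b hb ha1 hb1
    have hfr : Subgroup.normalizer (S₀ : Set H) ⊔ C = ⊤ := Sylow.normalizer_sup_eq_top S
    have hgm : g ∈ C ⊔ Subgroup.normalizer (S₀ : Set H) := by rw [sup_comm, hfr]; trivial
    obtain ⟨c, hc, n, hn, rfl⟩ := Subgroup.mem_sup_of_normal_left.1 hgm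
    refine ⟨n, hn, ?_⟩
    have hcb := Subgroup.mem_centralizer_iff.1 hc b hb
    calc n * a * n⁻¹ = c⁻¹ * (c * n * a * (c * n)⁻¹) * c := by group
      _ = c⁻¹ * (b * c) := by rw [hg, mul_assoc]
      _ = b := by rw [hcb, inv_mul_cancel_left]
  -- automorphisms induced by the normaliser of `S`
  let ψ : Subgroup.normalizer ((S : Subgroup C) : Set C) →* MulAut (S : Subgroup C) :=
    (S : Subgroup C).normalizerMonoidHom
  have hψfix : ∀ g, ∀ e ∈ E'.subgroupOf (S : Subgroup C), ψ g e = e := by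
    intro g e he
    refine Subtype.ext ?_
    show (g : C) * e * (g : C)⁻¹ = e
    rw [Subgroup.mem_center_iff.1 (hcen (Subgroup.mem_subgroupOf.1 he)) (g : C), mul_inv_cancel_right]
  have hE'' : IsInvSub (E'.subgroupOf (S : Subgroup C)) := fun x => by
    rw [Subgroup.mem_subgroupOf, hE']
    exact ⟨fun h => Subtype.ext h, fun h => congrArg Subtype.val h⟩
  have burn : (∀ g : Subgroup.normalizer ((S : Subgroup C) : Set C), Odd (orderOf g) →
      ∀ y, ψ g y = y) → (∀ x ∈ (S : Subgroup C), ∀ y ∈ (S : Subgroup C), x * y = y * x) →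
      Group.IsSolvable C := by
    intro hfix hab
    have hle : Subgroup.normalizer ((S : Subgroup C) : Set C) ≤
        Subgroup.centralizer ((S : Subgroup C) : Set C) := by
      intro g hg
      obtain ⟨k, hodd, m, -, hmk, hgen⟩ := exists_two_pow_odd (⟨g, hg⟩ : Subgroup.normalizer _)
      refine (hgen ((Subgroup.centralizer ((S : Subgroup C) : Set C)).subgroupOf _) ?_ ?_ :)
      · rw [Subgroup.mem_subgroupOf]
        have hmem : ((⟨g, hg⟩ : Subgroup.normalizer _) ^ m : Subgroup.normalizer _).1 ∈ (S : Subgroup C) := by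
          set w := (⟨g, hg⟩ : Subgroup.normalizer ((S : Subgroup C) : Set C)) ^ m with hw
          have hwp : IsPGroup 2 (Subgroup.zpowers (w : C)) := by
            obtain ⟨j, -, hj⟩ := (Nat.dvd_prime_pow Nat.prime_two).1 (orderOf_dvd_of_pow_eq_one hmk)
            exact IsPGroup.of_card (n := j) (by rw [Nat.card_zpowers, Subgroup.orderOf_coe, hj])
          have hsup : IsPGroup 2 ↥((S : Subgroup C) ⊔ Subgroup.zpowers (w : C)) :=
            S.isPGroup'.to_sup_of_normal_left' hwp (by rw [Subgroup.zpowers_le]; exact w.2)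
          exact (S.is_maximal' hsup le_sup_left).le
            (le_sup_right (a := (S : Subgroup C)) (Subgroup.mem_zpowers _))
        exact Subgroup.mem_centralizer_iff.2 fun y hy => hab y hy _ hmem
      · rw [Subgroup.mem_subgroupOf]
        refine Subgroup.mem_centralizer_iff.2 fun y hy => ?_
        have h := congrArg Subtype.val (hfix _ hodd ⟨y, hy⟩)
        have h' : ((⟨g, hg⟩ : Subgroup.normalizer _) ^ 2 ^ k : Subgroup.normalizer _).1 * y *
            (((⟨g, hg⟩ : Subgroup.normalizer _) ^ 2 ^ k : Subgroup.normalizer _).1)⁻¹ = y := h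
        rw [mul_inv_eq_iff_eq_mul] at h'
        exact h'.symm
    have hcompl := MonoidHom.ker_transferSylow_isComplement' S hle
    set K := (MonoidHom.transferSylow S hle).ker
    have hKodd : Odd (Nat.card K) := by
      have h1 : Nat.card K * Nat.card (S : Subgroup C) = Nat.card C := hcompl.card_mul_card
      have h2 := (S : Subgroup C).card_mul_index
      have h3 : Nat.card K = (S : Subgroup C).index :=
        Nat.eq_of_mul_eq_mul_left (Nat.card_pos (α := (S : Subgroup C)))
          (by rw [mul_comm, h1, h2])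
      rw [h3]
      exact Nat.not_even_iff_odd.1 fun h => S.not_dvd_index (even_iff_two_dvd.1 h)
    have hK : K = ⊥ := hcC K (MonoidHom.normal_ker _) hKodd
    haveI : IsMulCommutative (S : Subgroup C) := ⟨⟨fun a b => Subtype.ext (hab a a.2 b b.2)⟩⟩
    have htop : (S : Subgroup C) = ⊤ := by
      refine Subgroup.eq_top_of_card_eq _ ?_
      have h1 : Nat.card K * Nat.card (S : Subgroup C) = Nat.card C := hcompl.card_mul_card
      rw [hK, Subgroup.card_bot, one_mul] at h1
      exact h1
    exact Group.isSolvable_of_comm fun a b =>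
      hab a (htop ▸ Subgroup.mem_top a) b (htop ▸ Subgroup.mem_top b)
  have hS'p : IsPGroup 2 (S : Subgroup C) := S.isPGroup'
  have hψpow : ∀ g : Subgroup.normalizer ((S : Subgroup C) : Set C), ψ g ^ orderOf g = 1 :=
    fun g => by rw [← map_pow, pow_orderOf_eq_one, map_one]
  -- transport to `S₀`
  let ι : (S : Subgroup C) ≃* S₀ := (S : Subgroup C).equivMapOfInjective _ C.subtype_injective
  have hι : ∀ x : (S : Subgroup C), ((ι x : S₀) : H) = ((x : C) : H) := fun x => rfl
  rcases two_subgroup_dichotomy hE hp hp2 hcard hS₀p hS₀C hES₀ htr with hab | ⟨hd, hrt, hord⟩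
  · have hab' : ∀ x y : (S : Subgroup C), x * y = y * x := fun x y => by
      apply ι.injective; rw [map_mul, map_mul, hab]
    exact burn (fun g hg => aut_fix_of_comm hS'p hE'' hab' hg (hψpow g) (hψfix g))
      (fun x hx y hy => congrArg Subtype.val (hab' ⟨x, hx⟩ ⟨y, hy⟩))
  have hmemE : ∀ x : (S : Subgroup C), x ∈ E'.subgroupOf (S : Subgroup C) ↔
      ι x ∈ E.subgroupOf S₀ := fun x => Iff.rfl
  have hd' : SqData (E'.subgroupOf (S : Subgroup C)) :=
    { inv := hE''
      central := fun e he => Subgroup.mem_center_iff.2 fun y =>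
        Subtype.ext (Subgroup.mem_center_iff.1 (hcen he) y)
      sq := fun x => (hmemE _).2 (by rw [map_mul]; exact hd.sq _) }
  have hrt' : RootTrans (E'.subgroupOf (S : Subgroup C)) := by
    intro a ha b hb ha1 hb1
    obtain ⟨σ, hσ⟩ := hrt (ι a) ((hmemE a).1 ha) (ι b) ((hmemE b).1 hb)
      (fun h => ha1 (ι.map_eq_one_iff.1 h)) (fun h => hb1 (ι.map_eq_one_iff.1 h))
    refine ⟨(ι.toEquiv.trans σ).trans ι.symm.toEquiv, fun x => ?_⟩
    show x * x = a ↔ ι.symm (σ (ι x)) * ι.symm (σ (ι x)) = b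
    rw [← map_mul, MulEquiv.symm_apply_eq, ← hσ, ← map_mul, EmbeddingLike.apply_eq_iff_eq]
  have hcS : Nat.card (S : Subgroup C) = Nat.card S₀ := Nat.card_congr ι.toEquiv
  have hcE : Nat.card (E'.subgroupOf (S : Subgroup C)) = p + 1 := by
    rw [Nat.card_congr (Subgroup.subgroupOfEquivOfLe hE'S).toEquiv,
      Nat.card_congr (Subgroup.subgroupOfEquivOfLe hEC).toEquiv, hcard]
  have hM : ∃ M : Subgroup ↥(E'.subgroupOf (S : Subgroup C)), M.index = 2 := by
    obtain ⟨s, hs⟩ := (hS'p.to_subgroup (E'.subgroupOf (S : Subgroup C))).exists_card_eq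
    have hs0 : s ≠ 0 := by
      rintro rfl; rw [pow_zero, hcE] at hs; have := hp.two_le; omega
    obtain ⟨M, hM⟩ := Sylow.exists_subgroup_card_pow_prime
      (G := ↥(E'.subgroupOf (S : Subgroup C))) 2 (n := s - 1)
      (by rw [hs]; exact pow_dvd_pow 2 (Nat.sub_le s 1))
    refine ⟨M, ?_⟩
    have := M.card_mul_index
    rw [hM, hs] at this
    have e : 2 ^ s = 2 ^ (s - 1) * 2 := by rw [← pow_succ, Nat.sub_add_cancel (by omega)]
    rw [e] at this
    exact Nat.eq_of_mul_eq_mul_left (by positivity) this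
  rcases hord with hsq | hcube
  · have hcsq : Nat.card (S : Subgroup C) = Nat.card (E'.subgroupOf (S : Subgroup C)) ^ 2 := by
      rw [hcS, hsq, hcE]
    have hfix : ∀ g : Subgroup.normalizer ((S : Subgroup C) : Set C), Odd (orderOf g) →
        ∀ y, ψ g y = y := fun g hg =>
      aut_fix_of_square hd' hrt' (by rw [hcE]; have := hp.pos; omega) hcsq hM hg (hψpow g) (hψfix g)
    by_cases hab : ∀ x y : (S : Subgroup C), x * y = y * x
    · exact burn hfix (fun x hx y hy => congrArg Subtype.val (hab ⟨x, hx⟩ ⟨y, hy⟩))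
    -- the normaliser acts trivially on `S`, so Burnside's argument applies to `C / E`
    refine isSolvable_of_semiregular hFT E' S hE' hcen hcC (fun x hx => hd'.sq ⟨x, hx⟩) ?_ ?_ ?_
    · by_contra hlt
      push Not at hlt
      rw [hcS, hsq, Nat.card_congr (Subgroup.subgroupOfEquivOfLe hEC).toEquiv, hcard] at hlt
      -- here `|E| = 4` and `|S| = 16`
      have := hp.two_le
      have hp3 : p = 3 := by
        by_contra h3
        have : 4 ≤ p := by omega
        have : p ≠ 4 := fun h4 => absurd (h4 ▸ hp) (by norm_num)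
        have : p ≠ 5 := fun h5 => by
          obtain ⟨s, hs⟩ := (hS'p.to_subgroup (E'.subgroupOf (S : Subgroup C))).exists_card_eq
          rw [hcE, h5] at hs
          have hs3 : s < 3 := by
            by_contra hh
            have : 2 ^ 3 ≤ 2 ^ s := Nat.pow_le_pow_right two_pos (by omega)
            omega
          interval_cases s <;> omega
        have : p ≠ 6 := fun h6 => absurd (h6 ▸ hp) (by norm_num)
        have : 7 ≤ p := by omega
        nlinarith
      exact hab (comm_of_sixteen hd' hrt' hM (by rw [hcE, hp3]) (by rw [hcsq, hcE, hp3]; norm_num))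
    · obtain ⟨x, y, hx, hy, hxy⟩ := exists_two_squares hd' hrt' (by rw [hcE]; have := hp.two_le; omega)
        (by rw [hcsq, hcE]; have := hp.two_le; nlinarith)
      exact ⟨x, x.2, y, y.2, hx, hy, fun h => hxy (Subtype.ext h)⟩
    · intro g hg hodd x hx hxE _ y hy
      have := congrArg Subtype.val (hfix ⟨g, hg⟩ (by rwa [← Subgroup.orderOf_coe]) ⟨y, hy⟩)
      have h' : g * y * g⁻¹ = y := this
      rwa [mul_inv_eq_iff_eq_mul] at h'
  · have hcc : Nat.card (S : Subgroup C) = Nat.card (E'.subgroupOf (S : Subgroup C)) ^ 3 := by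
      rw [hcS, hcube, hcE]
    refine isSolvable_of_semiregular hFT E' S hE' hcen hcC (fun x hx => hd'.sq ⟨x, hx⟩) ?_ ?_ ?_
    · rw [hcS, hcube, Nat.card_congr (Subgroup.subgroupOfEquivOfLe hEC).toEquiv, hcard]
      have := hp.two_le
      have hp3 : 3 ≤ p := by omega
      nlinarith [Nat.mul_le_mul (show 4 ≤ p + 1 by omega) (show 4 ≤ p + 1 by omega)]
    · obtain ⟨x, y, hx, hy, hxy⟩ := exists_two_squares hd' hrt' (by rw [hcE]; have := hp.two_le; omega)
        (by rw [hcc, hcE]; exact lt_self_pow₀ (by have := hp.two_le; omega) (by norm_num))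
      exact ⟨x, x.2, y, y.2, hx, hy, fun h => hxy (Subtype.ext h)⟩
    · intro g hg hodd x hx hxE hxg y hy
      have hxE' : (⟨x, hx⟩ : (S : Subgroup C)) ∉ E'.subgroupOf (S : Subgroup C) := hxE
      have := congrArg Subtype.val (aut_fix_of_cube hd' hcc hrt' (σ := ψ ⟨g, hg⟩)
        (n := orderOf (⟨g, hg⟩ : Subgroup.normalizer _)) (by rwa [← Subgroup.orderOf_coe])
        (hψpow _) (hψfix _) hxE' (x := ⟨x, hx⟩) ?_ ⟨y, hy⟩)
      · have h' : g * y * g⁻¹ = y := this
        rwa [mul_inv_eq_iff_eq_mul] at h'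
      · show x⁻¹ * (g * x * g⁻¹) ∈ E'
        have := hE'.conj_mem hxg x⁻¹
        convert this using 1
        group

end Cfsg.Agent.Pyramid
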