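import Cfsg.Agent.Pyramid.Basic

/-!
# The sign count for a squaring map into a central subgroup of involutions
-/

set_option autoImplicit false
set_option linter.unusedSectionVars false

namespace Cfsg.Agent.Pyramid

variable {S : Type*} [Group S] {E : Subgroup S}

/-- A group whose squares lie in the central subgroup `E` of all elements of square one. -/
structure SqData (E : Subgroup S) : Prop where
  inv : IsInvSub E
  central : E ≤ Subgroup.center S
  sq : ∀ x : S, x * x ∈ E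

namespace SqData

variable (h : SqData E)
include h

theorem comm_e {e : S} (he : e ∈ E) (x : S) : x * e = e * x :=
  Subgroup.mem_center_iff.1 (h.central he) x

theorem k_mem (x y : S) : x⁻¹ * y * x * y⁻¹ ∈ E := by
  have e : x⁻¹ * y * x * y⁻¹ = (x * x)⁻¹ * (x * y * (x * y)) * (y * y)⁻¹ := by group
  rw [e]
  exact E.mul_mem (E.mul_mem (E.inv_mem (h.sq x)) (h.sq _)) (E.inv_mem (h.sq y))

theorem sq_mul (x y : S) : x * y * (x * y) = x * x * (y * y) * (x⁻¹ * y * x * y⁻¹) := by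
  have e : x * y * (x * y) = x * x * ((x⁻¹ * y * x * y⁻¹) * (y * y)) := by group
  rw [e, ← h.comm_e (h.k_mem x y) (y * y), ← mul_assoc]

theorem k_mul_left (x x' y : S) :
    (x * x')⁻¹ * y * (x * x') * y⁻¹ = (x⁻¹ * y * x * y⁻¹) * (x'⁻¹ * y * x' * y⁻¹) := by
  have e : (x * x')⁻¹ * y * (x * x') * y⁻¹ =
      x'⁻¹ * (x⁻¹ * y * x * y⁻¹) * y * x' * y⁻¹ := by group
  rw [e, h.comm_e (h.k_mem x y) x'⁻¹]
  group

theorem k_mul_right (x y y' : S) :
    x⁻¹ * (y * y') * x * (y * y')⁻¹ = (x⁻¹ * y * x * y⁻¹) * (x⁻¹ * y' * x * y'⁻¹) := by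
  have e : x⁻¹ * (y * y') * x * (y * y')⁻¹ =
      (x⁻¹ * y * x * y⁻¹) * (y * (x⁻¹ * y' * x * y'⁻¹) * y⁻¹) := by group
  rw [e, h.comm_e (h.k_mem x y') y]
  group

theorem k_self_e {e : S} (he : e ∈ E) (x : S) : x⁻¹ * e * x * e⁻¹ = 1 := by
  rw [mul_assoc x⁻¹, ← h.comm_e he x]
  group

theorem mem_of_sq_eq {x y : S} (hxy : x * x = y * y) (hc : x * y = y * x) : x⁻¹ * y ∈ E := by
  refine (h.inv _).2 ?_
  calc x⁻¹ * y * (x⁻¹ * y) = x⁻¹ * (y * x⁻¹) * y := by group
    _ = x⁻¹ * (x⁻¹ * y) * y := by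
        congr 2
        calc y * x⁻¹ = x⁻¹ * (x * y) * x⁻¹ := by group
          _ = x⁻¹ * (y * x) * x⁻¹ := by rw [hc]
          _ = x⁻¹ * y := by group
    _ = (x * x)⁻¹ * (y * y) := by group
    _ = 1 := by rw [hxy]; group

end SqData

section Sums

open scoped Classical

/-- A multiplicative sign function sums to the order of the group or to zero. -/
theorem sum_sign {A : Type*} [Group A] [Fintype A] (f : A → ℤ) (hf : ∀ a b, f (a * b) = f a * f b)
    (hv : ∀ a, f a = 1 ∨ f a = -1) :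
    ((∀ a, f a = 1) ∧ ∑ a, f a = Fintype.card A) ∨ ((∃ a, f a = -1) ∧ ∑ a, f a = 0) := by
  by_cases h : ∀ a, f a = 1
  · exact Or.inl ⟨h, by simp [h]⟩
  · push Not at h
    obtain ⟨a, ha⟩ := h
    have ha' : f a = -1 := (hv a).resolve_left ha
    refine Or.inr ⟨⟨a, ha'⟩, ?_⟩
    have e := Fintype.sum_equiv (Equiv.mulLeft a) (fun b => f (a * b)) f (fun b => rfl)
    simp only [hf, ha', neg_mul, one_mul, Finset.sum_neg_distrib] at e
    omega

/-- The sign attached to a subgroup. -/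
noncomputable def sgn {A : Type*} [Group A] (M : Subgroup A) (a : A) : ℤ := if a ∈ M then 1 else -1

theorem sgn_mul {A : Type*} [Group A] {M : Subgroup A} (hM : M.index = 2) (a b : A) :
    sgn M (a * b) = sgn M a * sgn M b := by
  have := Subgroup.mul_mem_iff_of_index_two hM (a := a) (b := b)
  unfold sgn
  by_cases ha : a ∈ M <;> by_cases hb : b ∈ M <;> simp [ha, hb, this]

theorem sgn_or {A : Type*} [Group A] (M : Subgroup A) (a : A) : sgn M a = 1 ∨ sgn M a = -1 := by
  unfold sgn; split <;> simp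

theorem sgn_sq {A : Type*} [Group A] (M : Subgroup A) (a : A) : sgn M a * sgn M a = 1 := by
  rcases sgn_or M a with h | h <;> rw [h] <;> norm_num

theorem sgn_eq_one {A : Type*} [Group A] (M : Subgroup A) (a : A) : sgn M a = 1 ↔ a ∈ M := by
  unfold sgn; split <;> simp [*]

variable [Finite S] (h : SqData E)

/-- The radical of `M`. -/
def radical (h : SqData E) (M : Subgroup ↥E) : Subgroup S where
  carrier := {z | ∀ x : S, (⟨x⁻¹ * z * x * z⁻¹, h.k_mem x z⟩ : ↥E) ∈ M}
  one_mem' x := by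
    have : (⟨x⁻¹ * 1 * x * 1⁻¹, h.k_mem x 1⟩ : ↥E) = 1 := Subtype.ext (by simp)
    rw [this]; exact M.one_mem
  mul_mem' {z z'} hz hz' x := by
    have : (⟨x⁻¹ * (z * z') * x * (z * z')⁻¹, h.k_mem x _⟩ : ↥E) =
        ⟨_, h.k_mem x z⟩ * ⟨_, h.k_mem x z'⟩ := Subtype.ext (h.k_mul_right x z z')
    rw [this]; exact M.mul_mem (hz x) (hz' x)
  inv_mem' {z} hz x := by
    have e := h.k_mul_right x z z⁻¹
    have : (⟨x⁻¹ * z⁻¹ * x * z⁻¹⁻¹, h.k_mem x _⟩ : ↥E) = (⟨_, h.k_mem x z⟩ : ↥E)⁻¹ := by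
      refine Subtype.ext ?_
      rw [Subgroup.coe_inv]
      simp only [mul_inv_cancel, inv_one, mul_one, inv_mul_cancel] at e
      exact eq_inv_of_mul_eq_one_right e.symm
    rw [this]; exact M.inv_mem (hz x)

theorem le_radical (M : Subgroup ↥E) : E ≤ radical h M := fun e he x => by
  have : (⟨x⁻¹ * e * x * e⁻¹, h.k_mem x e⟩ : ↥E) = 1 := Subtype.ext (h.k_self_e he x)
  rw [this]; exact M.one_mem

/-- The number of square roots of a nontrivial element of `E` when they are equally many. -/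
theorem sum_sq_sign (M : Subgroup ↥E) (hM : M.index = 2)
    (htr : ∀ a ∈ E, ∀ b ∈ E, a ≠ 1 → b ≠ 1 → ∃ σ : S ≃ S, ∀ x, x * x = a ↔ σ x * σ x = b) :
    ∃ c : ℕ, Nat.card S = Nat.card E + (Nat.card E - 1) * c ∧
      (∀ e ∈ E, e ≠ 1 → Nat.card {x : S // x * x = e} = c) ∧
      (((Nat.card E : ℤ) - c) ^ 2 = 0 ∨
        ((Nat.card E : ℤ) - c) ^ 2 = Nat.card S * Nat.card (radical h M)) := by
  haveI : Fintype S := Fintype.ofFinite S
  let q : S → ↥E := fun x => ⟨x * x, h.sq x⟩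
  let N : ↥E → ℕ := fun e => (Finset.univ.filter fun x => q x = e).card
  have hN : ∀ e : ↥E, N e = Nat.card {x : S // x * x = e.1} := fun e => by
    rw [Nat.card_eq_fintype_card, Fintype.card_subtype]
    simp only [N, q, Subtype.ext_iff]
  have hN1 : N 1 = Nat.card E := by
    rw [hN]
    exact Nat.card_congr (Equiv.subtypeEquivRight fun x => by simpa using (h.inv x).symm)
  obtain ⟨c, hc⟩ : ∃ c, ∀ e : ↥E, e ≠ 1 → N e = c := by
    by_cases hex : ∃ e : ↥E, e ≠ 1
    · obtain ⟨e₀, he₀⟩ := hex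
      refine ⟨N e₀, fun e he => ?_⟩
      obtain ⟨σ, hσ⟩ := htr e.1 e.2 e₀.1 e₀.2
        (fun hh => he (Subtype.ext hh)) (fun hh => he₀ (Subtype.ext hh))
      rw [hN, hN]
      exact Nat.card_congr (σ.subtypeEquiv hσ)
    · exact ⟨0, fun e he => absurd ⟨e, he⟩ hex⟩
  have hsum : ∀ g : ↥E → ℤ, ∑ x : S, g (q x) = ∑ e : ↥E, (N e : ℤ) * g e := fun g => by
    rw [← Finset.sum_fiberwise_of_maps_to (t := Finset.univ) (g := q) (fun _ _ => Finset.mem_univ _)]
    refine Finset.sum_congr rfl fun e _ => ?_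
    rw [Finset.sum_congr rfl (fun x hx => by rw [(Finset.mem_filter.1 hx).2]), Finset.sum_const,
      nsmul_eq_mul]
  have hsplit : ∀ g : ↥E → ℤ, ∑ x : S, g (q x) =
      (Nat.card E : ℤ) * g 1 + c * ((∑ e, g e) - g 1) := fun g => by
    rw [hsum, ← Finset.add_sum_erase _ _ (Finset.mem_univ (1 : ↥E)), hN1,
      ← Finset.add_sum_erase _ g (Finset.mem_univ (1 : ↥E)), add_sub_cancel_left, Finset.mul_sum]
    congr 1
    refine Finset.sum_congr rfl fun e he => ?_
    rw [hc e (Finset.ne_of_mem_erase he)]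
  refine ⟨c, ?_, fun e he he1 => ?_, ?_⟩
  · have e := hsplit (fun _ => 1)
    simp only [Finset.sum_const, Finset.card_univ, nsmul_eq_mul, mul_one] at e
    rw [← Nat.card_eq_fintype_card, ← Nat.card_eq_fintype_card] at e
    have h1 : 1 ≤ Nat.card E := Nat.card_pos
    zify [h1]
    linarith
  · exact (hN ⟨e, he⟩).symm.trans (hc ⟨e, he⟩ fun hh => he1 (congrArg Subtype.val hh))
  obtain ⟨a, ha⟩ : ∃ a : ↥E, sgn M a = -1 := by
    by_contra hno
    push Not at hno
    have hall : ∀ b : ↥E, b ∈ M := fun b =>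
      (sgn_eq_one M b).1 ((sgn_or M b).resolve_right (hno b))
    have := hM
    rw [(Subgroup.eq_top_iff' M).2 hall, Subgroup.index_top] at this
    omega
  have hF : ∑ x : S, sgn M (q x) = (Nat.card E : ℤ) - c := by
    rw [hsplit]
    have h0 : ∑ e : ↥E, sgn M e = 0 := by
      rcases sum_sign (sgn M) (sgn_mul hM) (sgn_or M) with ⟨h1, -⟩ | ⟨-, h2⟩
      · rw [h1 a] at ha; norm_num at ha
      · exact h2
    rw [h0, (sgn_eq_one M 1).2 M.one_mem]
    ring
  let k : S → S → ↥E := fun x z => ⟨x⁻¹ * z * x * z⁻¹, h.k_mem x z⟩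
  have hq : ∀ x z, q (x * z) = q x * q z * k x z := fun x z => Subtype.ext (h.sq_mul x z)
  have hinner : ∀ z, ∑ x : S, sgn M (k x z) =
      if z ∈ radical h M then (Nat.card S : ℤ) else 0 := fun z => by
    rcases sum_sign (fun x => sgn M (k x z)) (fun x x' => by
      rw [← sgn_mul hM]; exact congrArg _ (Subtype.ext (h.k_mul_left x x' z)))
      (fun x => sgn_or M _) with ⟨h1, h2⟩ | ⟨⟨x, hx⟩, h2⟩
    · rw [if_pos (show z ∈ radical h M from fun x => (sgn_eq_one M _).1 (h1 x)), h2,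
        Nat.card_eq_fintype_card]
    · rw [if_neg, h2]
      intro hz
      rw [(sgn_eq_one M _).2 (hz x)] at hx
      norm_num at hx
  have hsq : ((Nat.card E : ℤ) - c) ^ 2 =
      Nat.card S * ∑ z : radical h M, sgn M (q z.1) := by
    rw [← hF, pow_two, Finset.sum_mul_sum]
    calc ∑ x : S, ∑ y : S, sgn M (q x) * sgn M (q y)
        = ∑ x : S, ∑ z : S, sgn M (q x) * sgn M (q (x * z)) :=
          Finset.sum_congr rfl fun x _ =>
            (Fintype.sum_equiv (Equiv.mulLeft x) _ _ fun z => rfl).symm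
      _ = ∑ x : S, ∑ z : S, sgn M (q z) * sgn M (k x z) := by
          refine Finset.sum_congr rfl fun x _ => Finset.sum_congr rfl fun z _ => ?_
          rw [hq, sgn_mul hM, sgn_mul hM, ← mul_assoc, ← mul_assoc, sgn_sq, one_mul]
      _ = ∑ z : S, sgn M (q z) * ∑ x : S, sgn M (k x z) := by
          rw [Finset.sum_comm]; simp_rw [Finset.mul_sum]
      _ = ∑ z : S, if z ∈ radical h M then (Nat.card S : ℤ) * sgn M (q z) else 0 := by
          refine Finset.sum_congr rfl fun z _ => ?_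
          rw [hinner]; split <;> ring
      _ = _ := by
          rw [← Finset.sum_filter, Finset.mul_sum]
          exact Finset.sum_subtype _ (by simp) _
  rcases sum_sign (fun z : radical h M => sgn M (q z.1)) (fun z z' => by
      rw [Subgroup.coe_mul, hq, sgn_mul hM, sgn_mul hM, (sgn_eq_one M _).2 (z'.2 z.1), mul_one])
    (fun z => sgn_or M _) with ⟨-, h2⟩ | ⟨-, h2⟩
  · rw [h2, ← Nat.card_eq_fintype_card] at hsq; exact Or.inr hsq
  · rw [h2, mul_zero] at hsq; exact Or.inl hsq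

end Sums

end Cfsg.Agent.Pyramid
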