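import Cfsg.Agent.Pyramid.Regular
import Cfsg.Agent.S1137
import Cfsg.Agent.S1138

/-!
# The structure of a 2-group with a transitive automorphism on its involutions, and the automorphisms
of odd order fixing its involutions
-/

set_option autoImplicit false
set_option linter.unusedSectionVars false

namespace Cfsg.Agent.Pyramid

variable {S : Type*} [Group S] [Finite S] {E : Subgroup S} {p : ℕ}

/-- Permutations carrying the square roots of one element of `E` onto those of another. -/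
def RootTrans (E : Subgroup S) : Prop :=
  ∀ a ∈ E, ∀ b ∈ E, a ≠ 1 → b ≠ 1 → ∃ σ : S ≃ S, ∀ x, x * x = a ↔ σ x * σ x = b

/-- Either abelian, or squares lie in `E` and the order is `q ^ 2` or `q ^ 3`. -/
theorem structure_dichotomy (hS : IsPGroup 2 S) (hE : IsInvSub E) (hc : E ≤ Subgroup.center S)
    (hp : p.Prime) (hp2 : p ≠ 2) (hcard : Nat.card E = p + 1) {m : ℕ} {γ : MulAut S}
    (hγ : γ ^ (p ^ m) = 1) {x₀ : S} (hx₀ : x₀ ∈ E) (hmove : γ x₀ ≠ x₀) :
    (∀ x y : S, x * y = y * x) ∨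
      (SqData E ∧ RootTrans E ∧ (Nat.card S = (p + 1) ^ 2 ∨ Nat.card S = (p + 1) ^ 3)) := by
  by_cases hab : ∀ x y : S, x * y = y * x
  · exact Or.inl hab
  right
  have hγp : γ ^ p = 1 := exists_prime_order_aut hS hE hc hp hp2 hcard m γ hγ x₀ hx₀ hmove
  obtain ⟨-, htr⟩ := orbit_facts hE hp hcard hγ hx₀ hmove
  haveI : Finite (MulAut S) := Finite.of_injective _ (DFunLike.coe_injective (F := MulAut S))
  -- an element fixed by a proper power is the identity
  have hfree : ∀ (i : ℕ) (x : S), x ∈ E → x ≠ 1 → (γ ^ i) x = x → γ ^ i = 1 := by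
    intro i x hx hx1 h
    by_cases hpi : p ∣ i
    · obtain ⟨j, rfl⟩ := hpi
      rw [pow_mul, hγp, one_pow]
    · exfalso
      have hfx : γ x = x := aut_fix_of_coprime (n := p) (m := i) (by rw [hγp]; rfl) h
        (Nat.Coprime.symm (hp.coprime_iff_not_dvd.2 hpi))
      obtain ⟨j, hj⟩ := htr x hx hx1
      apply hmove
      apply (γ ^ j).injective
      rw [← MulAut.mul_apply, ← pow_succ, pow_succ', MulAut.mul_apply, hj, hfx]
  have hrepr : ∀ x y : S, x ∈ E → x ≠ 1 → y ∈ E → y ≠ 1 → ∃ i : ℕ, (γ ^ i) x = y := by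
    intro x y hx hx1 hy hy1
    obtain ⟨i, hi⟩ := htr y hy hy1
    obtain ⟨j, hj⟩ := htr x hx hx1
    refine ⟨i + (p * j - j), ?_⟩
    rw [← hj, ← MulAut.mul_apply, ← pow_add, add_assoc,
      Nat.sub_add_cancel (Nat.le_mul_of_pos_left j hp.pos), pow_add, pow_mul, hγp, one_pow, mul_one]
    exact hi
  have hSuz : Cfsg.IsSuzukiTwoGroup S := by
    refine ⟨inferInstance, hS, ?_, ?_, Subgroup.zpowers γ,
      Subgroup.isCyclic_zpowers γ, fun x y hx1 hx2 hy1 hy2 => ?_⟩
    · push Not at hab; exact hab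
    · refine ⟨x₀, γ x₀, fun h => hmove h.symm, ?_, hE.sq hx₀, ?_, ?_⟩
      · rintro rfl; exact hmove (map_one γ)
      · exact fun h => hmove (by rw [h, γ.map_eq_one_iff.1 h])
      · rw [← map_mul, hE.sq hx₀, map_one]
    · obtain ⟨i, hi⟩ := hrepr x y ((hE x).2 hx2) hx1 ((hE y).2 hy2) hy1
      refine ⟨⟨γ ^ i, Subgroup.pow_mem _ (Subgroup.mem_zpowers γ) i⟩, hi, ?_⟩
      rintro ⟨g, hg⟩ hgx
      obtain ⟨k, rfl⟩ : g ∈ Submonoid.powers γ := mem_powers_iff_mem_zpowers.2 hg
      refine Subtype.ext ?_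
      show γ ^ k = γ ^ i
      have hgx' : (γ ^ k) x = y := hgx
      have h1 : γ ^ (k + (p * i - i)) = 1 := by
        refine hfree _ y ((hE y).2 hy2) hy1 ?_
        rw [← hi, ← MulAut.mul_apply, ← pow_add, add_assoc,
          Nat.sub_add_cancel (Nat.le_mul_of_pos_left i hp.pos), pow_add, pow_mul γ p i, hγp, one_pow,
          mul_one, hgx', hi]
      calc γ ^ k = γ ^ k * γ ^ (p * i) := by rw [pow_mul, hγp, one_pow, mul_one]
        _ = γ ^ (k + (p * i - i)) * γ ^ i := by
            rw [← pow_add, ← pow_add, add_assoc, Nat.sub_add_cancel (Nat.le_mul_of_pos_left i hp.pos)]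
        _ = γ ^ i := by rw [h1, one_mul]
  obtain ⟨hinv, hZ⟩ := Cfsg.Agent.S1137.result hSuz
  have hZE : Subgroup.center S = E := le_antisymm (fun z hz => (hE z).2 (hZ z hz)) hc
  obtain ⟨hsq, -, hord, -⟩ := Cfsg.Agent.S1138.result hSuz
  rw [hZE] at hsq hord
  rw [hcard] at hord
  refine ⟨⟨hE, hc, hsq⟩, fun a ha b hb ha1 hb1 => ?_, hord⟩
  obtain ⟨i, hi⟩ := hrepr a b ha ha1 hb hb1
  refine ⟨(γ ^ i).toEquiv, fun x => ?_⟩
  show x * x = a ↔ (γ ^ i) x * (γ ^ i) x = b
  rw [← map_mul, ← hi, EmbeddingLike.apply_eq_iff_eq]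

/-- An odd order automorphism of an abelian 2-group fixing all involutions is trivial. -/
theorem aut_fix_of_comm (hS : IsPGroup 2 S) (hE : IsInvSub E) (hab : ∀ x y : S, x * y = y * x)
    {σ : MulAut S} {n : ℕ} (hn : Odd n) (hσ : σ ^ n = 1) (hfix : ∀ e ∈ E, σ e = e) (x : S) :
    σ x = x := by
  suffices ∀ (a : ℕ) (x : S), x ^ (2 ^ a) = 1 → σ x = x by
    obtain ⟨a, ha⟩ := hS x
    exact this a x ha
  intro a
  induction a with
  | zero => intro x hx; rw [pow_zero, pow_one] at hx; rw [hx, map_one]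
  | succ a ih =>
    intro x hx
    have h2 : σ (x * x) = x * x := ih _ (by rw [← pow_two, ← pow_mul, ← pow_succ']; exact hx)
    refine fix_of_coset hE hn hσ hfix ((hE _).2 ?_)
    calc x⁻¹ * σ x * (x⁻¹ * σ x) = x⁻¹ * (σ x * x⁻¹) * σ x := by group
      _ = x⁻¹ * (x⁻¹ * σ x) * σ x := by rw [hab (σ x)]
      _ = (x * x)⁻¹ * σ (x * x) := by rw [map_mul]; group
      _ = 1 := by rw [h2]; group

/-- An odd order automorphism fixing the involutions is trivial when `|S| = |E| ^ 2`. -/
theorem aut_fix_of_square (h : SqData E) (htr : RootTrans E) (hc1 : 1 < Nat.card E)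
    (hcard : Nat.card S = Nat.card E ^ 2)
    (hM : ∃ M : Subgroup ↥E, M.index = 2) {σ : MulAut S} {n : ℕ} (hn : Odd n) (hσ : σ ^ n = 1)
    (hfix : ∀ e ∈ E, σ e = e) (x : S) : σ x = x := by
  classical
  by_cases hx : x ∈ E
  · exact hfix x hx
  obtain ⟨M, hM⟩ := hM
  obtain ⟨c, hS, hc, -⟩ := sum_sq_sign h M hM htr
  have hcE : c = Nat.card E := by
    obtain ⟨a, ha⟩ : ∃ a, Nat.card E = a + 1 := ⟨Nat.card E - 1, by omega⟩
    rw [hcard, ha, Nat.add_sub_cancel] at hS
    rw [ha]
    have : a * c = a * (a + 1) := by nlinarith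
    exact Nat.eq_of_mul_eq_mul_left (by omega) this
  refine fix_of_coset h.inv hn hσ hfix ?_
  set e₀ := x * x
  have he : e₀ ≠ 1 := fun h1 => hx ((h.inv x).2 h1)
  let f : ↥E → {y : S // y * y = e₀} := fun e => ⟨x * e.1, by
    rw [h.sq_mul, h.inv.sq e.2, mul_one, mul_assoc x⁻¹, ← h.comm_e e.2 x]
    group
    rfl⟩
  have hf : Function.Injective f := fun e e' hee =>
    Subtype.ext (mul_left_cancel (congrArg Subtype.val hee))
  have hb : Function.Bijective f :=
    (Nat.bijective_iff_injective_and_card f).2 ⟨hf, by rw [hc _ (h.sq x) he, hcE]⟩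
  obtain ⟨e, he'⟩ := hb.2 ⟨σ x, by rw [← map_mul]; exact hfix _ (h.sq x)⟩
  have : x * e.1 = σ x := congrArg Subtype.val he'
  rw [← this, inv_mul_cancel_left]
  exact e.2

section Cube

variable (h : SqData E) (hcard : Nat.card S = Nat.card E ^ 3)

include h hcard

/-- In the cubic case the commutator map of an element outside `E` is onto `E`. -/
theorem card_centralizer_le (htr : RootTrans E) {x : S} (hx : x ∉ E) :
    Nat.card (Subgroup.centralizer {x}) * Nat.card E = Nat.card S := by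
  classical
  let f : S →* ↥E :=
    { toFun := fun y => ⟨y⁻¹ * x * y * x⁻¹, h.k_mem y x⟩
      map_one' := Subtype.ext (by simp)
      map_mul' := fun y y' => Subtype.ext (h.k_mul_left y y' x) }
  have hsurj : f.range = ⊤ := by
    by_contra hne
    have hE2 : IsPGroup 2 ↥E := fun e => ⟨1, Subtype.ext (by
      rw [SubmonoidClass.coe_pow, pow_one, pow_two]; exact h.inv.sq e.2)⟩
    haveI : Fact (Nat.Prime 2) := ⟨Nat.prime_two⟩
    obtain ⟨s, hs⟩ := hE2.exists_card_eq
    obtain ⟨i, hi⟩ := (hE2.to_subgroup f.range).exists_card_eq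
    have his : i < s := by
      have h1 := Subgroup.card_le_card_group f.range
      rw [hs, hi] at h1
      have h2 := (Nat.pow_le_pow_iff_right (le_refl 2)).1 h1
      rcases eq_or_lt_of_le h2 with h3 | h3
      · exact absurd (Subgroup.eq_top_of_card_eq _ (by rw [hs, hi, h3])) hne
      · exact h3
    obtain ⟨M, hMc, hle⟩ := Sylow.exists_subgroup_card_pow_prime_le 2 (n := i) (m := s - 1)
      (by rw [hs]; exact pow_dvd_pow 2 (Nat.sub_le s 1)) f.range hi (by omega)
    have hMi : M.index = 2 := by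
      have := M.card_mul_index
      rw [hMc, hs] at this
      have e : 2 ^ s = 2 ^ (s - 1) * 2 := by rw [← pow_succ, Nat.sub_add_cancel (by omega)]
      rw [e] at this
      exact Nat.eq_of_mul_eq_mul_left (by positivity) this
    have hxR : x ∈ radical h M := fun y => hle ⟨y, rfl⟩
    obtain ⟨c, hS, -, hF⟩ := sum_sq_sign h M hMi htr
    obtain ⟨a, ha⟩ : ∃ a, Nat.card E = a + 1 := ⟨Nat.card E - 1, by have := Nat.card_pos (α := E); omega⟩
    have ha0 : 1 ≤ a := by
      have : 2 ^ 1 ≤ 2 ^ s := Nat.pow_le_pow_right two_pos (by omega)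
      rw [← hs, ha] at this
      omega
    have hcv : c = (a + 1) * (a + 2) := by
      rw [hcard, ha, Nat.add_sub_cancel] at hS
      have : a * c = a * ((a + 1) * (a + 2)) := by nlinarith
      exact Nat.eq_of_mul_eq_mul_left (by omega) this
    rw [hcard, hcv, ha] at hF
    push_cast at hF
    have hpos : (0 : ℤ) < (a : ℤ) + 1 := by positivity
    rcases hF with hF | hF
    · have : ((a : ℤ) + 1) - ((a : ℤ) + 1) * ((a : ℤ) + 2) = 0 := (pow_eq_zero_iff two_ne_zero).1 hF
      nlinarith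
    · have hR : (Nat.card (radical h M) : ℤ) = (a : ℤ) + 1 := by
        have : ((a : ℤ) + 1) ^ 3 * ((Nat.card (radical h M) : ℤ) - ((a : ℤ) + 1)) = 0 := by
          rw [mul_sub, ← hF]; ring
        rcases mul_eq_zero.1 this with h0 | h0
        · exact absurd h0 (by positivity)
        · linarith
      have hR' : Nat.card (radical h M) = Nat.card E := by rw [ha]; exact_mod_cast hR
      exact hx (Subgroup.eq_of_le_of_card_ge (le_radical h M) hR'.le ▸ hxR)
  have hker : f.ker = Subgroup.centralizer {x} := by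
    ext y
    rw [MonoidHom.mem_ker, Subgroup.mem_centralizer_singleton_iff]
    show (⟨y⁻¹ * x * y * x⁻¹, _⟩ : ↥E) = 1 ↔ _
    rw [Subtype.ext_iff]
    show y⁻¹ * x * y * x⁻¹ = 1 ↔ _
    constructor
    · intro hy
      calc y * x = y * (y⁻¹ * x * y * x⁻¹) * x := by rw [hy]; group
        _ = x * y := by group
    · intro hy
      rw [mul_assoc y⁻¹, ← hy]
      group
  have := f.ker.card_mul_index
  rw [hker, ← hker, Subgroup.index_ker, hsurj, Subgroup.card_top] at this
  rw [← hker]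
  exact this

/-- In the cubic case an odd order automorphism fixing `E` and an element outside `E` modulo `E` is
trivial. -/
theorem aut_fix_of_cube (htr : RootTrans E) {σ : MulAut S} {n : ℕ} (hn : Odd n) (hσ : σ ^ n = 1)
    (hfix : ∀ e ∈ E, σ e = e) {x : S} (hx : x ∉ E) (hxσ : x⁻¹ * σ x ∈ E) (y : S) : σ y = y := by
  classical
  let W : Subgroup S := MonoidHom.eqLocus σ.toMonoidHom (MonoidHom.id S)
  have hW : ∀ w, w ∈ W ↔ σ w = w := fun w => Iff.rfl
  have hxW : σ x = x := fix_of_coset h.inv hn hσ hfix hxσ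
  by_contra hy
  -- `f y = y⁻¹ σ y`
  set d := y⁻¹ * σ y with hd
  have hyd : σ y = y * d := by rw [hd, mul_inv_cancel_left]
  have hk : ∀ w, σ w = w → ∀ z, w⁻¹ * (z⁻¹ * σ z) * w * (z⁻¹ * σ z)⁻¹ = 1 := by
    intro w hw z
    rw [h.k_mul_right w z⁻¹ (σ z)]
    have h1 : σ (w⁻¹ * z * w * z⁻¹) = w⁻¹ * σ z * w * (σ z)⁻¹ := by
      rw [map_mul, map_mul, map_mul, map_inv, map_inv, hw]
    rw [hfix _ (h.k_mem w z)] at h1
    rw [← h1, ← h.k_mul_right, inv_mul_cancel]
    simp
  -- fixed differences are trivial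
  have hfd : ∀ z, σ (z⁻¹ * σ z) = z⁻¹ * σ z → σ z = z := by
    intro z hz
    set u := z⁻¹ * σ z
    have hzu : σ z = z * u := by simp [u]
    have hpow : ∀ i : ℕ, (σ ^ i) z = z * u ^ i := by
      intro i
      induction i with
      | zero => simp
      | succ i ih =>
        rw [pow_succ', MulAut.mul_apply, ih, map_mul, map_pow, hz, hzu, mul_assoc, ← pow_succ']
    have h2 : u ^ n = 1 := by
      have := hpow n
      rw [hσ, MulAut.one_apply] at this
      exact mul_eq_left.1 this.symm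
    refine fix_of_coset h.inv hn hσ hfix ?_
    obtain ⟨j, hj⟩ := hn
    have : u = ((u * u) ^ j)⁻¹ := by
      refine eq_inv_of_mul_eq_one_left ?_
      rw [← pow_two, ← pow_mul, ← pow_succ', ← hj, h2]
    show u ∈ E
    rw [this]
    exact E.inv_mem (E.pow_mem (h.sq u) j)
  have hdE : d ∉ E := fun he => hy (fix_of_coset h.inv hn hσ hfix he)
  -- `D` : elements congruent to some `z⁻¹ σ z`
  have hcomm : ∀ w, σ w = w → w * d = d * w := by
    intro w hw
    have := hk w hw y
    rw [← hd] at this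
    calc w * d = w * (w⁻¹ * d * w * d⁻¹) * d := by rw [this, mul_one]
      _ = d * w := by group
  haveI := h.inv.normal
  let g : S →* S ⧸ E :=
    { toFun := fun z => QuotientGroup.mk (z⁻¹ * σ z)
      map_one' := by simp
      map_mul' := fun z z' => by
        rw [← QuotientGroup.mk_mul, QuotientGroup.eq, map_mul]
        have e : ((z * z')⁻¹ * (σ z * σ z'))⁻¹ * (z⁻¹ * σ z * (z'⁻¹ * σ z')) =
            (σ z')⁻¹ * ((z⁻¹ * σ z)⁻¹ * z' * (z⁻¹ * σ z) * z'⁻¹) * σ z' := by group
        rw [e]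
        simpa using h.inv.conj_mem (h.k_mem (z⁻¹ * σ z) z') (σ z')⁻¹ }
  have hgker : g.ker = W := by
    ext z
    show QuotientGroup.mk (z⁻¹ * σ z) = 1 ↔ σ z = z
    rw [QuotientGroup.eq_one_iff]
    exact ⟨fix_of_coset h.inv hn hσ hfix, fun hz => by rw [hz, inv_mul_cancel]; exact E.one_mem⟩
  let D : Subgroup S := g.range.comap (QuotientGroup.mk' E)
  have hD : ∀ u ∈ D, ∃ z, ∃ e ∈ E, u = z⁻¹ * σ z * e := by
    rintro u ⟨z, hz⟩
    refine ⟨z, (z⁻¹ * σ z)⁻¹ * u, (QuotientGroup.eq).1 hz, by group⟩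
  have hWD : ∀ w, σ w = w → ∀ u ∈ D, w * u = u * w := by
    intro w hw u hu
    obtain ⟨z, e, he, rfl⟩ := hD u hu
    have h1 : w * (z⁻¹ * σ z) = z⁻¹ * σ z * w := by
      calc w * (z⁻¹ * σ z) = w * (w⁻¹ * (z⁻¹ * σ z) * w * (z⁻¹ * σ z)⁻¹) * (z⁻¹ * σ z) := by
            rw [hk w hw z, mul_one]
        _ = _ := by group
    rw [← mul_assoc, h1, mul_assoc, h.comm_e he w, mul_assoc (z⁻¹ * σ z) e w]
  have hcardWD : Nat.card W * Nat.card D = Nat.card S * Nat.card E := by
    have h1 : Nat.card D = Nat.card g.range * Nat.card E := by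
      have h2 := Subgroup.card_eq_card_quotient_mul_card_subgroup (E.subgroupOf D)
      have hED : E ≤ D := fun e he => ⟨1, by
        show g 1 = (QuotientGroup.mk e : S ⧸ E)
        rw [map_one, eq_comm, QuotientGroup.eq_one_iff]; exact he⟩
      rw [h2, Nat.card_congr (Subgroup.subgroupOfEquivOfLe hED).toEquiv]
      congr 1
      have hmap : D.map (QuotientGroup.mk' E) = g.range :=
        Subgroup.map_comap_eq_self_of_surjective (QuotientGroup.mk'_surjective E) _
      rw [← hmap, ← Subgroup.relIndex_ker, QuotientGroup.ker_mk']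
      rfl
    have h3 := g.ker.card_mul_index
    rw [Subgroup.index_ker, hgker] at h3
    rw [h1, ← mul_assoc, h3]
  have hxd : x ∈ W := hxW
  have hCx : D ≤ Subgroup.centralizer {x} := fun u hu =>
    Subgroup.mem_centralizer_singleton_iff.2 (hWD x hxW u hu).symm
  have hCd : W ≤ Subgroup.centralizer {d} := fun w hw =>
    Subgroup.mem_centralizer_singleton_iff.2 (hcomm w hw)
  have e1 := card_centralizer_le h hcard htr hx
  have e2 := card_centralizer_le h hcard htr hdE
  have hq : 0 < Nat.card E := Nat.card_pos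
  have hge : Nat.card (Subgroup.centralizer {d}) ≤ Nat.card W := by
    have hmul : Nat.card W * Nat.card D = Nat.card E ^ 4 := by rw [hcardWD, hcard]; ring
    rw [hcard] at e1 e2
    have hDle := Subgroup.card_le_of_le hCx
    have c1 : Nat.card (Subgroup.centralizer {x}) = Nat.card E ^ 2 :=
      Nat.eq_of_mul_eq_mul_right hq (by rw [e1]; ring)
    have c2 : Nat.card (Subgroup.centralizer {d}) = Nat.card E ^ 2 :=
      Nat.eq_of_mul_eq_mul_right hq (by rw [e2]; ring)
    by_contra hlt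
    push Not at hlt
    rw [c2] at hlt
    rw [c1] at hDle
    have : Nat.card W * Nat.card D < Nat.card E ^ 2 * Nat.card E ^ 2 :=
      Nat.mul_lt_mul_of_lt_of_le hlt hDle (by positivity)
    rw [hmul, ← pow_add] at this
    exact lt_irrefl _ this
  have hWeq := Subgroup.eq_of_le_of_card_ge hCd hge
  have hdW : d ∈ W := hWeq ▸ Subgroup.mem_centralizer_singleton_iff.2 rfl
  exact hy (hfd y hdW)

end Cube

end Cfsg.Agent.Pyramid
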