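import Cfsg.Agent.Pyramid.Basic

/-!
# No doubly transitive action on eight involution points with abelian centralizer
-/

set_option autoImplicit false
set_option linter.all false

namespace Cfsg.Agent.Pyramid

namespace EightAb

variable {H : Type*} [Group H]

/-- Three elements of an elementary abelian subgroup are independent. -/
def Indep (x y z : H) : Prop :=
  x ≠ 1 ∧ y ≠ 1 ∧ z ≠ 1 ∧ x * y ≠ 1 ∧ x * z ≠ 1 ∧ y * z ≠ 1 ∧ x * y * z ≠ 1

theorem pow_mod_two {x : H} (hx : x * x = 1) (i : ℕ) : x ^ i = x ^ (i % 2) := by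
  conv_lhs => rw [← Nat.mod_add_div i 2]
  rw [pow_add, pow_mul, sq, hx, one_pow, mul_one]

theorem indep_even {x y z : H} (hx : x * x = 1) (hy : y * y = 1) (hz : z * z = 1)
    (hi : Indep x y z) {i j k : ℕ} (h : x ^ i * y ^ j * z ^ k = 1) :
    i % 2 = 0 ∧ j % 2 = 0 ∧ k % 2 = 0 := by
  rw [pow_mod_two hx i, pow_mod_two hy j, pow_mod_two hz k] at h
  obtain ⟨h1, h2, h3, h4, h5, h6, h7⟩ := hi
  rcases Nat.mod_two_eq_zero_or_one i with a | a <;> rcases Nat.mod_two_eq_zero_or_one j with b | b <;>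
    rcases Nat.mod_two_eq_zero_or_one k with c | c <;> rw [a, b, c] at h <;>
    simp only [pow_zero, pow_one, one_mul, mul_one] at h <;>
    first
      | exact ⟨a, b, c⟩
      | exact absurd h h1
      | exact absurd h h2
      | exact absurd h h3
      | exact absurd h h4
      | exact absurd h h5
      | exact absurd h h6
      | exact absurd h h7

theorem rearr {M : Type*} [CommMonoid M] (a b c a' b' c' : M) :
    a * b * c * (a' * b' * c') = a * a' * (b * b') * (c * c') := by ac_rfl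

theorem triple_pow {M : Type*} [CommMonoid M] (a b c : M) (i j k N : ℕ) :
    (a ^ i * b ^ j * c ^ k) ^ N = a ^ (i * N) * b ^ (j * N) * c ^ (k * N) := by
  rw [mul_pow, mul_pow, ← pow_mul, ← pow_mul, ← pow_mul]

/-- Three independent elements generate a group of eight involution points. -/
theorem indep_span [Finite H] {E : Subgroup H} (hE : IsInvSub E) (h8 : Nat.card E = 8)
    {x y z : H} (hx : x ∈ E) (hy : y ∈ E) (hz : z ∈ E) (hi : Indep x y z) {a : H} (ha : a ∈ E) :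
    ∃ i j k : Fin 2, a = x ^ (i : ℕ) * y ^ (j : ℕ) * z ^ (k : ℕ) := by
  let f : Fin 2 × Fin 2 × Fin 2 → E := fun p =>
    ⟨x ^ (p.1 : ℕ) * y ^ (p.2.1 : ℕ) * z ^ (p.2.2 : ℕ),
      E.mul_mem (E.mul_mem (E.pow_mem hx _) (E.pow_mem hy _)) (E.pow_mem hz _)⟩
  have hf : Function.Injective f := by
    rintro ⟨i, j, k⟩ ⟨i', j', k'⟩ h
    have h' : x ^ (i : ℕ) * y ^ (j : ℕ) * z ^ (k : ℕ)
        = x ^ (i' : ℕ) * y ^ (j' : ℕ) * z ^ (k' : ℕ) := congrArg Subtype.val h
    let x₁ : E := ⟨x, hx⟩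
    let y₁ : E := ⟨y, hy⟩
    let z₁ : E := ⟨z, hz⟩
    let _ : CommGroup E :=
      { (inferInstance : Group E) with mul_comm := fun u v => Subtype.ext (hE.comm u.2 v.2) }
    have key : x₁ ^ (i : ℕ) * y₁ ^ (j : ℕ) * z₁ ^ (k : ℕ)
        * (x₁ ^ (i' : ℕ) * y₁ ^ (j' : ℕ) * z₁ ^ (k' : ℕ)) = 1 := by
      apply Subtype.ext
      show x ^ (i : ℕ) * y ^ (j : ℕ) * z ^ (k : ℕ)
        * (x ^ (i' : ℕ) * y ^ (j' : ℕ) * z ^ (k' : ℕ)) = 1
      rw [h']
      exact hE.sq (E.mul_mem (E.mul_mem (E.pow_mem hx _) (E.pow_mem hy _)) (E.pow_mem hz _))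
    have key' : x₁ ^ ((i : ℕ) + i') * y₁ ^ ((j : ℕ) + j') * z₁ ^ ((k : ℕ) + k') = 1 := by
      rw [← key, pow_add, pow_add, pow_add, rearr]
    have key'' : x ^ ((i : ℕ) + i') * y ^ ((j : ℕ) + j') * z ^ ((k : ℕ) + k') = 1 :=
      congrArg Subtype.val key'
    obtain ⟨a, b, c⟩ := indep_even (hE.sq hx) (hE.sq hy) (hE.sq hz) hi key''
    have := i.isLt; have := i'.isLt; have := j.isLt; have := j'.isLt
    have := k.isLt; have := k'.isLt
    simp only [Prod.mk.injEq]
    exact ⟨Fin.ext (by omega), Fin.ext (by omega), Fin.ext (by omega)⟩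
  have hsurj : Function.Surjective f :=
    ((Nat.bijective_iff_injective_and_card f).2 ⟨hf, by simp [h8, Nat.card_prod]⟩).2
  obtain ⟨⟨i, j, k⟩, h⟩ := hsurj ⟨a, ha⟩
  exact ⟨i, j, k, (congrArg Subtype.val h).symm⟩

theorem conj_mul' (g a b : H) : g * (a * b) * g⁻¹ = g * a * g⁻¹ * (g * b * g⁻¹) := by group

/-- The frame: `b` is a transvection on `E` with center `c` and `v = b * (g * b * g⁻¹)`
is a single Jordan block. -/
theorem exists_frame [Finite H] {E : Subgroup H} (hE : IsInvSub E) (h2 : ConjTrans₂ E)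
    (h8 : Nat.card E = 8) :
    ∃ b g : H, ∃ c d e : H, c ∈ E ∧ d ∈ E ∧ e ∈ E ∧ Indep c d e ∧
      (∀ a ∈ E, b * (b * a * b⁻¹) * b⁻¹ = a) ∧
      b * (g * b * g⁻¹) * e * (b * (g * b * g⁻¹))⁻¹ = c * e ∧
      b * (g * b * g⁻¹) * (c * e) * (b * (g * b * g⁻¹))⁻¹ = d * e ∧
      b * (g * b * g⁻¹) * d * (b * (g * b * g⁻¹))⁻¹ = d := by
  classical
  haveI : Nontrivial E := Finite.one_lt_card_iff_nontrivial.1 (by omega)
  obtain ⟨⟨a, haE⟩, ha⟩ := exists_ne (1 : E)
  have ha1 : a ≠ 1 := fun h => ha (Subtype.ext h)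
  obtain ⟨a', ha'E, ha'1, haa'⟩ : ∃ a' ∈ E, a' ≠ 1 ∧ a ≠ a' := by
    by_contra hcon
    push Not at hcon
    have : Nat.card E ≤ 2 := by
      let f : E → Bool := fun w => if (w : H) = 1 then true else false
      have hf : Function.Injective f := by
        rintro ⟨w, hw⟩ ⟨w', hw'⟩ h
        apply Subtype.ext
        simp only [f] at h
        by_cases h1 : w = 1 <;> by_cases h1' : w' = 1
        · exact h1.trans h1'.symm
        · simp [h1, h1'] at h
        · simp [h1, h1'] at h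
        · exact (hcon w hw h1).symm.trans (hcon w' hw' h1')
      exact (Nat.card_le_card_of_injective f hf).trans (by simp)
    omega
  obtain ⟨h, hh1, hh2⟩ := h2 a haE a' ha'E a' ha'E a haE ha1 ha'1 ha'1 ha1 haa' (Ne.symm haa')
  let φ : H →* MulAut E :=
    haveI := hE.normal
    MulAut.conjNormal
  have hφ : ∀ (k : H) (u : E), ((φ k u : E) : H) = k * u * k⁻¹ := fun k u => by
    simp [φ]
  -- a power of `h` acts as an involution
  obtain ⟨b, hb2, hb⟩ : ∃ b : H, φ b * φ b = 1 ∧ φ b ≠ 1 := by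
    have hpos : 0 < orderOf (φ h) := orderOf_pos _
    have hev : 2 ∣ orderOf (φ h) := by
      rcases Nat.even_or_odd (orderOf (φ h)) with h' | ⟨m, hm⟩
      · exact even_iff_two_dvd.1 h'
      · exfalso
        have hswap : ∀ m : ℕ, (φ h ^ (2 * m)) ⟨a, haE⟩ = ⟨a, haE⟩ := by
          intro m
          induction m with
          | zero => rfl
          | succ m ih =>
            rw [show 2 * (m + 1) = 1 + (1 + 2 * m) by ring, pow_add, pow_add, pow_one,
              MulAut.mul_apply, MulAut.mul_apply, ih]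
            apply Subtype.ext
            rw [hφ, hφ]
            show h * (h * a * h⁻¹) * h⁻¹ = a
            rw [hh1, hh2]
        have h1 : φ h ^ orderOf (φ h) = 1 := pow_orderOf_eq_one _
        rw [hm, add_comm, pow_add, pow_one] at h1
        have := DFunLike.congr_fun h1 ⟨a, haE⟩
        rw [MulAut.mul_apply, hswap] at this
        have h' := congrArg Subtype.val this
        rw [hφ] at h'
        exact haa' ((h'.symm.trans hh1))
    obtain ⟨m, hm⟩ := hev
    refine ⟨h ^ m, ?_, ?_⟩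
    · rw [map_pow, ← pow_add, ← two_mul, ← hm, pow_orderOf_eq_one]
    · rw [map_pow]
      exact pow_ne_one_of_lt_orderOf (by omega) (by omega)
  have hb2' : ∀ u ∈ E, b * (b * u * b⁻¹) * b⁻¹ = u := fun u hu => by
    have := congrArg Subtype.val (DFunLike.congr_fun hb2 (⟨u, hu⟩ : E))
    rw [MulAut.mul_apply, hφ, hφ] at this
    exact this
  obtain ⟨e, heE, he⟩ : ∃ e ∈ E, b * e * b⁻¹ ≠ e := by
    by_contra hcon
    push Not at hcon
    exact hb (MulEquiv.ext fun u => Subtype.ext ((hφ b u).trans (hcon u u.2)))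
  let c := e * (b * e * b⁻¹)
  have hfix : ∀ u ∈ E, u * (b * u * b⁻¹) ∈ E ∧ b * (u * (b * u * b⁻¹)) * b⁻¹ = u * (b * u * b⁻¹) := by
    intro u hu
    refine ⟨E.mul_mem hu (hE.conj_mem hu b), ?_⟩
    rw [conj_mul', hb2' u hu]
    exact hE.comm (hE.conj_mem hu b) hu
  obtain ⟨hcE, hcfix⟩ : c ∈ E ∧ b * c * b⁻¹ = c := hfix e heE
  have hbe : b * e * b⁻¹ = c * e := by
    show _ = e * (b * e * b⁻¹) * e
    rw [hE.comm heE (hE.conj_mem heE b), mul_assoc (b * e * b⁻¹), hE.sq heE, mul_one]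
  have hc1 : c ≠ 1 := fun h => he (by rw [hbe, h, one_mul])
  -- a second fixed point
  obtain ⟨d, hdE, hdfix, hd1, hdc⟩ : ∃ d ∈ E, b * d * b⁻¹ = d ∧ d ≠ 1 ∧ d ≠ c := by
    obtain ⟨f, hfE, hf1, hfc, hfe, hfec⟩ :
        ∃ f ∈ E, f ≠ 1 ∧ f ≠ c ∧ f ≠ e ∧ f ≠ c * e := by
      by_contra hcon
      push Not at hcon
      classical
      have : (E : Set H) ⊆ ↑({1, c, e, c * e} : Finset H) := by
        intro f hf
        simp only [Finset.coe_insert, Finset.coe_singleton, Set.mem_insert_iff,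
          Set.mem_singleton_iff]
        by_contra hne
        push Not at hne
        exact hne.2.2.2 (hcon f hf hne.1 hne.2.1 hne.2.2.1)
      have h4 := Set.ncard_le_ncard this (Finset.finite_toSet _)
      rw [Set.ncard_coe_finset, ← Nat.card_coe_set_eq] at h4
      have h5 : ({1, c, e, c * e} : Finset H).card ≤ 4 := Finset.card_le_four
      have h6 : Nat.card (↑E : Set H) = 8 := h8
      omega
    obtain ⟨hkE, hkfix⟩ := hfix f hfE
    by_cases hk1 : f * (b * f * b⁻¹) = 1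
    · refine ⟨f, hfE, ?_, hf1, hfc⟩
      rw [← inv_eq_of_mul_eq_one_right hk1]
      exact hE.inv_eq hfE
    by_cases hkc : f * (b * f * b⁻¹) = c
    · refine ⟨f * e, E.mul_mem hfE heE, ?_, ?_, ?_⟩
      · have hbf : b * f * b⁻¹ = f * c := by
          rw [← hkc, ← mul_assoc, hE.sq hfE, one_mul]
        rw [conj_mul', hbf, hbe, ← mul_assoc, mul_assoc f c c, hE.sq hcE, mul_one]
      · intro h
        exact hfe ((eq_inv_of_mul_eq_one_left h).trans (hE.inv_eq heE))
      · intro h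
        exact hfec (by rw [← h, mul_assoc, hE.sq heE, mul_one])
    · exact ⟨_, hkE, hkfix, hk1, hkc⟩
  have he1 : e ≠ 1 := fun h => he (by rw [h]; group)
  have hcd : c * d ≠ 1 := fun h => hdc ((eq_inv_of_mul_eq_one_right h).trans (hE.inv_eq hcE))
  have hne : ∀ u ∈ E, b * u * b⁻¹ = u → u ≠ e := fun u _ hu h => he (h ▸ hu)
  have hcde : Indep c d e := by
    refine ⟨hc1, hd1, he1, hcd, ?_, ?_, ?_⟩
    · intro h
      exact hne c hcE hcfix ((eq_inv_of_mul_eq_one_left h).trans (hE.inv_eq heE))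
    · intro h
      exact hne d hdE hdfix ((eq_inv_of_mul_eq_one_left h).trans (hE.inv_eq heE))
    · intro h
      exact hne (c * d) (E.mul_mem hcE hdE) (by rw [conj_mul', hcfix, hdfix])
        ((eq_inv_of_mul_eq_one_left h).trans (hE.inv_eq heE))
  obtain ⟨g, hgc, hgd⟩ := h2 c hcE d hdE d hdE e heE hc1 hd1 hd1 he1 hdc.symm
    (hne d hdE hdfix)
  -- the conjugate transvection fixes `d` and `e`, and moves `c` to `c * d`
  have hconj : ∀ u : H, (g * b * g⁻¹) * (g * u * g⁻¹) * (g * b * g⁻¹)⁻¹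
      = g * (b * u * b⁻¹) * g⁻¹ := fun u => by group
  have hb'd : (g * b * g⁻¹) * d * (g * b * g⁻¹)⁻¹ = d := by
    conv_lhs => rw [← hgc]
    rw [hconj, hcfix, hgc]
  have hb'e : (g * b * g⁻¹) * e * (g * b * g⁻¹)⁻¹ = e := by
    conv_lhs => rw [← hgd]
    rw [hconj, hdfix, hgd]
  have hb'c : (g * b * g⁻¹) * c * (g * b * g⁻¹)⁻¹ = c * d := by
    obtain ⟨x, hxE, hx⟩ : ∃ x ∈ E, g * x * g⁻¹ = c :=
      ⟨g⁻¹ * c * g⁻¹⁻¹, hE.conj_mem hcE g⁻¹, by group⟩
    have hbx : b * x * b⁻¹ = x * c := by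
      obtain ⟨i, j, k, hijk⟩ := indep_span hE h8 hcE hdE heE hcde hxE
      fin_cases k
      · exfalso
        simp only [pow_zero, mul_one] at hijk
        have : c = d ^ (i : ℕ) * e ^ (j : ℕ) := by
          conv_lhs => rw [← hx, hijk, conj_mul', ← conj_pow, ← conj_pow, hgc, hgd]
        have h' : c ^ 1 * d ^ (i : ℕ) * e ^ (j : ℕ) = 1 := by
          rw [pow_one, mul_assoc, ← this, hE.sq hcE]
        exact absurd (indep_even (hE.sq hcE) (hE.sq hdE) (hE.sq heE) hcde h').1 (by norm_num)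
      · simp only [pow_one] at hijk
        rw [hijk, conj_mul', conj_mul', ← conj_pow, ← conj_pow, hcfix, hdfix, hbe,
          mul_assoc (c ^ (i : ℕ) * d ^ (j : ℕ)) e c, hE.comm heE hcE]
    conv_lhs => rw [← hx]
    rw [hconj, hbx, conj_mul', hx, hgc]
  have hvconj : ∀ u : H, b * (g * b * g⁻¹) * u * (b * (g * b * g⁻¹))⁻¹
      = b * ((g * b * g⁻¹) * u * (g * b * g⁻¹)⁻¹) * b⁻¹ := fun u => by group
  refine ⟨b, g, c, d, e, hcE, hdE, heE, hcde, hb2', ?_, ?_, ?_⟩
  · rw [hvconj, hb'e, hbe]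
  · rw [hvconj, conj_mul' (g * b * g⁻¹), hb'c, hb'e, conj_mul', conj_mul', hcfix, hdfix, hbe]
    rw [← mul_assoc, hE.comm hcE hdE, mul_assoc d c c, hE.sq hcE, mul_one]
  · rw [hvconj, hb'd, hdfix]

end EightAb

open EightAb in
set_option maxHeartbeats 1000000 in
/-- An abelian two-group centralizing a doubly transitive group of eight involution points
cannot exist. -/
theorem eight_abelian {H : Type*} [Group H] [Finite H] (E : Subgroup H) (hE : IsInvSub E)
    (h2 : ConjTrans₂ E) (h8 : Nat.card E = 8) (hC : IsPGroup 2 (Subgroup.centralizer (E : Set H)))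
    (hab : ∀ x ∈ Subgroup.centralizer (E : Set H), ∀ y ∈ Subgroup.centralizer (E : Set H),
      x * y = y * x) : False := by
  obtain ⟨b, g, c, d, e, hcE, hdE, heE, hcde, hb2, hve, hvce, hvd⟩ := exists_frame hE h2 h8
  set v := b * (g * b * g⁻¹) with hv
  haveI := hE.normal
  set C := Subgroup.centralizer (E : Set H) with hCdef
  haveI : C.Normal := Subgroup.normal_centralizer
  let _ : CommGroup C :=
    { (inferInstance : Group C) with mul_comm := fun x y => Subtype.ext (hab x x.2 y y.2) }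
  -- the exponent
  have hex : ∃ n : ℕ, ∀ x : C, x ^ 2 ^ n = 1 := by
    obtain ⟨m, hm⟩ := IsPGroup.iff_card.1 hC
    exact ⟨m, fun x => by rw [← hm]; exact pow_card_eq_one'⟩
  classical
  set n := Nat.find hex with hn
  have hN : ∀ x : C, x ^ 2 ^ n = 1 := Nat.find_spec hex
  obtain ⟨hc1, hd1, he1, hcd, hce, hde, hcdee⟩ := hcde
  have hEC : ∀ u ∈ E, u ∈ C := fun u hu => hE.mem_centralizer hu
  have hn1 : 1 ≤ n := by
    by_contra hlt
    have h0 := hN ⟨c, hEC c hcE⟩
    rw [show n = 0 by omega, pow_zero, pow_one] at h0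
    exact hc1 (congrArg Subtype.val h0)
  obtain ⟨m, hm⟩ : ∃ m, n = m + 1 := ⟨n - 1, by omega⟩
  -- the top power map is onto
  obtain ⟨r, hr⟩ : ∃ r : C, ((r : H) ^ 2 ^ m) = e := by
    obtain ⟨x, hx⟩ : ∃ x : C, x ^ 2 ^ m ≠ 1 := by
      by_contra hcon
      push Not at hcon
      exact Nat.find_min hex (show m < Nat.find hex by omega) hcon
    have hxE : ((x : H) ^ 2 ^ m) ∈ E := (hE _).2 (by
      rw [← pow_add, ← two_mul, ← pow_succ', ← hm]; exact congrArg Subtype.val (hN x))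
    have hx1 : ((x : H) ^ 2 ^ m) ≠ 1 := fun h => hx (Subtype.ext (by simpa using h))
    have : ∃ a ∈ E, a ≠ 1 ∧ a ≠ (x : H) ^ 2 ^ m := by
      by_cases h : c = (x : H) ^ 2 ^ m
      · exact ⟨d, hdE, hd1, fun h' => hcd (by rw [h, ← h', hE.sq hdE])⟩
      · exact ⟨c, hcE, hc1, h⟩
    obtain ⟨a, haE, ha1, hax⟩ := this
    obtain ⟨k, hk⟩ : ∃ k : H, k * (x : H) ^ 2 ^ m * k⁻¹ = e := by
      by_cases h : (x : H) ^ 2 ^ m = e
      · exact ⟨1, by simp [h]⟩
      · obtain ⟨k, hk, -⟩ := h2 _ hxE a haE e heE _ hxE hx1 ha1 he1 hx1 hax.symm (Ne.symm h)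
        exact ⟨k, hk⟩
    exact ⟨⟨k * x * k⁻¹, (inferInstance : C.Normal).conj_mem _ x.2 k⟩, by
      show (k * (x : H) * k⁻¹) ^ 2 ^ m = e
      rw [conj_pow, hk]⟩
  let α : H →* MulAut C := MulAut.conjNormal
  have hα : ∀ (k : H) (u : C), ((α k u : C) : H) = k * u * k⁻¹ := fun k u => by simp [α]
  let p : Fin 3 → C := ![r, α v r, α v (α v r)]
  have hp0 : ((p 0 : C) : H) ^ 2 ^ m = e := hr
  have hp1 : ((p 1 : C) : H) ^ 2 ^ m = c * e := by
    show ((α v r : C) : H) ^ 2 ^ m = _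
    rw [hα, conj_pow, hr, hve]
  have hp2 : ((p 2 : C) : H) ^ 2 ^ m = d * e := by
    show ((α v (α v r) : C) : H) ^ 2 ^ m = _
    rw [hα, conj_pow, hα, conj_pow, hr, hve, hvce]
  have hceE := E.mul_mem hcE heE
  have hdeE := E.mul_mem hdE heE
  have hind : Indep e (c * e) (d * e) := by
    have a1 : e * (c * e) = c := by
      rw [hE.comm hcE heE, ← mul_assoc, hE.sq heE, one_mul]
    have a2 : e * (d * e) = d := by
      rw [hE.comm hdE heE, ← mul_assoc, hE.sq heE, one_mul]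
    have a3 : c * e * (d * e) = c * d := by rw [mul_assoc, a2]
    refine ⟨he1, hce, hde, ?_, ?_, ?_, ?_⟩
    · rw [a1]; exact hc1
    · rw [a2]; exact hd1
    · rw [a3]; exact hcd
    · rw [a1, ← mul_assoc]; exact hcdee
  -- coordinates
  have hNpos : 0 < 2 ^ n := Nat.two_pow_pos n
  haveI : NeZero (2 ^ n) := ⟨hNpos.ne'⟩
  have hmod : ∀ (x : C) (i : ℕ), x ^ (i % 2 ^ n) = x ^ i := fun x i => by
    conv_rhs => rw [← Nat.mod_add_div i (2 ^ n)]
    rw [pow_add, pow_mul, hN, one_pow, mul_one]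
  let φ : (Fin 3 → ZMod (2 ^ n)) →+ Additive C :=
    AddMonoidHom.mk' (fun a => Additive.ofMul
      (p 0 ^ (a 0).val * p 1 ^ (a 1).val * p 2 ^ (a 2).val)) (fun a a' => by
      apply Additive.toMul.injective
      simp only [toMul_ofMul, toMul_add, Pi.add_apply, ZMod.val_add, hmod, pow_add]
      exact (rearr _ _ _ _ _ _).symm)
  have hφnat : ∀ i j k : ℕ, φ ![(i : ZMod (2 ^ n)), (j : ZMod (2 ^ n)), (k : ZMod (2 ^ n))]
      = Additive.ofMul (p 0 ^ i * p 1 ^ j * p 2 ^ k) := fun i j k => by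
    show Additive.ofMul _ = _
    simp [ZMod.val_natCast, hmod]
  have hlift : ∀ i j k : ℕ, ((p 0 ^ i * p 1 ^ j * p 2 ^ k : C) : H) ^ 2 ^ m
      = e ^ i * (c * e) ^ j * (d * e) ^ k := by
    intro i j k
    have h' : (p 0 ^ i * p 1 ^ j * p 2 ^ k : C) ^ 2 ^ m
        = (p 0 ^ 2 ^ m) ^ i * (p 1 ^ 2 ^ m) ^ j * (p 2 ^ 2 ^ m) ^ k := by
      rw [triple_pow, ← pow_mul, ← pow_mul, ← pow_mul, mul_comm i, mul_comm j, mul_comm k]
    have h'' := congrArg Subtype.val h'
    simp only [Subgroup.coe_mul, SubgroupClass.coe_pow] at h'' ⊢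
    rw [h'', hp0, hp1, hp2]
  have hinj : Function.Injective φ := by
    rw [injective_iff_map_eq_zero]
    intro a ha
    have ha' : p 0 ^ (a 0).val * p 1 ^ (a 1).val * p 2 ^ (a 2).val = 1 := ha
    have key : ∀ t ≤ n, ∀ i j k : ℕ, p 0 ^ i * p 1 ^ j * p 2 ^ k = 1 →
        2 ^ t ∣ i ∧ 2 ^ t ∣ j ∧ 2 ^ t ∣ k := by
      intro t
      induction t with
      | zero => intros; simp
      | succ t ih =>
        intro ht i j k hijk
        obtain ⟨⟨i', rfl⟩, ⟨j', rfl⟩, ⟨k', rfl⟩⟩ := ih (by omega) i j k hijk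
        obtain ⟨s, hs⟩ : ∃ s, m = t + s := ⟨m - t, by omega⟩
        have h' : (p 0 ^ i' * p 1 ^ j' * p 2 ^ k') ^ 2 ^ m = 1 := by
          rw [hs, pow_add, pow_mul]
          have h'' : (p 0 ^ i' * p 1 ^ j' * p 2 ^ k') ^ 2 ^ t
              = p 0 ^ (2 ^ t * i') * p 1 ^ (2 ^ t * j') * p 2 ^ (2 ^ t * k') := by
            rw [triple_pow, mul_comm i', mul_comm j', mul_comm k']
          rw [h'', hijk, one_pow]
        have h3 := congrArg Subtype.val h'
        rw [SubgroupClass.coe_pow, hlift, OneMemClass.coe_one] at h3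
        obtain ⟨a1, a2, a3⟩ := indep_even (hE.sq heE) (hE.sq hceE) (hE.sq hdeE) hind h3
        rw [pow_succ]
        exact ⟨mul_dvd_mul_left _ (Nat.dvd_of_mod_eq_zero a1),
          mul_dvd_mul_left _ (Nat.dvd_of_mod_eq_zero a2),
          mul_dvd_mul_left _ (Nat.dvd_of_mod_eq_zero a3)⟩
    obtain ⟨h0, h1, h2'⟩ := key n le_rfl _ _ _ ha'
    funext i
    have hz : ∀ u : ZMod (2 ^ n), 2 ^ n ∣ u.val → u = 0 := fun u hu =>
      (ZMod.val_eq_zero u).1 (Nat.eq_zero_of_dvd_of_lt hu (ZMod.val_lt u))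
    fin_cases i
    · exact hz _ h0
    · exact hz _ h1
    · exact hz _ h2'
  have hsurj : Function.Surjective φ := by
    have key : ∀ t ≤ n, ∀ x : C, x ^ 2 ^ t = 1 →
        ∃ i j k : ℕ, x = p 0 ^ i * p 1 ^ j * p 2 ^ k := by
      intro t
      induction t with
      | zero =>
        intro _ x hx
        exact ⟨0, 0, 0, by simpa using hx⟩
      | succ t ih =>
        intro ht x hx
        have hxE : ((x : H) ^ 2 ^ t) ∈ E := (hE _).2 (by
          rw [← pow_add, ← two_mul, ← pow_succ']; exact congrArg Subtype.val hx)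
        obtain ⟨i, j, k, hijk⟩ := indep_span hE h8 heE hceE hdeE hind hxE
        obtain ⟨s, hs⟩ : ∃ s, m = t + s := ⟨m - t, by omega⟩
        let y : C := (p 0 ^ (i : ℕ) * p 1 ^ (j : ℕ) * p 2 ^ (k : ℕ)) ^ 2 ^ s
        have hy : y ^ 2 ^ t = x ^ 2 ^ t := by
          apply Subtype.ext
          rw [← pow_mul, ← pow_add, add_comm, ← hs, SubgroupClass.coe_pow, hlift,
            SubgroupClass.coe_pow, hijk]
        obtain ⟨i', j', k', h'⟩ := ih (by omega) (x * y⁻¹)
          (by rw [mul_pow, inv_pow, hy, mul_inv_cancel])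
        refine ⟨i' + i * 2 ^ s, j' + j * 2 ^ s, k' + k * 2 ^ s, ?_⟩
        rw [eq_mul_of_mul_inv_eq h']
        simp only [y]
        rw [triple_pow, rearr, ← pow_add, ← pow_add, ← pow_add]
    intro x
    obtain ⟨i, j, k, h⟩ := key n le_rfl (Additive.toMul x) (hN _)
    exact ⟨_, (hφnat i j k).trans (by rw [← h]; rfl)⟩
  let Φ : (Fin 3 → ZMod (2 ^ n)) ≃+ Additive C := AddEquiv.ofBijective φ ⟨hinj, hsurj⟩
  let ρ : H → ((Fin 3 → ZMod (2 ^ n)) →ₗ[ZMod (2 ^ n)] (Fin 3 → ZMod (2 ^ n))) := fun k =>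
    AddMonoidHom.toZModLinearMap (2 ^ n)
      (Φ.symm.toAddMonoidHom.comp ((MonoidHom.toAdditive (α k).toMonoidHom).comp Φ.toAddMonoidHom))
  have hρ : ∀ k a, Φ (ρ k a) = Additive.ofMul (α k (Additive.toMul (Φ a))) := fun k a => by
    show Φ (Φ.symm _) = _
    rw [AddEquiv.apply_symm_apply]
    rfl
  have hρmul : ∀ k k', ρ (k * k') = (ρ k).comp (ρ k') := fun k k' => LinearMap.ext fun a => by
    apply Φ.injective
    show Φ (ρ (k * k') a) = Φ (ρ k (ρ k' a))
    rw [hρ, hρ, hρ, map_mul]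
    rfl
  have hρC : ∀ k, k ∈ C → ρ k = LinearMap.id := fun k hk => LinearMap.ext fun a => by
    apply Φ.injective
    rw [hρ]
    apply Additive.toMul.injective
    apply Subtype.ext
    show ((α k (Additive.toMul (Φ a)) : C) : H) = _
    rw [hα, hab k hk _ (Additive.toMul (Φ a)).2, mul_inv_cancel_right]
    rfl
  have hρ1 : ρ 1 = LinearMap.id := hρC 1 C.one_mem
  -- `b ^ 2` centralizes `E`
  have hbb : b * b ∈ C := Subgroup.mem_centralizer_iff.2 fun u hu => by
    have := hb2 u hu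
    calc u * (b * b) = b * (b * u * b⁻¹) * b⁻¹ * (b * b) := by rw [this]
      _ = b * b * u := by group
  have hdet : LinearMap.det (ρ v) = 1 := by
    have hgg : LinearMap.det (ρ g) * LinearMap.det (ρ g⁻¹) = 1 := by
      rw [← LinearMap.det_comp, ← hρmul, mul_inv_cancel, hρ1, LinearMap.det_id]
    rw [hv, hρmul, hρmul, hρmul, LinearMap.det_comp, LinearMap.det_comp, LinearMap.det_comp]
    calc LinearMap.det (ρ b) * (LinearMap.det (ρ g) * LinearMap.det (ρ b) * LinearMap.det (ρ g⁻¹))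
        = LinearMap.det (ρ b) * LinearMap.det (ρ b) * (LinearMap.det (ρ g) * LinearMap.det (ρ g⁻¹)) := by
          ring
      _ = 1 := by rw [hgg, mul_one, ← LinearMap.det_comp, ← hρmul, hρC _ hbb, LinearMap.det_id]
  -- the standard basis
  let ε : Fin 3 → (Fin 3 → ZMod (2 ^ n)) := fun i => Pi.single i 1
  have hε : ∀ i, Φ (ε i) = Additive.ofMul (p i) := by
    intro i
    have h1 : (1 : ZMod (2 ^ n)).val = 1 := by
      haveI : Fact (1 < 2 ^ n) := ⟨Nat.one_lt_two_pow (by omega)⟩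
      exact ZMod.val_one _
    show φ (ε i) = _
    fin_cases i <;> simp [φ, ε, h1]
  have hv0 : ρ v (ε 0) = ε 1 := Φ.injective (by rw [hρ, hε, hε]; rfl)
  have hv1 : ρ v (ε 1) = ε 2 := Φ.injective (by rw [hρ, hε, hε]; rfl)
  set u := ρ v (ε 2) with hu
  have hdec : ∀ a : Fin 3 → ZMod (2 ^ n), a = a 0 • ε 0 + a 1 • ε 1 + a 2 • ε 2 := fun a => by
    funext i; fin_cases i <;> simp [ε]
  have happ : ∀ a : Fin 3 → ZMod (2 ^ n), ρ v a = a 0 • ε 1 + a 1 • ε 2 + a 2 • u := fun a => by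
    conv_lhs => rw [hdec a]
    rw [map_add, map_add, map_smul, map_smul, map_smul, hv0, hv1]
  have hA : u 0 = 1 := by
    rw [← hdet, ← LinearMap.det_toMatrix', Matrix.det_fin_three]
    have key : ∀ i j : Fin 3, LinearMap.toMatrix' (ρ v) i j = ρ v (ε j) i := fun i j => by
      simp [ε, LinearMap.toMatrix'_apply, Pi.single_apply]
    simp only [key, hv0, hv1, ← hu]
    simp [ε]
  -- `v ^ 4` centralizes `E`
  set w := v * v * (v * v) with hw
  have hwC : w ∈ C := by
    refine Subgroup.mem_centralizer_iff.2 fun a ha => ?_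
    obtain ⟨i, j, k, rfl⟩ := indep_span hE h8 heE hceE hdeE hind ha
    have hvde : v * (d * e) * v⁻¹ = d * (c * e) := by rw [conj_mul', hvd, hve]
    have hvdce : v * (d * (c * e)) * v⁻¹ = e := by
      rw [conj_mul', hvd, hvce, ← mul_assoc, hE.sq hdE, one_mul]
    have hfix : ∀ x, v * (v * (v * (v * x * v⁻¹) * v⁻¹) * v⁻¹) * v⁻¹ = x → Commute x w :=
      fun x hx => by
        show x * w = w * x
        conv_lhs => rw [← hx]
        rw [hw]; group
    refine (Commute.mul_left (Commute.mul_left ?_ ?_) ?_).eq <;> refine Commute.pow_left ?_ _ <;>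
      apply hfix
    · rw [hve, hvce, hvde, hvdce]
    · rw [hvce, hvde, hvdce, hve]
    · rw [hvde, hvdce, hve, hvce]
  have hK : u 2 = 1 ∧ u 1 = -1 := by
    have h4 : ρ v (ρ v (ρ v (ρ v (ε 0)))) = ε 0 := by
      have := LinearMap.congr_fun (hρC w hwC) (ε 0)
      rw [hw, hρmul, hρmul] at this
      simpa using this
    rw [hv0, hv1, ← hu, happ] at h4
    have e0 := congrFun h4 0
    have e1 := congrFun h4 1
    simp [ε, hA] at e0 e1
    rw [e0, one_mul] at e1
    exact ⟨e0, eq_neg_of_add_eq_zero_right e1⟩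
  obtain ⟨hK1, hK2⟩ := hK
  -- the fixed point `w`
  set a := Φ.symm (Additive.ofMul (⟨w, hwC⟩ : C)) with ha
  have hΦa : Φ a = Additive.ofMul (⟨w, hwC⟩ : C) := AddEquiv.apply_symm_apply _ _
  have hafix : ρ v a = a := by
    apply Φ.injective
    rw [hρ, hΦa]
    apply Additive.toMul.injective
    apply Subtype.ext
    show ((α v ⟨w, hwC⟩ : C) : H) = w
    rw [hα]
    show v * (v * v * (v * v)) * v⁻¹ = v * v * (v * v)
    group
  rw [happ] at hafix
  have f0 := congrFun hafix 0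
  have f1 := congrFun hafix 1
  simp [ε, hA, hK2] at f0 f1
  have ha1 : a 1 = 0 := by rw [← f1, f0, add_neg_cancel]
  have hz : a + (-(a 0)) • ε 0 + ρ v (ρ v ((-(a 0)) • ε 0)) = 0 := by
    rw [map_smul, map_smul, hv0, hv1]
    funext i
    fin_cases i <;> simp [ε, ha1, f0]
  set s : C := Additive.toMul (Φ ((-(a 0)) • ε 0)) with hs
  have hprod : (⟨w, hwC⟩ : C) * s * α v (α v s) = 1 := by
    apply Additive.ofMul.injective
    rw [ofMul_mul, ofMul_mul, ofMul_one, ← map_zero Φ, ← hz, map_add, map_add, hΦa, hρ, hρ]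
    rfl
  have hq : (v * v * (s : H)) * (v * v * (s : H)) = 1 := by
    have hp' : α v (α v s) * ⟨w, hwC⟩ * s = (1 : C) := by
      rw [← hprod, mul_assoc (α v (α v s)), mul_comm (α v (α v s))]
    have h' := congrArg Subtype.val hp'
    simp only [Subgroup.coe_mul, hα, OneMemClass.coe_one] at h'
    rw [← h', hw]
    simp only [mul_assoc, inv_mul_cancel_left]
  have hqE : v * v * (s : H) ∈ E := (hE _).2 hq
  have hse : (s : H) * e = e * s := ((Subgroup.mem_centralizer_iff.1 s.2) e heE).symm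
  have hmove : v * v * e * (v * v)⁻¹ = d * e := by
    rw [← hvce, ← hve]; group
  apply hd1
  have hfix : v * v * e * (v * v)⁻¹ = e := by
    have h' := hE.comm hqE heE
    calc v * v * e * (v * v)⁻¹ = v * v * ((s : H) * e * (s : H)⁻¹) * (v * v)⁻¹ := by
          rw [hse, mul_inv_cancel_right]
      _ = (v * v * (s : H) * e) * (v * v * (s : H))⁻¹ := by group
      _ = e := by rw [h', mul_inv_cancel_right]
  rw [hmove] at hfix
  exact mul_eq_right.1 hfix

end Cfsg.Agent.Pyramid
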