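import Cfsg.Agent.Pyramid.Basic

/-!
# A two-transitively permuted subgroup of order eight with non-abelian centraliser is impossible
-/

set_option autoImplicit false
set_option linter.style.haveILetI false
set_option linter.unusedSectionVars false

namespace Cfsg.Agent.Pyramid.EightSuzuki

open Cfsg.Agent.Pyramid
open scoped Pointwise

variable {H : Type*} [Group H]

/-- `g` acts on `E` as the transvection with centre `c` and axis `{1, c, a, c * a}`. -/
structure Tv (E : Subgroup H) (g c a : H) : Prop where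
  hc : c ∈ E
  ha : a ∈ E
  c1 : c ≠ 1
  a1 : a ≠ 1
  ne : c ≠ a
  fc : g * c * g⁻¹ = c
  fa : g * a * g⁻¹ = a
  mv : ∀ e ∈ E, e ≠ 1 → e ≠ c → e ≠ a → e ≠ c * a → g * e * g⁻¹ = e * c

/-- The four-group spanned by `c` and `a`. -/
def K (c a : H) : Set H := {e | e = 1 ∨ e = c ∨ e = a ∨ e = c * a}

theorem cj_mul (g x y : H) : g * (x * y) * g⁻¹ = (g * x * g⁻¹) * (g * y * g⁻¹) := by group

theorem cj_cj (g h x : H) : (g * h) * x * (g * h)⁻¹ = g * (h * x * h⁻¹) * g⁻¹ := by group

theorem mem_C {E : Subgroup H} {k : H} :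
    k ∈ Subgroup.centralizer (E : Set H) ↔ ∀ e ∈ E, k * e * k⁻¹ = e := by
  rw [Subgroup.mem_centralizer_iff]
  constructor
  · intro h e he
    rw [← h e he]; group
  · intro h e he
    have := h e he
    calc e * k = (k * e * k⁻¹) * k := by rw [this]
      _ = k * e := by group

theorem C_comm {E : Subgroup H} {x e : H} (hx : x ∈ Subgroup.centralizer (E : Set H)) (he : e ∈ E) :
    x * e * x⁻¹ = e := mem_C.1 hx e he

theorem cj_mem_C {E : Subgroup H} (hE : IsInvSub E) {k : H}
    (hk : k ∈ Subgroup.centralizer (E : Set H)) (g : H) :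
    g * k * g⁻¹ ∈ Subgroup.centralizer (E : Set H) := by
  refine mem_C.2 fun e he => ?_
  have h := C_comm hk (hE.conj_mem he g⁻¹)
  rw [inv_inv] at h
  calc g * k * g⁻¹ * e * (g * k * g⁻¹)⁻¹ = g * (k * (g⁻¹ * e * g) * k⁻¹) * g⁻¹ := by group
    _ = g * (g⁻¹ * e * g) * g⁻¹ := by rw [h]
    _ = e := by group

namespace Tv

variable {E : Subgroup H} {g c a : H}

theorem fix_K (t : Tv E g c a) {e : H} (he : e ∈ K c a) : g * e * g⁻¹ = e := by
  rcases he with rfl | rfl | rfl | rfl
  · group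
  · exact t.fc
  · exact t.fa
  · rw [cj_mul, t.fc, t.fa]

theorem K_mem (t : Tv E g c a) {e : H} (he : e ∈ K c a) : e ∈ E := by
  rcases he with rfl | rfl | rfl | rfl
  exacts [E.one_mem, t.hc, t.ha, E.mul_mem t.hc t.ha]

theorem mv' (t : Tv E g c a) {e : H} (he : e ∈ E) (hK : e ∉ K c a) : g * e * g⁻¹ = e * c :=
  t.mv e he (fun h => hK (Or.inl h)) (fun h => hK (Or.inr (Or.inl h)))
    (fun h => hK (Or.inr (Or.inr (Or.inl h)))) (fun h => hK (Or.inr (Or.inr (Or.inr h))))

theorem mem_K (t : Tv E g c a) {e : H} (he : e ∈ E) (hf : g * e * g⁻¹ = e) : e ∈ K c a := by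
  by_contra hK
  rw [t.mv' he hK] at hf
  exact t.c1 (mul_eq_left.1 hf)

theorem cover (t : Tv E g c a) (hE : IsInvSub E) {e p : H} (he : e ∈ E) (hp : p ∈ E)
    (h1 : e ∉ K c a) (h2 : p ∉ K c a) : e * p ∈ K c a := by
  refine t.mem_K (E.mul_mem he hp) ?_
  rw [cj_mul, t.mv' he h1, t.mv' hp h2]
  calc e * c * (p * c) = e * (c * p) * c := by group
    _ = e * (p * c) * c := by rw [hE.comm t.hc hp]
    _ = e * p * (c * c) := by group
    _ = e * p := by rw [hE.sq t.hc, mul_one]

theorem conj (t : Tv E g c a) (hE : IsInvSub E) (h : H) :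
    Tv E (h * g * h⁻¹) (h * c * h⁻¹) (h * a * h⁻¹) := by
  have key : ∀ e : H, h * g * h⁻¹ * (h * e * h⁻¹) * (h * g * h⁻¹)⁻¹ = h * (g * e * g⁻¹) * h⁻¹ := by
    intro e; group
  refine ⟨hE.conj_mem t.hc h, hE.conj_mem t.ha h, ?_, ?_, ?_, ?_, ?_, ?_⟩
  · simpa using t.c1
  · simpa using t.a1
  · simpa using t.ne
  · rw [key, t.fc]
  · rw [key, t.fa]
  · intro e he h1 h2 h3 h4
    have hm : h⁻¹ * e * h ∈ E := by simpa using hE.conj_mem he h⁻¹
    have hnK : h⁻¹ * e * h ∉ K c a := by
      have back : ∀ x, h⁻¹ * e * h = x → e = h * x * h⁻¹ := fun x hx => by rw [← hx]; group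
      rintro (r | r | r | r)
      · exact h1 (by rw [back _ r]; group)
      · exact h2 (back _ r)
      · exact h3 (back _ r)
      · exact h4 (by rw [back _ r, cj_mul])
    have := key (h⁻¹ * e * h)
    rw [t.mv' hm hnK, show h * (h⁻¹ * e * h) * h⁻¹ = e by group] at this
    rw [this]; group

/-- The action of a transvection is determined by its centre and axis. -/
theorem same (t : Tv E g c a) (hE : IsInvSub E) {g' : H} (t' : Tv E g' c a) :
    g⁻¹ * g' ∈ Subgroup.centralizer (E : Set H) := by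
  refine mem_C.2 fun e he => ?_
  have h : g * e * g⁻¹ = g' * e * g'⁻¹ := by
    by_cases hK : e ∈ K c a
    · rw [t.fix_K hK, t'.fix_K hK]
    · rw [t.mv' he hK, t'.mv' he hK]
  rw [cj_cj, ← h]; group

end Tv

theorem involution_tv {E : Subgroup H} (hE : IsInvSub E) (h8 : Nat.card E = 8) {g : H}
    (hg : g ∉ Subgroup.centralizer (E : Set H)) (hg2 : g * g ∈ Subgroup.centralizer (E : Set H)) :
    ∃ c a, Tv E g c a := by
  haveI : Finite E := Nat.finite_of_card_ne_zero (by rw [h8]; norm_num)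
  let f : ↥E →* ↥E :=
    { toFun := fun e => ⟨g * e * g⁻¹ * e, E.mul_mem (hE.conj_mem e.2 g) e.2⟩
      map_one' := by ext; simp
      map_mul' := fun x y => by
        refine Subtype.ext ?_
        show g * ((x : H) * y) * g⁻¹ * (x * y) = g * x * g⁻¹ * x * (g * y * g⁻¹ * y)
        rw [cj_mul]
        calc g * ↑x * g⁻¹ * (g * ↑y * g⁻¹) * (↑x * ↑y)
            = g * ↑x * g⁻¹ * ((g * ↑y * g⁻¹) * ↑x) * ↑y := by group
          _ = g * ↑x * g⁻¹ * (↑x * (g * ↑y * g⁻¹)) * ↑y := by rw [hE.comm (hE.conj_mem y.2 g) x.2]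
          _ = g * ↑x * g⁻¹ * ↑x * (g * ↑y * g⁻¹ * ↑y) := by group }
  have hker : ∀ e : ↥E, e ∈ f.ker ↔ g * e * g⁻¹ = (e : H) := by
    intro e
    rw [MonoidHom.mem_ker, Subtype.ext_iff]
    show g * (e : H) * g⁻¹ * e = 1 ↔ _
    rw [mul_eq_one_iff_eq_inv, hE.inv_eq e.2]
  have hrk : f.range ≤ f.ker := by
    rintro _ ⟨e, rfl⟩
    rw [hker]
    show g * (g * (e : H) * g⁻¹ * e) * g⁻¹ = g * (e : H) * g⁻¹ * e
    have := C_comm hg2 e.2
    rw [cj_mul, ← cj_cj, this, hE.comm (hE.conj_mem e.2 g) e.2]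
  have hmul : Nat.card f.ker * Nat.card f.range = 8 := by
    rw [← h8, ← Subgroup.card_mul_index f.ker, Subgroup.index_ker]
  have hr1 : Nat.card f.range ≠ 1 := fun h => by
    refine hg (mem_C.2 fun e he => ?_)
    have hb : f.range = ⊥ := Subgroup.card_eq_one.1 h
    exact (hker ⟨e, he⟩).1 (by rw [MonoidHom.range_eq_bot_iff.1 hb]; simp)
  have hle := Nat.card_le_card_of_injective _ (Subgroup.inclusion_injective hrk)
  have hdvd : Nat.card f.range ∣ 8 := hmul ▸ dvd_mul_left _ _
  have hr2 : Nat.card f.range = 2 := by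
    have := Nat.le_of_dvd (by norm_num) hdvd
    interval_cases hn : Nat.card f.range <;> omega
  have hk4 : Nat.card f.ker = 4 := by rw [hr2] at hmul; omega
  haveI : Nontrivial f.range := Finite.one_lt_card_iff_nontrivial.1 (by omega)
  obtain ⟨⟨c, hcR⟩, hc1⟩ := exists_ne (1 : f.range)
  have hc1' : c ≠ 1 := fun h => hc1 (Subtype.ext h)
  have hRc : ∀ e : ↥E, e ∉ f.ker → f e = c := by
    intro e he
    haveI := Fintype.ofFinite f.range
    have h2 : Nat.card f.range = 2 := hr2
    rw [Nat.card_eq_two_iff' (⟨1, one_mem _⟩ : f.range)] at h2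
    obtain ⟨u, -, hu⟩ := h2
    have e1 := hu ⟨f e, e, rfl⟩ (fun h => he (congrArg Subtype.val h))
    have e2 := hu ⟨c, hcR⟩ (fun h => hc1' (congrArg Subtype.val h))
    exact congrArg Subtype.val (e1.trans e2.symm)
  obtain ⟨a, haK, ha⟩ : ∃ a ∈ f.ker, a ≠ 1 ∧ a ≠ c := by
    by_contra hcon
    push Not at hcon
    have hsub : (f.ker : Set ↥E) ⊆ {1, c} := fun x hx => by
      by_cases h : x = 1
      · exact Or.inl h
      · exact Or.inr (hcon x hx h)
    have := Set.ncard_le_ncard hsub (Set.toFinite _)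
    have h2 : ({1, c} : Set ↥E).ncard ≤ 2 := (Set.ncard_insert_le _ _).trans (by simp)
    rw [← Nat.card_coe_set_eq, SetLike.coe_sort_coe, hk4] at this
    omega
  refine ⟨c, a, c.2, a.2, fun h => hc1' (Subtype.ext h), fun h => ha.1 (Subtype.ext h),
    fun h => ha.2 (Subtype.ext h.symm), (hker c).1 (hrk hcR), (hker a).1 haK, ?_⟩
  intro e he h1 h2 h3 h4
  have hnot : (⟨e, he⟩ : ↥E) ∉ f.ker := by
    intro hek
    have hsub : ({1, c, a, c * a, ⟨e, he⟩} : Set ↥E) ⊆ f.ker := by
      rintro x (rfl | rfl | rfl | rfl | rfl)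
      exacts [one_mem _, hrk hcR, haK, mul_mem (hrk hcR) haK, hek]
    have hn : ({1, c, a, c * a, ⟨e, he⟩} : Set ↥E).ncard = 5 := by
      have q1 : c * a ≠ 1 := fun h => ha.2 (by
        have := mul_eq_one_iff_inv_eq.1 h
        exact this.symm.trans (Subtype.ext (hE.inv_eq c.2)))
      have q2 : c * a ≠ c := fun h => ha.1 (mul_eq_left.1 h)
      have q3 : c * a ≠ a := fun h => hc1' (mul_eq_right.1 h)
      rw [Set.ncard_insert_of_notMem, Set.ncard_insert_of_notMem, Set.ncard_insert_of_notMem,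
        Set.ncard_insert_of_notMem, Set.ncard_singleton]
      · simp only [Set.mem_singleton_iff]
        exact fun h => h4 (congrArg Subtype.val h).symm
      · simp only [Set.mem_insert_iff, Set.mem_singleton_iff, not_or]
        exact ⟨q3.symm, fun h => h3 (congrArg Subtype.val h).symm⟩
      · simp only [Set.mem_insert_iff, Set.mem_singleton_iff, not_or]
        exact ⟨ha.2.symm, q2.symm, fun h => h2 (congrArg Subtype.val h).symm⟩
      · simp only [Set.mem_insert_iff, Set.mem_singleton_iff, not_or]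
        exact ⟨Ne.symm hc1', ha.1.symm, q1.symm, fun h => h1 (congrArg Subtype.val h).symm⟩
    have := Set.ncard_le_ncard hsub (Set.toFinite _)
    rw [hn, ← Nat.card_coe_set_eq, SetLike.coe_sort_coe, hk4] at this
    omega
  have := congrArg Subtype.val (hRc _ hnot)
  change g * e * g⁻¹ * e = (c : H) at this
  calc g * e * g⁻¹ = (g * e * g⁻¹ * e) * e⁻¹ := by group
    _ = (c : H) * e := by rw [this, hE.inv_eq he]
    _ = e * (c : H) := hE.comm c.2 he

/-- An element of `E` outside a four-group. -/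
theorem exists_not_K {E : Subgroup H} (h8 : Nat.card E = 8) (c a : H) : ∃ p ∈ E, p ∉ K c a := by
  by_contra hcon
  push Not at hcon
  have hsub : (E : Set H) ⊆ {1, c, a, c * a} := fun x hx => hcon x hx
  have h1 := Set.ncard_le_ncard hsub (Set.toFinite _)
  have h2 : ({1, c, a, c * a} : Set H).ncard ≤ 4 :=
    ((Set.ncard_insert_le _ _).trans (Nat.add_le_add_right ((Set.ncard_insert_le _ _).trans
      (Nat.add_le_add_right ((Set.ncard_insert_le _ _).trans (by simp)) 1)) 1))
  rw [← Nat.card_coe_set_eq, SetLike.coe_sort_coe, h8] at h1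
  omega

theorem exists_tv [Finite H] {E : Subgroup H} (hE : IsInvSub E) (h8 : Nat.card E = 8)
    (h2 : ConjTrans₂ E) {c a : H} (hc : c ∈ E) (ha : a ∈ E) (c1 : c ≠ 1) (a1 : a ≠ 1)
    (hne : c ≠ a) : ∃ g, Tv E g c a := by
  obtain ⟨s, hs1, hs2⟩ := h2 c hc a ha a ha c hc c1 a1 a1 c1 hne hne.symm
  obtain ⟨k, m, hm, hkm⟩ := Nat.exists_eq_two_pow_mul_odd (orderOf_pos s).ne'
  obtain ⟨j, rfl⟩ := hm
  have hsq : s * s * c * (s * s)⁻¹ = c := by rw [cj_cj, hs1, hs2]
  have hfix : ∀ i : ℕ, (s * s) ^ i * c * ((s * s) ^ i)⁻¹ = c := by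
    intro i
    induction i with
    | zero => simp
    | succ i ih => rw [pow_succ, cj_cj, hsq, ih]
  have hs' : s ^ (2 * j + 1) ∉ Subgroup.centralizer (E : Set H) := fun h => by
    have h1 := C_comm h hc
    rw [pow_succ', cj_cj, pow_mul, pow_two, hfix, hs1] at h1
    exact hne h1.symm
  have hk : ∃ i, (s ^ (2 * j + 1)) ^ 2 ^ i ∈ Subgroup.centralizer (E : Set H) :=
    ⟨k, by rw [← pow_mul, mul_comm, ← hkm, pow_orderOf_eq_one]; exact one_mem _⟩
  classical
  have hpos : Nat.find hk ≠ 0 := fun h => hs' (by simpa [h] using Nat.find_spec hk)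
  obtain ⟨i, hi⟩ := Nat.exists_eq_succ_of_ne_zero hpos
  obtain ⟨c0, a0, t0⟩ := involution_tv hE h8 (g := (s ^ (2 * j + 1)) ^ 2 ^ i)
    (Nat.find_min hk (by omega))
    (by rw [← pow_add, show 2 ^ i + 2 ^ i = 2 ^ (i + 1) by rw [pow_succ]; omega]
        have := Nat.find_spec hk
        rwa [hi] at this)
  obtain ⟨h, e1, e2⟩ := h2 c0 t0.hc a0 t0.ha c hc a ha t0.c1 t0.a1 c1 a1 t0.ne hne
  refine ⟨h * (s ^ (2 * j + 1)) ^ 2 ^ i * h⁻¹, ?_⟩
  have t := t0.conj hE h
  rwa [e1, e2] at t

/-! ### The centraliser modulo `E` -/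

/-- The commutator. -/
def b (x y : H) : H := x * y * x⁻¹ * y⁻¹

section

variable {E : Subgroup H}
  (hE : IsInvSub E) (hsq : ∀ x ∈ Subgroup.centralizer (E : Set H), x * x ∈ E)

local notation "C" => Subgroup.centralizer (E : Set H)

include hE in
theorem E_le_C {e : H} (he : e ∈ E) : e ∈ C := hE.mem_centralizer he

include hE hsq in
theorem b_mem {x y : H} (hx : x ∈ C) (hy : y ∈ C) : b x y ∈ E := by
  have h1 := hsq _ (mul_mem hx hy)
  have h3 := C_comm (inv_mem hy) (inv_mem (hsq x hx))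
  have e : b x y = (x * y) * (x * y) * (y⁻¹ * (x * x)⁻¹ * y⁻¹⁻¹ * (y * y)⁻¹) := by
    unfold b; group
  rw [e, h3]
  exact mul_mem h1 (mul_mem (inv_mem (hsq x hx)) (inv_mem (hsq y hy)))

include hE hsq in
theorem sq_mul {x y : H} (hx : x ∈ C) (hy : y ∈ C) :
    (x * y) * (x * y) = b x y * (x * x) * (y * y) := by
  have hb := b_mem hE hsq hx hy
  have h1 : y * x = b x y * (x * y) := by
    conv_rhs => rw [← hE.inv_eq hb]
    unfold b; group
  calc (x * y) * (x * y) = x * (y * x) * y := by group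
    _ = (x * b x y * x⁻¹) * (x * x) * (y * y) := by rw [h1]; group
    _ = b x y * (x * x) * (y * y) := by rw [C_comm hx hb]

include hE hsq in
theorem b_mul {x y z : H} (hx : x ∈ C) (hy : y ∈ C) (hz : z ∈ C) :
    b (x * y) z = b y z * b x z := by
  calc b (x * y) z = (x * b y z * x⁻¹) * b x z := by unfold b; group
    _ = b y z * b x z := by rw [C_comm hx (b_mem hE hsq hy hz)]

theorem b_E {e y : H} (he : e ∈ E) (hy : y ∈ C) : b e y = 1 := by
  calc b e y = e * (y * e⁻¹ * y⁻¹) := by unfold b; group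
    _ = 1 := by rw [C_comm hy (inv_mem he), mul_inv_cancel]

include hE hsq in
theorem b_right {x e p : H} (hx : x ∈ C) (hp : p ∈ C) (he : e ∈ E) : b x (e * p) = b x p := by
  have hb := b_mem hE hsq hx hp
  calc b x (e * p) = (x * e * x⁻¹) * b x p * e⁻¹ := by unfold b; group
    _ = (e * b x p) * e⁻¹ := by rw [C_comm hx he]
    _ = (b x p * e) * e⁻¹ := by rw [hE.comm he hb]
    _ = b x p := by group

include hE in
theorem sq_mul_E {x e : H} (hx : x ∈ C) (he : e ∈ E) : (x * e) * (x * e) = x * x := by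
  calc (x * e) * (x * e) = x * (e * x) * e := by group
    _ = x * (x * e) * e := by
      rw [show e * x = x * e from Subgroup.mem_centralizer_iff.1 hx e he]
    _ = x * x * (e * e) := by group
    _ = x * x := by rw [hE.sq he, mul_one]

/-- The elements of `C` fixed modulo `E` by `g`. -/
def W (g : H) : Subgroup H where
  carrier := {x | x ∈ C ∧ g * x * g⁻¹ * x⁻¹ ∈ E}
  one_mem' := ⟨one_mem _, by simp⟩
  mul_mem' := by
    rintro x y ⟨hx, hx'⟩ ⟨hy, hy'⟩
    refine ⟨mul_mem hx hy, ?_⟩
    have : g * (x * y) * g⁻¹ * (x * y)⁻¹ =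
        (g * x * g⁻¹ * x⁻¹) * (x * (g * y * g⁻¹ * y⁻¹) * x⁻¹) := by group
    rw [this, C_comm hx hy']
    exact mul_mem hx' hy'
  inv_mem' := by
    rintro x ⟨hx, hx'⟩
    refine ⟨inv_mem hx, ?_⟩
    have : g * x⁻¹ * g⁻¹ * x⁻¹⁻¹ = x⁻¹ * (g * x * g⁻¹ * x⁻¹)⁻¹ * x⁻¹⁻¹ := by group
    rw [this, C_comm (inv_mem hx) (inv_mem hx')]
    exact inv_mem hx'

theorem mem_W {g x : H} : x ∈ W (E := E) g ↔ x ∈ C ∧ g * x * g⁻¹ * x⁻¹ ∈ E := Iff.rfl

include hE in
theorem E_le_W (g : H) {e : H} (he : e ∈ E) : e ∈ W (E := E) g :=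
  mem_W.2 ⟨E_le_C hE he, mul_mem (hE.conj_mem he g) (inv_mem he)⟩

include hE hsq in
theorem W_mul (g : H) {k : H} (hk : k ∈ C) : W (E := E) (g * k) = W (E := E) g := by
  ext x
  rw [mem_W, mem_W]
  refine and_congr_right fun hx => ?_
  have : g * k * x * (g * k)⁻¹ * x⁻¹ = (g * b k x * g⁻¹) * (g * x * g⁻¹ * x⁻¹) := by
    unfold b; group
  rw [this]
  exact E.mul_mem_cancel_left (hE.conj_mem (b_mem hE hsq hk hx) g)

include hE in
theorem W_conj_mem (g h : H) {x : H} (hx : x ∈ W (E := E) g) :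
    h * x * h⁻¹ ∈ W (E := E) (h * g * h⁻¹) := by
  refine mem_W.2 ⟨cj_mem_C hE hx.1 h, ?_⟩
  have : h * g * h⁻¹ * (h * x * h⁻¹) * (h * g * h⁻¹)⁻¹ * (h * x * h⁻¹)⁻¹ =
      h * (g * x * g⁻¹ * x⁻¹) * h⁻¹ := by group
  rw [this]
  exact hE.conj_mem hx.2 h

include hE hsq in
theorem sq_fix {g x : H} (hx : x ∈ W (E := E) g) : g * (x * x) * g⁻¹ = x * x := by
  obtain ⟨hxC, he⟩ := mem_W.1 hx
  rw [cj_mul, show g * x * g⁻¹ = (g * x * g⁻¹ * x⁻¹) * x by group]
  generalize g * x * g⁻¹ * x⁻¹ = e at he ⊢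
  calc e * x * (e * x) = e * (x * e * x⁻¹) * (x * x) := by group
    _ = (e * e) * (x * x) := by rw [C_comm hxC he]
    _ = x * x := by rw [hE.sq he, one_mul]

end

/-- A fixed-point bound for an automorphism of order dividing four of an elementary group of order 64. -/
theorem index_fix_sq {V : Type*} [CommGroup V] [Finite V] (hV : Nat.card V = 64)
    (h2 : ∀ x : V, x * x = 1) (α : V →* V) (h4 : ∀ x, α (α (α (α x))) = x) :
    ∃ K : Subgroup V, 16 ≤ Nat.card K ∧ ∀ x ∈ K, α (α x) = x := by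
  set D : V →* V := α * MonoidHom.id V with hD
  have hDD : ∀ x, D (D x) = α (α x) * x := fun x => by
    show α (α x * x) * (α x * x) = α (α x) * x
    rw [map_mul]
    calc α (α x) * α x * (α x * x) = α (α x) * (α x * α x) * x := by simp only [mul_assoc]
      _ = α (α x) * x := by rw [h2, mul_one]
  refine ⟨(D.comp D).ker, ?_, fun x hx => ?_⟩
  swap
  · rw [MonoidHom.mem_ker, MonoidHom.comp_apply, hDD] at hx
    exact mul_eq_one_iff_eq_inv.1 hx |>.trans (inv_eq_of_mul_eq_one_right (h2 x))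
  have hrk : (D.comp D).range ≤ (D.comp D).ker := by
    rintro _ ⟨x, rfl⟩
    rw [MonoidHom.mem_ker, MonoidHom.comp_apply, MonoidHom.comp_apply, hDD (D (D x)), hDD x,
      map_mul, map_mul, h4]
    calc x * α (α x) * (α (α x) * x) = x * (α (α x) * α (α x)) * x := by simp only [mul_assoc]
      _ = 1 := by rw [h2, mul_one, h2]
  have hm : Nat.card (D.comp D).ker * Nat.card (D.comp D).range = 64 := by
    rw [← hV, ← Subgroup.card_mul_index (D.comp D).ker, Subgroup.index_ker]
  have hle := Nat.card_le_card_of_injective _ (Subgroup.inclusion_injective hrk)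
  have hkdvd : Nat.card (D.comp D).ker ∣ 2 ^ 6 := by
    have := Subgroup.card_subgroup_dvd_card (D.comp D).ker
    rwa [hV] at this
  obtain ⟨i, -, hi⟩ := (Nat.dvd_prime_pow Nat.prime_two).1 hkdvd
  rw [hi] at hm hle ⊢
  by_contra hlt
  have hi3 : i = 3 := by
    have h1 : i < 4 := by
      by_contra h
      exact hlt (show 2 ^ 4 ≤ 2 ^ i from Nat.pow_le_pow_right (by norm_num) (by omega))
    have h4' : 64 ≤ 2 ^ i * 2 ^ i := hm ▸ Nat.mul_le_mul_left _ hle
    interval_cases i <;> omega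
  subst hi3
  have heq : (D.comp D).range = (D.comp D).ker := by
    refine Subgroup.eq_of_le_of_card_ge hrk ?_
    rw [hi]; omega
  have hK1 : D.ker ≤ D.range := by
    intro x hx
    have : x ∈ (D.comp D).ker := by
      rw [MonoidHom.mem_ker, MonoidHom.comp_apply, MonoidHom.mem_ker.1 hx, map_one]
    rw [← heq] at this
    obtain ⟨y, rfl⟩ := this
    exact ⟨D y, rfl⟩
  have e1 : Nat.card D.ker * Nat.card D.range = 64 := by
    rw [← hV, ← Subgroup.card_mul_index D.ker, Subgroup.index_ker]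
  have e2 : Nat.card D.ker * Nat.card (D.comp D).range = Nat.card D.range := by
    have h := Subgroup.card_mul_index (D.domRestrict D.range).ker
    rw [Subgroup.index_ker, MonoidHom.ker_domRestrict,
      Nat.card_congr (Subgroup.subgroupOfEquivOfLe hK1).toEquiv, MonoidHom.domRestrict_range] at h
    rwa [MonoidHom.range_comp]
  have e3 : Nat.card (D.comp D).range = 8 := by omega
  rw [e3] at e2
  rw [← e2] at e1
  have hb : Nat.card D.ker ≤ 8 := by nlinarith
  interval_cases hn : Nat.card D.ker <;> omega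

section

variable [Finite H] {E : Subgroup H}

local notation "C" => Subgroup.centralizer (E : Set H)

theorem card_W_sq (hE : IsInvSub E) (hsq : ∀ x ∈ C, x * x ∈ E) (h8 : Nat.card E = 8)
    (hcard : Nat.card ↥C = 512) {v : H} (hv : v * v * (v * v) ∈ C) :
    128 ≤ Nat.card ↥(W (E := E) (v * v)) := by
  classical
  haveI hEn : E.Normal := hE.normal
  set N : Subgroup ↥C := E.subgroupOf C with hN
  have hmemN : ∀ x : ↥C, x ∈ N ↔ (x : H) ∈ E := fun x => Iff.rfl
  letI : CommGroup (↥C ⧸ N) :=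
    { (inferInstance : Group (↥C ⧸ N)) with
      mul_comm := by
        intro a b'
        induction a using QuotientGroup.induction_on with
        | H x =>
          induction b' using QuotientGroup.induction_on with
          | H y =>
            refine QuotientGroup.eq.2 ((hmemN _).2 ?_)
            have hb := b_mem hE hsq (inv_mem y.2) (inv_mem x.2)
            show ((x : H) * y)⁻¹ * (y * x) ∈ E
            convert hb using 1
            unfold b; group }
  let φ : ↥C →* ↥C :=
    { toFun := fun x => ⟨v * x * v⁻¹, cj_mem_C hE x.2 v⟩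
      map_one' := by ext; simp
      map_mul' := fun x y => Subtype.ext (cj_mul v x y) }
  let α : ↥C ⧸ N →* ↥C ⧸ N := QuotientGroup.map N N φ (fun x hx => hE.conj_mem hx v)
  have hα : ∀ x : ↥C, α x = ((φ x : ↥C) : ↥C ⧸ N) := fun x => rfl
  have hNc : Nat.card N = 8 := by
    rw [hN, Nat.card_congr (Subgroup.subgroupOfEquivOfLe fun x hx => E_le_C hE hx).toEquiv, h8]
  have hV : Nat.card (↥C ⧸ N) = 64 := by
    have h := Subgroup.card_eq_card_quotient_mul_card_subgroup N
    rw [hcard, hNc] at h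
    omega
  obtain ⟨K₀, hK, hKfix⟩ := index_fix_sq hV (fun x => by
    induction x using QuotientGroup.induction_on with
    | H y => exact (QuotientGroup.eq_one_iff _).2 (hsq _ y.2)) α (fun x => by
    induction x using QuotientGroup.induction_on with
    | H y =>
      rw [hα, hα, hα, hα]
      refine QuotientGroup.eq.2 ((hmemN _).2 ?_)
      have hb := b_mem hE hsq hv (inv_mem y.2)
      show (v * (v * (v * (v * (y : H) * v⁻¹) * v⁻¹) * v⁻¹) * v⁻¹)⁻¹ * y ∈ E
      convert hb using 1
      simp only [b, mul_inv_rev, inv_inv, mul_assoc])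
  set L : Subgroup ↥C := K₀.comap (QuotientGroup.mk' N)
  have hLi : L.index = K₀.index := K₀.index_comap_of_surjective (QuotientGroup.mk'_surjective N)
  have hLc : 128 ≤ Nat.card L := by
    have h1 := Subgroup.card_mul_index L
    have h2 := Subgroup.card_mul_index K₀
    rw [hcard] at h1
    rw [hV] at h2
    rw [hLi] at h1
    have h3 : K₀.index ≤ 4 := by nlinarith
    nlinarith
  refine hLc.trans ?_
  rw [← Subgroup.card_map_of_injective (Subgroup.subtype_injective C)]
  refine Nat.card_le_card_of_injective _ (Subgroup.inclusion_injective ?_)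
  rintro _ ⟨y, hy, rfl⟩
  have h := hKfix _ hy
  rw [QuotientGroup.mk'_apply, hα, hα] at h
  have h' := (hmemN _).1 (QuotientGroup.eq.1 h.symm)
  refine mem_W.2 ⟨y.2, ?_⟩
  have h'' : (y : H)⁻¹ * (v * (v * y * v⁻¹) * v⁻¹) ∈ E := h'
  have := hE.conj_mem h'' (y : H)
  show v * v * (y : H) * (v * v)⁻¹ * (y : H)⁻¹ ∈ E
  convert this using 1
  group

theorem W_conj_card (hE : IsInvSub E) (g h : H) :
    Nat.card ↥(W (E := E) g) ≤ Nat.card ↥(W (E := E) (h * g * h⁻¹)) :=
  Nat.card_le_card_of_injective (fun x => ⟨h * x * h⁻¹, W_conj_mem hE g h x.2⟩) fun x y hxy => by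
    exact Subtype.ext (mul_left_cancel (mul_right_cancel (congrArg Subtype.val hxy)))

theorem card_W (hE : IsInvSub E) (hsq : ∀ x ∈ C, x * x ∈ E) (h2 : ConjTrans₂ E)
    (h8 : Nat.card E = 8) (hcard : Nat.card ↥C = 512) {g c a : H} (t : Tv E g c a) :
    128 ≤ Nat.card ↥(W (E := E) g) := by
  obtain ⟨p, hp, hpK⟩ := exists_not_K h8 c a
  have pa : p ≠ a := fun h => hpK (Or.inr (Or.inr (Or.inl h)))
  have pc : p ≠ c := fun h => hpK (Or.inr (Or.inl h))
  have p1 : p ≠ 1 := fun h => hpK (Or.inl h)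
  obtain ⟨g₂, t₂⟩ := exists_tv hE h8 h2 hp t.hc p1 t.c1 pc
  have haK : a ∉ K p c := by
    rintro (h | h | h | h)
    · exact t.a1 h
    · exact pa h.symm
    · exact t.ne h.symm
    · refine hpK (Or.inr (Or.inr (Or.inr ?_)))
      rw [h, hE.comm hp t.hc, ← mul_assoc, hE.sq t.hc, one_mul]
  set v := g * g₂ with hv
  have vc : v * c * v⁻¹ = c := by rw [hv, cj_cj, t₂.fa, t.fc]
  have vp : v * p * v⁻¹ = p * c := by rw [hv, cj_cj, t₂.fc, t.mv' hp hpK]
  have va : v * a * v⁻¹ = a * p * c := by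
    rw [hv, cj_cj, t₂.mv' t.ha haK, cj_mul, t.fa, t.mv' hp hpK, mul_assoc]
  have wc : v * v * c * (v * v)⁻¹ = c := by rw [cj_cj, vc, vc]
  have wa : v * v * a * (v * v)⁻¹ = a * c := by
    rw [cj_cj, va, cj_mul, cj_mul, va, vp, vc]
    calc a * p * c * (p * c) * c = a * p * (c * p) * (c * c) := by group
      _ = a * p * (p * c) * (c * c) := by rw [hE.comm t.hc hp]
      _ = a * (p * p) * c * (c * c) := by group
      _ = a * c := by rw [hE.sq hp, hE.sq t.hc, mul_one, mul_one]
  have wp : v * v * p * (v * v)⁻¹ = p := by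
    rw [cj_cj, vp, cj_mul, vp, vc, mul_assoc, hE.sq t.hc, mul_one]
  have hnot : v * v ∉ C := fun h => by
    rw [C_comm h t.ha] at wa
    exact t.c1 (mul_eq_left.1 wa.symm)
  have h4a : v * v * (v * v) * a * (v * v * (v * v))⁻¹ = a := by
    rw [cj_cj, wa, cj_mul, wa, wc, mul_assoc, hE.sq t.hc, mul_one]
  have h4c : v * v * (v * v) * c * (v * v * (v * v))⁻¹ = c := by rw [cj_cj, wc, wc]
  have h4p : v * v * (v * v) * p * (v * v * (v * v))⁻¹ = p := by rw [cj_cj, wp, wp]
  have h4 : v * v * (v * v) ∈ C := by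
    have hK : ∀ e ∈ K c a, v * v * (v * v) * e * (v * v * (v * v))⁻¹ = e := by
      rintro e (rfl | rfl | rfl | rfl)
      · group
      · exact h4c
      · exact h4a
      · rw [cj_mul, h4c, h4a]
    refine mem_C.2 fun e he => ?_
    by_cases heK : e ∈ K c a
    · exact hK e heK
    · have hek := t.cover hE he hp heK hpK
      have : e = (e * p) * p := by rw [mul_assoc, hE.sq hp, mul_one]
      rw [this, cj_mul, hK _ hek, h4p]
  obtain ⟨c', a', t'⟩ := involution_tv hE h8 hnot h4
  obtain ⟨h, e1, e2⟩ := h2 c' t'.hc a' t'.ha c t.hc a t.ha t'.c1 t'.a1 t.c1 t.a1 t'.ne t.ne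
  have t'' := t'.conj hE h
  rw [e1, e2] at t''
  have hk := t''.same hE t
  have : W (E := E) g = W (E := E) (h * (v * v) * h⁻¹) := by
    conv_lhs => rw [show g = h * (v * v) * h⁻¹ * ((h * (v * v) * h⁻¹)⁻¹ * g) by group]
    exact W_mul hE hsq _ hk
  rw [this]
  exact (card_W_sq hE hsq h8 hcard h4).trans (W_conj_card hE _ h)

/-- Three transvections with common centre. -/
theorem tv_mul (hE : IsInvSub E) {g g' c a a' : H} (t : Tv E g c a) (t' : Tv E g' c a')
    (ha' : a' ∉ K c a) (ha : a ∉ K c a') : Tv E (g * g') c (a * a') := by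
  refine ⟨t.hc, E.mul_mem t.ha t'.ha, t.c1, ?_, ?_, ?_, ?_, ?_⟩
  · intro h
    refine ha' (Or.inr (Or.inr (Or.inl ?_)))
    rw [mul_eq_one_iff_inv_eq, hE.inv_eq t.ha] at h
    exact h.symm
  · intro h
    refine ha' (Or.inr (Or.inr (Or.inr ?_)))
    rw [h, hE.comm (E.mul_mem t.ha t'.ha) t.ha, ← mul_assoc, hE.sq t.ha, one_mul]
  · rw [cj_cj, t'.fc, t.fc]
  · rw [cj_cj, cj_mul g' a a', t'.fa, t'.mv' t.ha ha, cj_mul, cj_mul, t.fa, t.fc, t.mv' t'.ha ha']
    calc a * c * (a' * c) = a * (c * a') * c := by group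
      _ = a * (a' * c) * c := by rw [hE.comm t.hc t'.ha]
      _ = a * a' * (c * c) := by group
      _ = a * a' := by rw [hE.sq t.hc, mul_one]
  · intro e he h1 h2 h3 h4
    have hcc : ∀ x : H, x * c * c = x := fun x => by rw [mul_assoc, hE.sq t.hc, mul_one]
    by_cases hK' : e ∈ K c a'
    · rw [cj_cj, t'.fix_K hK', t.mv' he fun hK => ?_]
      rcases hK' with r | r | r | r
      · exact h1 r
      · exact h2 r
      · exact ha' (r ▸ hK)
      · rw [r] at hK
        refine ha' (t.mem_K t'.ha ?_)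
        have := t.fix_K hK
        rw [cj_mul, t.fc] at this
        exact mul_left_cancel this
    · rw [cj_cj, t'.mv' he hK', cj_mul, t.fc]
      by_cases hK : e ∈ K c a
      · rw [t.fix_K hK]
      · exfalso
        have := t.cover hE he t'.ha hK ha'
        rcases this with r | r | r | r
        · refine hK' (Or.inr (Or.inr (Or.inl ?_)))
          rw [mul_eq_one_iff_eq_inv, hE.inv_eq t'.ha] at r
          exact r
        · refine hK' (Or.inr (Or.inr (Or.inr ?_)))
          rw [← r, mul_assoc, hE.sq t'.ha, mul_one]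
        · exact h3 (by rw [← r, mul_assoc, hE.sq t'.ha, mul_one])
        · exact h4 (by rw [← mul_assoc, ← r, mul_assoc, hE.sq t'.ha, mul_one])

/-- All non-identity fibres of squaring have one seventh of `C \ E`. -/
theorem card_fibre (hE : IsInvSub E) (hsq : ∀ x ∈ C, x * x ∈ E) (h8 : Nat.card E = 8)
    (h2 : ConjTrans₂ E) {c : H} (hc : c ∈ E) (c1 : c ≠ 1) :
    7 * Nat.card {x : H // x ∈ C ∧ x * x = c} + 8 = Nat.card ↥C := by
  classical
  haveI := Fintype.ofFinite H
  have htr : ∀ e ∈ E, e ≠ 1 → ∀ d ∈ E, d ≠ 1 → Nat.card {x : H // x ∈ C ∧ x * x = e} ≤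
      Nat.card {x : H // x ∈ C ∧ x * x = d} := by
    intro e he e1 d hd d1
    obtain ⟨p, hp, hpK⟩ := exists_not_K h8 e d
    have pe : p ≠ e := fun h => hpK (Or.inr (Or.inl h))
    have pd : p ≠ d := fun h => hpK (Or.inr (Or.inr (Or.inl h)))
    have p1 : p ≠ 1 := fun h => hpK (Or.inl h)
    obtain ⟨h, hh, -⟩ := h2 e he p hp d hd p hp e1 p1 d1 p1 pe.symm pd.symm
    refine Nat.card_le_card_of_injective (fun x => ⟨h * x.1 * h⁻¹, cj_mem_C hE x.2.1 h, by
      rw [← cj_mul, x.2.2, hh]⟩) fun x y hxy => Subtype.ext ?_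
    exact mul_left_cancel (mul_right_cancel (congrArg Subtype.val hxy))
  set S : Finset H := Finset.univ.filter (fun x => x ∈ C) with hS
  set T : Finset H := Finset.univ.filter (fun x => x ∈ E) with hT
  have hsum := Finset.card_eq_sum_card_fiberwise (f := fun x : H => x * x) (s := S) (t := T)
    (fun x hx => by
      simp only [hS, hT, Finset.coe_filter, Set.mem_setOf_eq, Finset.mem_univ, true_and] at hx ⊢
      exact hsq x hx)
  have hfib : ∀ e : H, (S.filter fun x => x * x = e).card =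
      Nat.card {x : H // x ∈ C ∧ x * x = e} := fun e => by
    rw [Nat.card_eq_fintype_card, Fintype.card_subtype, hS, Finset.filter_filter]
  have hTc : T.card = 8 := by
    rw [hT, ← Fintype.card_subtype, ← Nat.card_eq_fintype_card]; exact h8
  have hT1 : (1 : H) ∈ T := by simp [hT]
  rw [← Finset.add_sum_erase T _ hT1] at hsum
  have h1 : (S.filter fun x => x * x = 1) = T := by
    ext x
    simp only [hS, hT, Finset.mem_filter, Finset.mem_univ, true_and]
    exact ⟨fun h => (hE x).2 h.2, fun h => ⟨E_le_C hE h, hE.sq h⟩⟩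
  rw [h1, hTc, Finset.sum_congr rfl (g := fun _ => Nat.card {x : H // x ∈ C ∧ x * x = c})
    (fun e he => ?_), Finset.sum_const, Finset.card_erase_of_mem hT1, hTc, smul_eq_mul] at hsum
  · rw [show Nat.card ↥C = S.card by rw [hS, ← Fintype.card_subtype, ← Nat.card_eq_fintype_card],
      hsum]
    ring
  · simp only [hT, Finset.mem_erase, Finset.mem_filter, Finset.mem_univ, true_and] at he
    rw [hfib]
    exact le_antisymm (htr e he.2 he.1 c hc c1) (htr c hc c1 e he.2 he.1)

theorem inf_sq (hE : IsInvSub E) (hsq : ∀ x ∈ C, x * x ∈ E) {g g' c a a' : H}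
    (t : Tv E g c a) (t' : Tv E g' c a') (ha' : a' ∉ K c a) (ha : a ∉ K c a') {x : H}
    (hx : x ∈ W (E := E) g) (hx' : x ∈ W (E := E) g') (hxE : x ∉ E) : x * x = c := by
  have h1 := t.mem_K (hsq x hx.1) (sq_fix hE hsq hx)
  have h2 := t'.mem_K (hsq x hx.1) (sq_fix hE hsq hx')
  rcases h1 with r | r | r | r
  · exact absurd ((hE x).2 r) hxE
  · exact r
  · exact absurd (r ▸ h2) ha
  · rw [r] at h2
    have := t'.fix_K h2
    rw [cj_mul, t'.fc] at this
    exact absurd (t'.mem_K t.ha (mul_left_cancel this)) ha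

theorem small_inf (hE : IsInvSub E) (hsq : ∀ x ∈ C, x * x ∈ E) {c : H} (hc : c ∈ E) (c1 : c ≠ 1)
    (P : Subgroup H) (hPC : P ≤ C) (hEP : E ≤ P) (hP : ∀ x ∈ P, x ∉ E → x * x = c) :
    (∀ x ∈ P, ∀ y ∈ P, x ∉ E → y ∉ E → x * y ∉ E → b x y = c) ∧
    ∃ x y : H, x ∈ P ∧ y ∈ P ∧ ∀ z ∈ P, ∃ e ∈ E, z = e ∨ z = x * e ∨ z = y * e ∨ z = x * y * e := by
  have hb : ∀ x ∈ P, ∀ y ∈ P, x ∉ E → y ∉ E → x * y ∉ E → b x y = c := by
    intro x hx y hy hxE hyE hxyE
    have h := sq_mul hE hsq (hPC hx) (hPC hy)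
    rw [hP _ (P.mul_mem hx hy) hxyE, hP x hx hxE, hP y hy hyE, mul_assoc, hE.sq hc, mul_one] at h
    exact h.symm
  refine ⟨hb, ?_⟩
  by_cases h1 : ∀ z ∈ P, z ∈ E
  · exact ⟨1, 1, P.one_mem, P.one_mem, fun z hz => ⟨z, h1 z hz, Or.inl rfl⟩⟩
  push Not at h1
  obtain ⟨x, hx, hxE⟩ := h1
  by_cases h2 : ∀ z ∈ P, z ∈ E ∨ x⁻¹ * z ∈ E
  · refine ⟨x, 1, hx, P.one_mem, fun z hz => ?_⟩
    rcases h2 z hz with h | h
    · exact ⟨z, h, Or.inl rfl⟩
    · exact ⟨_, h, Or.inr (Or.inl (by group))⟩
  push Not at h2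
  obtain ⟨y, hy, hyE, hxy⟩ := h2
  refine ⟨x, y, hx, hy, fun z hz => ?_⟩
  by_contra hcon
  push Not at hcon
  have out : ∀ w ∈ P, w⁻¹ * z ∉ E → w * z ∉ E := fun w hw hn hm => hn (by
    have : w⁻¹ * z = (w * w)⁻¹ * (w * z) := by group
    rw [this]
    exact E.mul_mem (E.inv_mem (hsq w (hPC hw))) hm)
  have hzE : z ∉ E := fun h => (hcon z h).1 rfl
  have hxz : x * z ∉ E := out x hx fun h => (hcon _ h).2.1 (by group)
  have hyz : y * z ∉ E := out y hy fun h => (hcon _ h).2.2.1 (by group)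
  have hxyz : x * y * z ∉ E := out _ (P.mul_mem hx hy) fun h => (hcon _ h).2.2.2 (by group)
  have hxyE : x * y ∉ E := fun h => hxy (by
    have : x⁻¹ * y = (x * x)⁻¹ * (x * y) := by group
    rw [this]
    exact E.mul_mem (E.inv_mem (hsq x (hPC hx))) h)
  have h := hb _ (P.mul_mem hx hy) z hz hxyE hzE hxyz
  rw [b_mul hE hsq (hPC hx) (hPC hy) (hPC hz), hb y hy z hz hyE hzE hyz,
    hb x hx z hz hxE hzE hxz, hE.sq hc] at h
  exact c1 h.symm

end

end Cfsg.Agent.Pyramid.EightSuzuki

namespace Cfsg.Agent.Pyramid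

open EightSuzuki

theorem eight_suzuki {H : Type*} [Group H] [Finite H] (E : Subgroup H) (hE : IsInvSub E) (h2 : ConjTrans₂ E)
    (h8 : Nat.card E = 8) (hsq : ∀ x ∈ Subgroup.centralizer (E : Set H), x * x ∈ E)
    (hna : ∃ x ∈ Subgroup.centralizer (E : Set H), ∃ y ∈ Subgroup.centralizer (E : Set H), x * y ≠ y * x)
    (hcard : Nat.card (Subgroup.centralizer (E : Set H)) = 64 ∨
      Nat.card (Subgroup.centralizer (E : Set H)) = 512) : False := by
  classical
  obtain ⟨x, hx, y, hy, hxy⟩ := hna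
  have hcomm : ∀ {u w : H}, u ∈ E → w ∈ Subgroup.centralizer (E : Set H) → u * w = w * u :=
    fun hu hw => (Subgroup.mem_centralizer_iff.1 hw _ hu)
  have hxE : x ∉ E := fun h => hxy (hcomm h hy)
  have hyE : y ∉ E := fun h => hxy (hcomm h hx).symm
  rcases hcard with hcard | hcard
  · -- order 64: squaring is injective modulo `E`
    have hone : ∀ {u w c : H}, u ∈ Subgroup.centralizer (E : Set H) →
        w ∈ Subgroup.centralizer (E : Set H) → c ∈ E → c ≠ 1 → u * u = c → w * w = c → u⁻¹ * w ∈ E := by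
      intro u w c hu hw hc c1 hu2 hw2
      have hf := card_fibre hE hsq h8 h2 hc c1
      rw [hcard] at hf
      have hf8 : Nat.card {z : H // z ∈ Subgroup.centralizer (E : Set H) ∧ z * z = c} = 8 := by omega
      by_contra hn
      let F : Option ↥E → {z : H // z ∈ Subgroup.centralizer (E : Set H) ∧ z * z = c} := fun o =>
        o.elim ⟨w, hw, hw2⟩ (fun e => ⟨u * e, mul_mem hu (E_le_C hE e.2), by rw [sq_mul_E hE hu e.2, hu2]⟩)
      have hF : Function.Injective F := by
        rintro (_ | a) (_ | b') h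
        · rfl
        · exact absurd (by rw [show w = u * b' from congrArg Subtype.val h, inv_mul_cancel_left]; exact b'.2) hn
        · exact absurd (by rw [show w = u * a from (congrArg Subtype.val h).symm, inv_mul_cancel_left]; exact a.2) hn
        · exact congrArg some (Subtype.ext (mul_left_cancel (congrArg Subtype.val h)))
      have := Nat.card_le_card_of_injective F hF
      rw [Finite.card_option, h8, hf8] at this
      omega
    have q1 : x * x ≠ 1 := fun h => hxE ((hE x).2 h)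
    have q2 : y * y ≠ 1 := fun h => hyE ((hE y).2 h)
    have qne : x * x ≠ y * y := fun h => by
      have he := hone hx hy (hsq x hx) q1 rfl h.symm
      refine hxy ?_
      have e : y = x * (x⁻¹ * y) := by group
      rw [e]
      calc x * (x * (x⁻¹ * y)) = x * ((x⁻¹ * y) * x) := by rw [hcomm he hx]
        _ = x * (x⁻¹ * y) * x := by group
    obtain ⟨g, t⟩ := exists_tv hE h8 h2 (hsq x hx) (hsq y hy) q1 q2 qne
    have hW : ∀ {u : H}, u ∈ Subgroup.centralizer (E : Set H) → u * u ≠ 1 →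
        g * (u * u) * g⁻¹ = u * u → u ∈ W (E := E) g := by
      intro u hu h1 hf
      refine mem_W.2 ⟨hu, ?_⟩
      have he := hone hu (cj_mem_C hE hu g) (hsq u hu) h1 rfl (by rw [← cj_mul, hf])
      have := hE.conj_mem he u
      convert this using 1
      group
    have hxyW := (W (E := E) g).mul_mem (hW hx q1 t.fc) (hW hy q2 t.fa)
    have hK := t.mem_K (hsq _ (mul_mem hx hy)) (sq_fix hE hsq hxyW)
    have hne1 : x * y * (x * y) ≠ 1 := fun h => by
      have he := (hE _).2 h
      refine hxy ?_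
      have e : y = x⁻¹ * (x * y) := by group
      rw [e]
      calc x * (x⁻¹ * (x * y)) = x⁻¹ * (x * (x * y)) := by group
        _ = x⁻¹ * ((x * y) * x) := by rw [hcomm he hx]
        _ = x⁻¹ * (x * y) * x := by group
    rcases hK with r | r | r | r
    · exact hne1 r
    · have he := hone hx (mul_mem hx hy) (hsq x hx) q1 rfl r
      rw [inv_mul_cancel_left] at he
      exact hyE he
    · have he := hone hy (mul_mem hx hy) (hsq y hy) q2 rfl r
      have := hE.conj_mem he y
      rw [show y * (y⁻¹ * (x * y)) * y⁻¹ = x by group] at this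
      exact hxE this
    · apply hxy
      have : x * (y * x) * y = x * (x * y) * y := by
        calc x * (y * x) * y = x * y * (x * y) := by group
          _ = x * x * (y * y) := r
          _ = x * (x * y) * y := by group
      exact (mul_left_cancel (mul_right_cancel this)).symm
  · -- order 512: too many elements with a common square
    obtain ⟨c, hc, hc1⟩ : ∃ c ∈ E, c ≠ 1 := ⟨x * x, hsq x hx, fun h => hxE ((hE x).2 h)⟩
    obtain ⟨a, haE, ha⟩ := exists_not_K h8 c c
    have ac : c ≠ a := fun h => ha (Or.inr (Or.inl h.symm))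
    have a1 : a ≠ 1 := fun h => ha (Or.inl h)
    obtain ⟨a', ha'E, ha'⟩ := exists_not_K h8 c a
    have a'c : c ≠ a' := fun h => ha' (Or.inr (Or.inl h.symm))
    have a'1 : a' ≠ 1 := fun h => ha' (Or.inl h)
    obtain ⟨g, t⟩ := exists_tv hE h8 h2 hc haE hc1 a1 ac
    obtain ⟨g', t'⟩ := exists_tv hE h8 h2 hc ha'E hc1 a'1 a'c
    have haK : a ∉ K c a' := by
      rintro (h | h | h | h)
      · exact a1 h
      · exact ac h.symm
      · exact ha' (Or.inr (Or.inr (Or.inl h.symm)))
      · refine ha' (Or.inr (Or.inr (Or.inr ?_)))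
        rw [h, ← mul_assoc, hE.sq hc, one_mul]
    have t'' := tv_mul hE t t' ha' haK
    have t3 : Tv E (g' * g) c (a * a') := by
      have := tv_mul hE t' t haK ha'
      rwa [hE.comm ha'E haE] at this
    have haa' : a * a' ∉ K c a := fun h => ha' (by
      have := t.fix_K h
      rw [cj_mul, t.fa] at this
      exact t.mem_K ha'E (mul_left_cancel this))
    have haa'2 : a ∉ K c (a * a') := fun h => by
      have := t''.fix_K h
      rw [cj_cj, t'.mv' haE haK, cj_mul, t.fa, t.fc] at this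
      exact hc1 (mul_eq_left.1 this)
    set P := W (E := E) g ⊓ W (E := E) g' with hP
    have hPC : P ≤ Subgroup.centralizer (E : Set H) := fun z hz => hz.1.1
    have hEP : E ≤ P := fun z hz => ⟨E_le_W hE g hz, E_le_W hE g' hz⟩
    have hPc : ∀ z ∈ P, z ∉ E → z * z = c := fun z hz => inf_sq hE hsq t t' ha' haK hz.1 hz.2
    obtain ⟨hb, u, w, hu, hw, hcov⟩ := small_inf hE hsq hc hc1 P hPC hEP hPc
    haveI := Fintype.ofFinite H
    -- finsets
    set fP : Finset H := Finset.univ.filter (fun z => z ∈ P) with hfP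
    set fE : Finset H := Finset.univ.filter (fun z => z ∈ E) with hfE
    have card_fin : ∀ S : Subgroup H, (Finset.univ.filter (fun z => z ∈ S)).card = Nat.card S := fun S => by
      rw [← Fintype.card_subtype, ← Nat.card_eq_fintype_card]
    have hPle : Nat.card P ≤ 32 := by
      rw [← card_fin P, ← hfP]
      have : fP ⊆ ({1, u, w, u * w} : Finset H).biUnion (fun r => fE.image (fun e => r * e)) := by
        intro z hz
        obtain ⟨e, he, hh⟩ := hcov z (by simpa [hfP] using hz)
        simp only [Finset.mem_biUnion, Finset.mem_image, Finset.mem_insert, Finset.mem_singleton, hfE,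
          Finset.mem_filter, Finset.mem_univ, true_and]
        rcases hh with h | h | h | h
        · exact ⟨1, Or.inl rfl, e, he, by rw [h, one_mul]⟩
        · exact ⟨u, Or.inr (Or.inl rfl), e, he, h.symm⟩
        · exact ⟨w, Or.inr (Or.inr (Or.inl rfl)), e, he, h.symm⟩
        · exact ⟨u * w, Or.inr (Or.inr (Or.inr rfl)), e, he, h.symm⟩
      refine (Finset.card_le_card this).trans ((Finset.card_biUnion_le_card_mul _ _ 8 fun r _ => ?_).trans ?_)
      · exact Finset.card_image_le.trans (by rw [hfE, card_fin E, h8])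
      · exact Nat.mul_le_mul_right 8 Finset.card_le_four
    have hW1 := card_W hE hsq h2 h8 hcard t
    have hW2 := card_W hE hsq h2 h8 hcard t'
    have hW3 := card_W hE hsq h2 h8 hcard t''
    -- the product bound
    have hPge : 32 ≤ Nat.card P := by
      set W1 := W (E := E) g
      set W2 := W (E := E) g'
      have hle1 : W1 ≤ Subgroup.centralizer (E : Set H) := fun z hz => hz.1
      have hle2 : W2 ≤ Subgroup.centralizer (E : Set H) := fun z hz => hz.1
      have e1 := Subgroup.relIndex_mul_relIndex ⊥ P W1 bot_le inf_le_left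
      have e2 := Subgroup.relIndex_mul_relIndex ⊥ W2 _ bot_le hle2
      rw [Subgroup.relIndex_bot_left, Subgroup.relIndex_bot_left] at e1 e2
      have e3 : P.relIndex W1 = W2.relIndex W1 := Subgroup.inf_relIndex_left W1 W2
      have e4 : W2.relIndex W1 ≤ W2.relIndex (Subgroup.centralizer (E : Set H)) :=
        Subgroup.relIndex_le_of_le_right hle1 Subgroup.index_ne_zero_of_finite
      rw [hcard] at e2
      rw [e3] at e1
      have e5 : W2.relIndex (Subgroup.centralizer (E : Set H)) ≤ 4 := by nlinarith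
      nlinarith
    -- the two further intersections coincide with `P`
    have hmem3 : ∀ z ∈ P, z ∈ W (E := E) (g * g') := by
      intro z hz
      refine mem_W.2 ⟨hPC hz, ?_⟩
      have : g * g' * z * (g * g')⁻¹ * z⁻¹ =
          (g * (g' * z * g'⁻¹ * z⁻¹) * g⁻¹) * (g * z * g⁻¹ * z⁻¹) := by group
      rw [this]
      exact mul_mem (hE.conj_mem hz.2.2 g) hz.1.2
    have h13 : ∀ z, z ∈ W (E := E) g → z ∈ W (E := E) (g * g') → z ∈ P := by
      intro z hz hz'
      refine ⟨hz, mem_W.2 ⟨hz.1, ?_⟩⟩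
      have h1 : g * (g' * z * g'⁻¹ * z⁻¹) * g⁻¹ ∈ E := by
        have : g * (g' * z * g'⁻¹ * z⁻¹) * g⁻¹ =
            (g * g' * z * (g * g')⁻¹ * z⁻¹) * (g * z * g⁻¹ * z⁻¹)⁻¹ := by group
        rw [this]; exact mul_mem hz'.2 (inv_mem hz.2)
      have := hE.conj_mem h1 g⁻¹
      convert this using 1
      group
    have h23 : ∀ z, z ∈ W (E := E) g' → z ∈ W (E := E) (g * g') → z ∈ P := by
      intro z hz hz'
      refine ⟨mem_W.2 ⟨hz.1, ?_⟩, hz⟩
      have : g * z * g⁻¹ * z⁻¹ =
          (g * (g' * z * g'⁻¹ * z⁻¹) * g⁻¹)⁻¹ * (g * g' * z * (g * g')⁻¹ * z⁻¹) := by group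
      rw [this]; exact mul_mem (inv_mem (hE.conj_mem hz.2 g)) hz'.2
    -- a point of the fibre in each coset
    have hcoset : ∀ {g₁ g₂ a₁ a₂ : H}, Tv E g₁ c a₁ → Tv E g₂ c a₂ →
        g₁ * g₂ * g₁⁻¹ * g₂⁻¹ ∈ Subgroup.centralizer (E : Set H) →
        (∀ z, z ∈ P ↔ z ∈ W (E := E) g₁ ∧ z ∈ W (E := E) g₂) →
        ∀ z ∈ W (E := E) g₁, z ∉ P → ∃ p ∈ P, z * p * (z * p) = c := by
      intro g₁ g₂ a₁ a₂ t₁ t₂ hk hiff z hz hzP
      by_contra hcon
      push Not at hcon
      have hzC := hz.1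
      set z' := g₂ * z * g₂⁻¹ with hz'
      set d := z⁻¹ * z' with hd
      have hz'C : z' ∈ Subgroup.centralizer (E : Set H) := cj_mem_C hE hzC g₂
      have hdC : d ∈ Subgroup.centralizer (E : Set H) := mul_mem (inv_mem hzC) hz'C
      have hz'W : z' ∈ W (E := E) g₁ := by
        refine mem_W.2 ⟨hz'C, ?_⟩
        have hb' := b_mem hE hsq hk (cj_mem_C hE (cj_mem_C hE hzC g₁) g₂)
        have h1 := hE.conj_mem hz.2 g₂
        have : g₁ * z' * g₁⁻¹ * z'⁻¹ = b (g₁ * g₂ * g₁⁻¹ * g₂⁻¹) (g₂ * (g₁ * z * g₁⁻¹) * g₂⁻¹) *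
            (g₂ * (g₁ * z * g₁⁻¹ * z⁻¹) * g₂⁻¹) := by
          rw [hz']; unfold b; group
        rw [this]; exact mul_mem hb' h1
      have hk2 : g₂ * g₂ ∈ Subgroup.centralizer (E : Set H) := by
        refine mem_C.2 fun e he => ?_
        by_cases hK : e ∈ K c a₂
        · rw [cj_cj, t₂.fix_K hK, t₂.fix_K hK]
        · rw [cj_cj, t₂.mv' he hK, cj_mul, t₂.mv' he hK, t₂.fc, mul_assoc, hE.sq hc, mul_one]
      have hdP : d ∈ P := by
        refine (hiff d).2 ⟨mul_mem (inv_mem hz) hz'W, mem_W.2 ⟨hdC, ?_⟩⟩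
        have hbk := b_mem hE hsq hk2 hzC
        have : g₂ * d * g₂⁻¹ * d⁻¹ =
            (z'⁻¹ * b (g₂ * g₂) z * z'⁻¹⁻¹) * ((z'⁻¹ * z) * (z'⁻¹ * z)) := by
          rw [hd, hz']; unfold b; group
        rw [this]
        exact mul_mem (hE.conj_mem hbk z'⁻¹) (hsq _ (mul_mem (inv_mem hz'C) hzC))
      have hdE : d ∉ E := fun h => hzP ((hiff z).2 ⟨hz, mem_W.2 ⟨hzC, by
        have := hE.conj_mem h z
        rw [show z * d * z⁻¹ = z' * z⁻¹ by rw [hd]; group] at this
        exact this⟩⟩)
      have hzp : ∀ p ∈ P, z * p * (z * p) = a₁ ∨ z * p * (z * p) = c * a₁ := by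
        intro p hp
        have hzpW := (W (E := E) g₁).mul_mem hz ((hiff p).1 hp).1
        rcases t₁.mem_K (hsq _ hzpW.1) (sq_fix hE hsq hzpW) with r | r | r | r
        · exfalso
          exact hzP (by simpa using P.mul_mem (hEP ((hE _).2 r)) (P.inv_mem hp))
        · exact absurd r (hcon p hp)
        · exact Or.inl r
        · exact Or.inr r
      have hbd : ∀ p ∈ P, p ∉ E → b d p = 1 := by
        intro p hp hpE
        have hpC := hPC hp
        have hval : b z p = 1 ∨ b z p = c := by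
          have h := sq_mul hE hsq hzC hpC
          rw [hPc p hp hpE] at h
          have h0 := hzp 1 P.one_mem
          rw [mul_one] at h0
          have hbE := b_mem hE hsq hzC hpC
          have hbb : b z p = z * p * (z * p) * c * (z * z) := by
            rw [h]
            calc b z p = b z p * ((z * z) * (z * z)) * (c * c) := by
                  rw [hE.sq (hsq z hzC), hE.sq hc, mul_one, mul_one]
              _ = b z p * (z * z) * ((z * z) * (c * c)) := by group
              _ = b z p * (z * z) * ((c * c) * (z * z)) := by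
                  rw [hE.comm (hsq z hzC) (E.mul_mem hc hc)]
              _ = b z p * (z * z) * c * c * (z * z) := by group
          have ha₁ := t₁.ha
          rcases hzp p hp with r | r <;> rcases h0 with r0 | r0 <;> rw [r, r0] at hbb
          · right; rw [hbb, hE.comm ha₁ hc, mul_assoc, hE.sq ha₁, mul_one]
          · left
            rw [hbb, show a₁ * c * (c * a₁) = a₁ * (c * c) * a₁ by group, hE.sq hc, mul_one, hE.sq ha₁]
          · left
            rw [hbb, show c * a₁ * c * a₁ = (c * a₁) * (c * a₁) by group, hE.sq (E.mul_mem hc ha₁)]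
          · right
            rw [hbb, show c * a₁ * c * (c * a₁) = c * (a₁ * (c * c) * a₁) by group, hE.sq hc, mul_one,
              hE.sq ha₁, mul_one]
        have hfix : g₂ * b z p * g₂⁻¹ = b z p := by
          rcases hval with r | r
          · rw [r]; group
          · rw [r]; exact t₂.fc
        have hp' := ((hiff p).1 hp).2.2
        have hrew : g₂ * b z p * g₂⁻¹ = b (z * d) ((g₂ * p * g₂⁻¹ * p⁻¹) * p) := by
          rw [hd, hz']; unfold b; group
        rw [hrew, b_right hE hsq (mul_mem hzC hdC) hpC hp', b_mul hE hsq hzC hdC hpC] at hfix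
        exact mul_eq_right.1 hfix
      obtain ⟨p, hp, hpE, hdp⟩ : ∃ p ∈ P, p ∉ E ∧ d * p ∉ E := by
        by_contra hcon'
        push Not at hcon'
        have : fP ⊆ fE ∪ fE.image (fun e => d⁻¹ * e) := by
          intro p hp
          have hp' : p ∈ P := by simpa [hfP] using hp
          by_cases h : p ∈ E
          · exact Finset.mem_union_left _ (by simpa [hfE] using h)
          · exact Finset.mem_union_right _ (Finset.mem_image.2
              ⟨d * p, by simpa [hfE] using hcon' p hp' h, by group⟩)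
        have := (Finset.card_le_card this).trans ((Finset.card_union_le _ _).trans
          (Nat.add_le_add_left Finset.card_image_le _))
        rw [hfP, hfE, card_fin P, card_fin E, h8] at this
        omega
      have := hbd p hp hpE
      rw [hb d hdP p hp hdE hpE hdp] at this
      exact hc1 this
    -- counting
    set fF : Finset H := Finset.univ.filter
      (fun z => z ∈ Subgroup.centralizer (E : Set H) ∧ z * z = c) with hfF
    have hF72 : fF.card = 72 := by
      have := card_fibre hE hsq h8 h2 hc hc1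
      rw [hcard, Nat.card_eq_fintype_card, Fintype.card_subtype, ← hfF] at this
      omega
    have hS : ∀ g₁ : H, 128 ≤ Nat.card ↥(W (E := E) g₁) → (∀ z ∈ P, z ∈ W (E := E) g₁) →
        (∀ z ∈ W (E := E) g₁, z ∉ P → ∃ p ∈ P, z * p * (z * p) = c) →
        24 ≤ (fF.filter (fun z => z ∈ W (E := E) g₁ ∧ z ∉ P)).card := by
      intro g₁ hc128 hsub hex
      set S := fF.filter (fun z => z ∈ W (E := E) g₁ ∧ z ∉ P) with hSdef
      have hcover : (Finset.univ.filter (fun z => z ∈ W (E := E) g₁)) \ fP ⊆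
          ({1, u, w, u * w} : Finset H).biUnion (fun r => S.image (fun s => s * r⁻¹)) := by
        intro z hz
        simp only [hfP, Finset.mem_sdiff, Finset.mem_filter, Finset.mem_univ, true_and] at hz
        obtain ⟨p, hp, hpc⟩ := hex z hz.1 hz.2
        obtain ⟨e, he, hh⟩ := hcov p hp
        simp only [Finset.mem_biUnion, Finset.mem_image, Finset.mem_insert, Finset.mem_singleton, hSdef,
          hfF, Finset.mem_filter, Finset.mem_univ, true_and]
        have key : ∀ r, r ∈ P → p = r * e →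
            ((z * r ∈ Subgroup.centralizer (E : Set H) ∧ z * r * (z * r) = c) ∧
              z * r ∈ W (E := E) g₁ ∧ z * r ∉ P) ∧ z * r * r⁻¹ = z := by
          intro r hr hpe
          have hrC : z * r ∈ Subgroup.centralizer (E : Set H) := mul_mem hz.1.1 (hPC hr)
          refine ⟨⟨⟨hrC, ?_⟩, mul_mem hz.1 (hsub r hr), fun h => hz.2 (by
            simpa using P.mul_mem h (P.inv_mem hr))⟩, by group⟩
          rw [hpe, ← mul_assoc z r e, sq_mul_E hE hrC he] at hpc
          exact hpc
        rcases hh with h | h | h | h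
        · exact ⟨1, Or.inl rfl, z * 1, key 1 P.one_mem (by rw [h, one_mul])⟩
        · exact ⟨u, Or.inr (Or.inl rfl), z * u, key u hu h⟩
        · exact ⟨w, Or.inr (Or.inr (Or.inl rfl)), z * w, key w hw h⟩
        · exact ⟨u * w, Or.inr (Or.inr (Or.inr rfl)), z * (u * w), key _ (P.mul_mem hu hw) h⟩
      have hh := (Finset.card_le_card hcover).trans
        ((Finset.card_biUnion_le_card_mul _ _ S.card fun r _ => Finset.card_image_le).trans
          (Nat.mul_le_mul_right S.card Finset.card_le_four))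
      have h2' := Finset.le_card_sdiff fP (Finset.univ.filter (fun z => z ∈ W (E := E) g₁))
      rw [card_fin (W (E := E) g₁), hfP, card_fin P] at h2'
      rw [hfP] at hh
      omega
    have hcc : g * g' * g⁻¹ * g'⁻¹ ∈ Subgroup.centralizer (E : Set H) := by
      have := cj_mem_C hE (t3.same hE t'') (g' * g)
      convert this using 1
      group
    have hcc' : g' * g * g'⁻¹ * g⁻¹ ∈ Subgroup.centralizer (E : Set H) := by
      have := inv_mem hcc
      convert this using 1
      group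
    have hcc3 : g * g' * g * (g * g')⁻¹ * g⁻¹ ∈ Subgroup.centralizer (E : Set H) := by
      have := cj_mem_C hE hcc' g
      convert this using 1
      group
    have s1 := hS g hW1 (fun z hz => hz.1)
      (hcoset t t' hcc fun z => Iff.rfl)
    have s2 := hS g' hW2 (fun z hz => hz.2)
      (hcoset t' t hcc' fun z => ⟨fun h => ⟨h.2, h.1⟩, fun h => ⟨h.2, h.1⟩⟩)
    have s3 := hS (g * g') hW3 hmem3
      (hcoset t'' t hcc3 fun z => ⟨fun h => ⟨hmem3 z h, h.1⟩, fun h => h13 z h.2 h.1⟩)
    have s0 : 24 ≤ (fP \ fE).card := by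
      have := Finset.le_card_sdiff fE fP
      rw [hfP, hfE, card_fin P, card_fin E, h8] at this
      rw [hfP, hfE]
      omega
    set S1 := fF.filter (fun z => z ∈ W (E := E) g ∧ z ∉ P)
    set S2 := fF.filter (fun z => z ∈ W (E := E) g' ∧ z ∉ P)
    set S3 := fF.filter (fun z => z ∈ W (E := E) (g * g') ∧ z ∉ P)
    have hsub : (fP \ fE) ∪ S1 ∪ S2 ∪ S3 ⊆ fF := by
      refine Finset.union_subset (Finset.union_subset (Finset.union_subset ?_ (Finset.filter_subset _ _))
        (Finset.filter_subset _ _)) (Finset.filter_subset _ _)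
      intro z hz
      simp only [hfP, hfE, Finset.mem_sdiff, Finset.mem_filter, Finset.mem_univ, true_and] at hz
      simp only [hfF, Finset.mem_filter, Finset.mem_univ, true_and]
      exact ⟨hPC hz.1, hPc z hz.1 hz.2⟩
    have d1 : Disjoint (fP \ fE) S1 := Finset.disjoint_left.2 fun z hz hz' =>
      (Finset.mem_filter.1 hz').2.2 (by simpa [hfP] using (Finset.mem_sdiff.1 hz).1)
    have d2 : Disjoint ((fP \ fE) ∪ S1) S2 := Finset.disjoint_left.2 fun z hz hz' => by
      obtain ⟨h1, h2'⟩ := (Finset.mem_filter.1 hz').2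
      rcases Finset.mem_union.1 hz with h | h
      · exact h2' (by simpa [hfP] using (Finset.mem_sdiff.1 h).1)
      · exact h2' ⟨(Finset.mem_filter.1 h).2.1, h1⟩
    have d3 : Disjoint ((fP \ fE) ∪ S1 ∪ S2) S3 := Finset.disjoint_left.2 fun z hz hz' => by
      obtain ⟨h1, h2'⟩ := (Finset.mem_filter.1 hz').2
      rcases Finset.mem_union.1 hz with h | h
      · rcases Finset.mem_union.1 h with h | h
        · exact h2' (by simpa [hfP] using (Finset.mem_sdiff.1 h).1)
        · exact h2' (h13 z (Finset.mem_filter.1 h).2.1 h1)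
      · exact h2' (h23 z (Finset.mem_filter.1 h).2.1 h1)
    have := Finset.card_le_card hsub
    rw [Finset.card_union_of_disjoint d3, Finset.card_union_of_disjoint d2,
      Finset.card_union_of_disjoint d1, hF72] at this
    omega

end Cfsg.Agent.Pyramid

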