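import Cfsg.Agent.Pyramid.Core
import Cfsg.Agent.Pyramid.EightAbelian
import Cfsg.Agent.Pyramid.EightSuzuki

/-!
# No group is doubly transitive on eight elements of square one
-/

set_option autoImplicit false
set_option linter.unusedSectionVars false

universe u

namespace Cfsg.Agent.Pyramid

theorem ConjTrans₂.toConjTrans {H : Type u} [Group H] [Finite H] {E : Subgroup H}
    (h2 : ConjTrans₂ E) (h4 : 3 < Nat.card E) : ConjTrans E := by
  classical
  intro a ha b hb ha1 hb1
  rcases eq_or_ne a b with rfl | hab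
  · exact ⟨1, by group⟩
  obtain ⟨g, hg, -⟩ := h2 a ha b hb b hb a ha ha1 hb1 hb1 ha1 hab hab.symm
  exact ⟨g, hg⟩

/-- An element interchanging two points has even order. -/
theorem exists_even_swap {H : Type u} [Group H] [Finite H] {E : Subgroup H} (hE : IsInvSub E)
    (h2 : ConjTrans₂ E) (h4 : 3 < Nat.card E) {K : Subgroup H}
    (hsup : ∀ g : H, ∃ k ∈ K, ∀ e ∈ E, k * e * k⁻¹ = g * e * g⁻¹) :
    ∃ y ∈ K, y ≠ 1 ∧ y ∈ E := by
  classical
  obtain ⟨a, ha, b, hb, ha1, hb1, hab⟩ : ∃ a ∈ E, ∃ b ∈ E, a ≠ 1 ∧ b ≠ 1 ∧ a ≠ b := by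
    by_contra hno
    push Not at hno
    haveI : Fintype E := Fintype.ofFinite E
    have hle : Nat.card E ≤ 2 := by
      by_cases hex : ∃ a : E, a ≠ 1
      · obtain ⟨a, ha⟩ := hex
        rw [Nat.card_eq_fintype_card, Fintype.card]
        refine (Finset.card_le_card (t := {1, a}) fun e _ => ?_).trans Finset.card_le_two
        by_cases he : e = 1
        · simp [he]
        · have := hno a.1 a.2 e.1 e.2 (fun h => ha (Subtype.ext h)) (fun h => he (Subtype.ext h))
          rw [Finset.mem_insert, Finset.mem_singleton]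
          exact Or.inr (Subtype.ext this.symm)
      · push Not at hex
        haveI : Subsingleton E := ⟨fun x y => (hex x).trans (hex y).symm⟩
        rw [Nat.card_of_subsingleton (1 : E)]
        omega
    omega
  obtain ⟨g, hga, hgb⟩ := h2 a ha b hb b hb a ha ha1 hb1 hb1 ha1 hab hab.symm
  obtain ⟨k, hk, hke⟩ := hsup g
  have hka : k * a * k⁻¹ = b := (hke a ha).trans hga
  have hkb : k * b * k⁻¹ = a := (hke b hb).trans hgb
  have hev : 2 ∣ orderOf k := by
    by_contra hodd
    obtain ⟨m, hm⟩ : ∃ m, orderOf k = 2 * m + 1 := ⟨orderOf k / 2, by omega⟩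
    have hcm : Commute (k * k) a := by
      show k * k * a = a * (k * k)
      calc k * k * a = k * (k * a * k⁻¹) * k⁻¹ * (k * k) := by group
        _ = a * (k * k) := by rw [hka, hkb]
    have hk' : k = (k * k) ^ (m + 1) := by
      rw [← pow_two, ← pow_mul, show 2 * (m + 1) = orderOf k + 1 by omega, pow_succ,
        pow_orderOf_eq_one, one_mul]
    have : Commute k a := by rw [hk']; exact hcm.pow_left _
    apply hab
    calc a = k * a * k⁻¹ := by rw [this.eq, mul_inv_cancel_right]
      _ = b := hka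
  refine ⟨k ^ (orderOf k / 2), K.pow_mem hk _, ?_, (hE _).2 ?_⟩
  · exact pow_ne_one_of_lt_orderOf (by have := orderOf_pos k; omega) (by have := orderOf_pos k; omega)
  · rw [← pow_add, show orderOf k / 2 + orderOf k / 2 = orderOf k by omega, pow_orderOf_eq_one]

/-- No finite group acts doubly transitively on the nontrivial elements of an elementary abelian
subgroup of order eight consisting of all its elements of square one. -/
theorem eight_false (H : Type u) [Group H] [Finite H] (E : Subgroup H) (hE : IsInvSub E)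
    (h2 : ConjTrans₂ E) (h8 : Nat.card E = 8) : False := by
  suffices ∀ n : ℕ, ∀ (H : Type u) [Group H] [Finite H], Nat.card H = n → ∀ E : Subgroup H,
      IsInvSub E → ConjTrans₂ E → Nat.card E = 8 → False from this _ H rfl E hE h2 h8
  intro n
  induction n using Nat.strong_induction_on with
  | _ n ih =>
  intro H _ _ hn E hE h2 h8
  classical
  haveI := hE.normal
  haveI : Fact (Nat.Prime 2) := ⟨Nat.prime_two⟩
  -- no normal subgroup of odd order
  have hcore : CoreFree₂ H := by
    intro N hN hodd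
    by_contra hne
    have hEN : ∀ e ∈ E, e ∈ N → e = 1 := by
      intro e he heN
      have h1 : orderOf e ∣ 2 := orderOf_dvd_of_pow_eq_one (by rw [pow_two]; exact hE.sq he)
      rcases (Nat.dvd_prime Nat.prime_two).1 h1 with h | h
      · exact orderOf_eq_one_iff.1 h
      · exfalso
        have h3 : 2 ∣ Nat.card N := by
          rw [← h]
          exact Subgroup.orderOf_dvd_natCard N heN
        rw [Nat.odd_iff] at hodd
        omega
    let π := QuotientGroup.mk' N
    have hπs : Function.Surjective π := QuotientGroup.mk'_surjective N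
    refine ih (Nat.card (H ⧸ N)) ?_ (H ⧸ N) rfl (E.map π) ?_ ?_ ?_
    · rw [← hn, Subgroup.card_eq_card_quotient_mul_card_subgroup N]
      have h1 : 1 < Nat.card N := by
        rcases eq_or_lt_of_le (Nat.one_le_iff_ne_zero.2 (Nat.card_pos (α := N)).ne') with h | h
        · exact absurd (Subgroup.eq_bot_of_card_eq N h.symm) hne
        · exact h
      exact lt_mul_of_one_lt_right Nat.card_pos h1
    · intro y
      constructor
      · rintro ⟨x, hx, rfl⟩
        rw [← map_mul, hE.sq hx, map_one]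
      · intro hy
        obtain ⟨x, rfl⟩ := hπs y
        obtain ⟨m, hm⟩ := hodd
        have hxN : x * x ∈ N := by
          rw [← QuotientGroup.eq_one_iff (N := N)]
          exact hy
        refine ⟨x ^ Nat.card N, (hE _).2 ?_, ?_⟩
        · rw [← pow_add, ← two_mul, pow_mul, pow_two]
          exact orderOf_dvd_iff_pow_eq_one.1 (Subgroup.orderOf_dvd_natCard N hxN)
        · rw [map_pow, hm, pow_succ, pow_mul, pow_two, hy, one_pow, one_mul]
    · rintro _ ⟨a, ha, rfl⟩ _ ⟨b, hb, rfl⟩ _ ⟨c, hc, rfl⟩ _ ⟨d, hd, rfl⟩ ha1 hb1 hc1 hd1 hab hcd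
      obtain ⟨g, h1, h2'⟩ := h2 a ha b hb c hc d hd (fun h => ha1 (by rw [h, map_one]))
        (fun h => hb1 (by rw [h, map_one])) (fun h => hc1 (by rw [h, map_one]))
        (fun h => hd1 (by rw [h, map_one])) (fun h => hab (by rw [h])) (fun h => hcd (by rw [h]))
      exact ⟨π g, by rw [← h1]; simp, by rw [← h2']; simp⟩
    · rw [← h8]
      refine Nat.card_eq_of_bijective (fun y => ?_) ?_ |>.symm
      · exact ⟨π y.1, Subgroup.mem_map_of_mem π y.2⟩
      · constructor
        · intro y z hyz
          have hyz' : π y.1 = π z.1 := congrArg Subtype.val hyz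
          have h1 := hEN _ (E.mul_mem (E.inv_mem y.2) z.2) (QuotientGroup.eq.1 hyz')
          exact Subtype.ext (inv_mul_eq_one.1 h1)
        · rintro ⟨_, x, hx, rfl⟩
          exact ⟨⟨x, hx⟩, rfl⟩
  set C := Subgroup.centralizer (E : Set H) with hC
  haveI : C.Normal := by rw [hC]; infer_instance
  have h4 : 3 < Nat.card E := by omega
  -- the centraliser has no proper supplement
  have hsupp : ∀ K : Subgroup H, K ⊔ C = ⊤ → K = ⊤ := by
    intro K hK
    by_contra hne
    have hact : ∀ g : H, ∃ k ∈ K, ∀ e ∈ E, k * e * k⁻¹ = g * e * g⁻¹ := by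
      intro g
      obtain ⟨k, hk, c, hc, rfl⟩ := Subgroup.mem_sup_of_normal_right.1 (hK ▸ Subgroup.mem_top g)
      refine ⟨k, hk, fun e he => ?_⟩
      have := Subgroup.mem_centralizer_iff.1 hc e he
      calc k * e * k⁻¹ = k * (e * c) * c⁻¹ * k⁻¹ := by group
        _ = k * c * e * (k * c)⁻¹ := by rw [this]; group
    obtain ⟨y, hyK, hy1, hyE⟩ := exists_even_swap hE h2 h4 hact
    have hEK : E ≤ K := by
      intro e he
      rcases eq_or_ne e 1 with rfl | he1
      · exact K.one_mem
      obtain ⟨g, hg⟩ := h2.toConjTrans h4 y hyE e he hy1 he1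
      obtain ⟨k, hk, hke⟩ := hact g
      rw [← hg, ← hke y hyE]
      exact K.mul_mem (K.mul_mem hk hyK) (K.inv_mem hk)
    refine ih (Nat.card K) ?_ K rfl (E.subgroupOf K) ?_ ?_ ?_
    · rw [← hn]
      exact lt_of_le_of_ne (Subgroup.card_le_card_group K)
        fun h => hne (Subgroup.eq_top_of_card_eq K h)
    · intro x
      rw [Subgroup.mem_subgroupOf, hE]
      exact ⟨fun h => Subtype.ext h, fun h => congrArg Subtype.val h⟩
    · intro a ha b hb c hc d hd ha1 hb1 hc1 hd1 hab hcd
      obtain ⟨g, h1, h2'⟩ := h2 a ha b hb c hc d hd (fun h => ha1 (Subtype.ext h))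
        (fun h => hb1 (Subtype.ext h)) (fun h => hc1 (Subtype.ext h)) (fun h => hd1 (Subtype.ext h))
        (fun h => hab (Subtype.ext h)) (fun h => hcd (Subtype.ext h))
      obtain ⟨k, hk, hke⟩ := hact g
      exact ⟨⟨k, hk⟩, Subtype.ext ((hke _ ha).trans h1), Subtype.ext ((hke _ hb).trans h2')⟩
    · rw [Nat.card_congr (Subgroup.subgroupOfEquivOfLe hEK).toEquiv, h8]
  -- so it is a 2-group
  have hC2 : IsPGroup 2 C := by
    rw [IsPGroup.iff_card]
    refine Nat.eq_prime_pow_of_unique_prime_dvd (Nat.card_pos.ne') ?_ |> fun h => ⟨_, h⟩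
    intro r hr hrd
    by_contra hr2
    haveI : Fact r.Prime := ⟨hr⟩
    obtain ⟨P⟩ := (inferInstance : Nonempty (Sylow r C))
    let P₀ : Subgroup H := (P : Subgroup C).map C.subtype
    have hN : P₀.Normal :=
      Subgroup.normalizer_eq_top_iff.1 (hsupp _ (Sylow.normalizer_sup_eq_top P))
    have hPc : Nat.card P₀ = Nat.card (P : Subgroup C) :=
      Subgroup.card_map_of_injective C.subtype_injective
    obtain ⟨a, ha⟩ := P.isPGroup'.exists_card_eq
    have hb := hcore P₀ hN (by rw [hPc, ha]; exact (hr.odd_of_ne_two hr2).pow)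
    have h1 := P.dvd_card_of_dvd_card hrd
    rw [← hPc, hb, Subgroup.card_bot] at h1
    exact hr.one_lt.ne' (Nat.dvd_one.1 h1)
  have htr : ∀ a ∈ E, ∀ b ∈ E, a ≠ 1 → b ≠ 1 →
      ∃ g ∈ Subgroup.normalizer (C : Set H), g * a * g⁻¹ = b := by
    intro a ha b hb ha1 hb1
    obtain ⟨g, hg⟩ := h2.toConjTrans h4 a ha b hb ha1 hb1
    exact ⟨g, by rw [Subgroup.normalizer_eq_top]; trivial, hg⟩
  rcases two_subgroup_dichotomy hE (by norm_num : Nat.Prime 7) (by norm_num) h8 hC2 le_rfl
    (fun x hx => hE.mem_centralizer hx) htr with hab | ⟨hd, -, hord⟩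
  · exact eight_abelian E hE h2 h8 hC2
      (fun x hx y hy => congrArg Subtype.val (hab ⟨x, hx⟩ ⟨y, hy⟩))
  · by_cases hab : ∀ x ∈ C, ∀ y ∈ C, x * y = y * x
    · exact eight_abelian E hE h2 h8 hC2 hab
    · push Not at hab
      exact eight_suzuki E hE h2 h8 (fun x hx => Subgroup.mem_subgroupOf.1 (hd.sq ⟨x, hx⟩)) hab hord

end Cfsg.Agent.Pyramid
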