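import Mathlib
import Cfsg.Agent.Pyramid.Basic
import Cfsg.Agent.S0205
import Cfsg.Agent.S0144
import Cfsg.Agent.FourAct.Basic

/-!
# One involution modulo an odd normal subgroup

If all involutions of `G` are congruent to `t` modulo the odd normal subgroup `R`, their number is
`p ^ k` and `G` is not solvable, then `k` is even (the involution is a commutator in its
centraliser, so it acts with determinant one on every elementary section of `R`) and `p ^ k ≠ 9`
(the centraliser acts faithfully modulo a solvable group on the other eight involutions,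
commuting with a fixed-point-free involution).
-/

set_option autoImplicit false
set_option linter.style.haveILetI false

namespace Cfsg.Agent.Pyramid

open scoped commutatorElement

universe u

variable {G : Type u} [Group G]

/-- The elements `r` of `R` such that `t * r` squares to one. -/
abbrev InvIn (R : Subgroup G) (t : G) : Type u := {r : G // r ∈ R ∧ t * r * (t * r) = 1}

theorem eq_one_of_odd_of_sq [Finite G] {R : Subgroup G} (hR : Odd (Nat.card R)) {x : G}
    (hx : x ∈ R) (h : x * x = 1) : x = 1 := by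
  have h1 : orderOf x ∣ Nat.card R := Subgroup.orderOf_dvd_natCard R hx
  have h2 : orderOf x ∣ 2 := orderOf_dvd_of_pow_eq_one (by rw [pow_two]; exact h)
  rw [← orderOf_eq_one_iff]
  exact Nat.eq_one_of_dvd_coprimes (Nat.coprime_two_right.2 hR) h1 h2

/-- An involution in the coset `t * R` is conjugate to `t` by an element of `R`. -/
theorem exists_conj_eq [Finite G] {R : Subgroup G} (hR : Odd (Nat.card R)) {t r : G}
    (ht : t * t = 1) (hr : r ∈ R) (h : t * r * (t * r) = 1) :
    ∃ v ∈ R, v * t * v⁻¹ = t * r := by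
  have hinv : t * r * t⁻¹ = r⁻¹ := by
    rw [inv_eq_of_mul_eq_one_right ht]
    exact eq_inv_of_mul_eq_one_left (by rw [mul_assoc]; exact h)
  obtain ⟨a, ha⟩ : Odd (orderOf r) := hR.of_dvd_nat (Subgroup.orderOf_dvd_natCard R hr)
  refine ⟨(r ^ (a + 1))⁻¹, R.inv_mem (R.pow_mem hr _), ?_⟩
  have h1 : t * r ^ (a + 1) * t⁻¹ = (r ^ (a + 1))⁻¹ := by
    rw [← conj_pow, hinv, inv_pow]
  have h2 : r ^ (a + 1) * r ^ (a + 1) = r := by
    rw [← pow_add, show a + 1 + (a + 1) = orderOf r + 1 by omega, pow_succ, pow_orderOf_eq_one,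
      one_mul]
  calc (r ^ (a + 1))⁻¹ * t * ((r ^ (a + 1))⁻¹)⁻¹
      = t * r ^ (a + 1) * t⁻¹ * t * r ^ (a + 1) := by rw [h1, inv_inv]
    _ = t * (r ^ (a + 1) * r ^ (a + 1)) := by group
    _ = t * r := by rw [h2]

/-- The involutions over `R` fibre over those over `R / N`. -/
theorem card_invIn_mul [Finite G] (N R : Subgroup G) [N.Normal] (hNR : N ≤ R)
    (hR : Odd (Nat.card R)) {t : G} (ht : t * t = 1) :
    Nat.card (InvIn R t) =
      Nat.card (InvIn (R.map (QuotientGroup.mk' N)) (t : G ⧸ N)) * Nat.card (InvIn N t) := by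
  classical
  have hN : Odd (Nat.card N) := hR.of_dvd_nat (Subgroup.card_dvd_of_le hNR)
  -- lift
  have hlift : ∀ b : InvIn (R.map (QuotientGroup.mk' N)) (t : G ⧸ N),
      ∃ r : InvIn R t, ((r.1 : G) : G ⧸ N) = b.1 := by
    rintro ⟨b, hb, hb2⟩
    obtain ⟨r, hr, rfl⟩ := Subgroup.mem_map.1 hb
    simp only [QuotientGroup.mk'_apply] at hb2 ⊢
    rw [← QuotientGroup.mk_mul, ← QuotientGroup.mk_mul, QuotientGroup.eq_one_iff] at hb2
    obtain ⟨a, ha⟩ := hN
    set c := t * r * (t * r) with hc
    have hc1 : c ^ (2 * a + 1) = 1 := by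
      have := congrArg Subtype.val (pow_card_eq_one' (G := N) (x := ⟨c, hb2⟩))
      rw [ha] at this
      simpa using this
    have hcomm : Commute (t * r) c := (Commute.refl (t * r)).mul_right (Commute.refl (t * r))
    refine ⟨⟨r * c ^ a, R.mul_mem hr (R.pow_mem (hNR hb2) _), ?_⟩, ?_⟩
    · calc t * (r * c ^ a) * (t * (r * c ^ a)) = t * r * (c ^ a * (t * r)) * c ^ a := by group
        _ = t * r * ((t * r) * c ^ a) * c ^ a := by rw [(hcomm.pow_right a).eq]
        _ = c * (c ^ a * c ^ a) := by rw [hc]; group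
        _ = 1 := by
          rw [← pow_add, ← pow_succ', ← hc1]
          congr 1
          omega
    · exact QuotientGroup.eq.2 (by
        rw [mul_inv_rev, mul_assoc, inv_mul_cancel, mul_one]
        exact N.inv_mem (N.pow_mem hb2 a))
  choose s hs using hlift
  have hv : ∀ r : InvIn R t, ∃ v ∈ R, v * t * v⁻¹ = t * r.1 := fun r =>
    exists_conj_eq hR ht r.2.1 r.2.2
  choose v hvR hv using hv
  let F : InvIn (R.map (QuotientGroup.mk' N)) (t : G ⧸ N) × InvIn N t → InvIn R t := fun z =>
    ⟨(s z.1).1 * (v (s z.1) * z.2.1 * (v (s z.1))⁻¹),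
      R.mul_mem (s z.1).2.1 (R.mul_mem (R.mul_mem (hvR _) (hNR z.2.2.1)) (R.inv_mem (hvR _))), by
      rw [← mul_assoc t, ← hv,
        show v (s z.1) * t * (v (s z.1))⁻¹ * (v (s z.1) * z.2.1 * (v (s z.1))⁻¹) *
            (v (s z.1) * t * (v (s z.1))⁻¹ * (v (s z.1) * z.2.1 * (v (s z.1))⁻¹)) =
          v (s z.1) * (t * z.2.1 * (t * z.2.1)) * (v (s z.1))⁻¹ by group,
        z.2.2.2]
      group⟩
  have hmk : ∀ z, (((F z).1 : G) : G ⧸ N) = z.1.1 := fun z => by
    have hn : v (s z.1) * z.2.1 * (v (s z.1))⁻¹ ∈ N := Subgroup.Normal.conj_mem inferInstance _ z.2.2.1 _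
    calc (((F z).1 : G) : G ⧸ N) = ((s z.1).1 : G ⧸ N) :=
          (QuotientGroup.eq.2 (by
            rw [show ((s z.1).1)⁻¹ * (F z).1 = v (s z.1) * z.2.1 * (v (s z.1))⁻¹ from
              inv_mul_cancel_left _ _]
            exact hn)).symm
      _ = z.1.1 := hs z.1
  have hbij : Function.Bijective F := by
    constructor
    · intro z w h
      have h1 : z.1 = w.1 := Subtype.ext ((hmk z).symm.trans (by rw [h]; exact hmk w))
      refine Prod.ext h1 (Subtype.ext ?_)
      have h2 : (F z).1 = (F w).1 := congrArg Subtype.val h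
      simp only [F, h1] at h2
      exact mul_left_cancel (mul_right_cancel (mul_left_cancel h2))
    · intro r
      let b : InvIn (R.map (QuotientGroup.mk' N)) (t : G ⧸ N) :=
        ⟨((r.1 : G) : G ⧸ N), Subgroup.mem_map_of_mem _ r.2.1, by
          rw [← QuotientGroup.mk_mul, ← QuotientGroup.mk_mul, r.2.2, QuotientGroup.mk_one]⟩
      set w := v (s b) with hw
      have hn : w⁻¹ * ((s b).1⁻¹ * r.1) * w ∈ N := by
        have : (s b).1⁻¹ * r.1 ∈ N := QuotientGroup.eq.1 (hs b)
        have h := Subgroup.Normal.conj_mem inferInstance _ this w⁻¹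
        rwa [inv_inv] at h
      refine ⟨(b, ⟨w⁻¹ * ((s b).1⁻¹ * r.1) * w, hn, ?_⟩), Subtype.ext ?_⟩
      · have e : t * (w⁻¹ * ((s b).1⁻¹ * r.1) * w) = w⁻¹ * (t * r.1) * w := by
          calc t * (w⁻¹ * ((s b).1⁻¹ * r.1) * w)
              = w⁻¹ * (w * t * w⁻¹) * ((s b).1⁻¹ * r.1) * w := by group
            _ = w⁻¹ * (t * r.1) * w := by rw [hw, hv]; group
        rw [e, show w⁻¹ * (t * r.1) * w * (w⁻¹ * (t * r.1) * w) =
          w⁻¹ * (t * r.1 * (t * r.1)) * w by group, r.2.2]
        group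
      · change (s b).1 * (w * (w⁻¹ * ((s b).1⁻¹ * r.1) * w) * w⁻¹) = r.1
        group
  rw [← Nat.card_prod, Nat.card_eq_of_bijective F hbij]

/-- An element of the commutator subgroup acting as `-1` forces even dimension. -/
theorem exists_even_finrank (q : ℕ) [Fact q.Prime] (hq2 : q ≠ 2) (V : Type*) [AddCommGroup V]
    [Module (ZMod q) V] [Finite V] {C : Type*} [Group C] (ρ : C → V →+ V)
    (h1 : ∀ x, ρ 1 x = x) (hmul : ∀ c d x, ρ (c * d) x = ρ c (ρ d x)) (t : C)
    (htc : t ∈ commutator C) (hneg : ∀ x : V, ρ t x = -x) :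
    ∃ d, Even d ∧ Nat.card V = q ^ d := by
  let act : C →* Module.End (ZMod q) V :=
    { toFun := fun c => AddMonoidHom.toZModLinearMap q (ρ c)
      map_one' := LinearMap.ext fun x => h1 x
      map_mul' := fun c d => LinearMap.ext fun x => hmul c d x }
  have hdet : LinearMap.det (act t) = 1 := by
    have := Abelianization.commutator_subset_ker
      (f := ((LinearMap.det : _ →* ZMod q).comp act).toHomUnits) htc
    simpa using congrArg Units.val this
  have hmap : act t = (-1 : ZMod q) • (1 : Module.End (ZMod q) V) := by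
    refine LinearMap.ext fun x => ?_
    rw [LinearMap.smul_apply, neg_one_smul, Module.End.one_apply]
    exact hneg x
  rw [hmap, LinearMap.det_smul, map_one, mul_one] at hdet
  refine ⟨Module.finrank (ZMod q) V, ?_, ?_⟩
  · rw [← Nat.not_odd_iff_even]
    intro hodd
    rw [hodd.neg_one_pow] at hdet
    haveI : Fact (2 < q) := ⟨lt_of_le_of_ne (Fact.out : q.Prime).two_le (Ne.symm hq2)⟩
    exact ZMod.neg_one_ne_one hdet
  · rw [Module.natCard_eq_pow_finrank (K := ZMod q), Nat.card_zmod]

theorem exists_even_rank (q : ℕ) [Fact q.Prime] (hq2 : q ≠ 2) (M : Type*) [CommGroup M] [Finite M]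
    (hexp : ∀ x : M, x ^ q = 1) {C : Type*} [Group C] (ρ : C →* MulAut M) (t : C)
    (htc : t ∈ commutator C) (hneg : ∀ x : M, ρ t x = x⁻¹) :
    ∃ d, Even d ∧ Nat.card M = q ^ d := by
  have h0 : ∀ x : Additive M, q • x = 0 := fun x => by
    apply Additive.toMul.injective
    rw [toMul_nsmul, toMul_zero]
    exact hexp x.toMul
  obtain ⟨d, hd, hcard⟩ := @exists_even_finrank q _ hq2 (Additive M) _
    (AddCommGroup.zmodModule h0) _ C _ (fun c => MonoidHom.toAdditive (ρ c).toMonoidHom)
    (fun x => congrArg Additive.ofMul (show ρ 1 x.toMul = x.toMul by rw [map_one, MulAut.one_apply]))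
    (fun c d x => congrArg Additive.ofMul
      (show ρ (c * d) x.toMul = ρ c (ρ d x.toMul) by rw [map_mul, MulAut.mul_apply])) t htc
    (fun x => congrArg Additive.ofMul (hneg x.toMul))
  exact ⟨d, hd, by rw [← hcard]; exact Nat.card_congr Additive.ofMul⟩

/-- On an elementary abelian normal subgroup of odd exponent an involution which is a commutator in
its centraliser inverts a subgroup of even rank. -/
theorem card_invIn_eq_pow_even [Finite G] (q : ℕ) [Fact q.Prime] (hq2 : q ≠ 2) (N : Subgroup G)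
    [hN : N.Normal] (hcomm : ∀ a ∈ N, ∀ b ∈ N, a * b = b * a) (hexp : ∀ a ∈ N, a ^ q = 1) {t : G}
    (ht : t * t = 1)
    (htc : t ∈ ⁅Subgroup.centralizer ({t} : Set G), Subgroup.centralizer ({t} : Set G)⁆) :
    ∃ j, Even j ∧ Nat.card (InvIn N t) = q ^ j := by
  classical
  set C := Subgroup.centralizer ({t} : Set G) with hCdef
  have htinv : t⁻¹ = t := inv_eq_of_mul_eq_one_right ht
  let M : Subgroup G :=
    { carrier := {a | a ∈ N ∧ t * a * t⁻¹ = a⁻¹}
      one_mem' := ⟨N.one_mem, by simp⟩
      mul_mem' := by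
        rintro a b ⟨ha, ha'⟩ ⟨hb, hb'⟩
        exact ⟨N.mul_mem ha hb, by
          rw [← conj_mul, ha', hb', mul_inv_rev, hcomm _ (N.inv_mem ha) _ (N.inv_mem hb)]⟩
      inv_mem' := by
        rintro a ⟨ha, ha'⟩
        exact ⟨N.inv_mem ha, by rw [← conj_inv, ha']⟩ }
  have hMC : ∀ c ∈ C, ∀ a ∈ M, c * a * c⁻¹ ∈ M := by
    intro c hc a ha
    have hct : c * t = t * c := (Subgroup.mem_centralizer_singleton_iff.1 hc)
    refine ⟨hN.conj_mem a ha.1 c, ?_⟩
    calc t * (c * a * c⁻¹) * t⁻¹ = (t * c) * a * (t * c)⁻¹ := by group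
      _ = (c * t) * a * (c * t)⁻¹ := by rw [hct]
      _ = c * (t * a * t⁻¹) * c⁻¹ := by group
      _ = (c * a * c⁻¹)⁻¹ := by rw [ha.2]; group
  letI : CommGroup M :=
    { (inferInstance : Group M) with mul_comm := fun a b => Subtype.ext (hcomm _ a.2.1 _ b.2.1) }
  let ρ : C →* MulAut M :=
    { toFun := fun c =>
        { toFun := fun x => ⟨(c : G) * x * (c : G)⁻¹, hMC c c.2 _ x.2⟩
          invFun := fun x => ⟨(c : G)⁻¹ * x * ((c : G)⁻¹)⁻¹, hMC _ (C.inv_mem c.2) _ x.2⟩
          left_inv := fun x => Subtype.ext (by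
            change (c : G)⁻¹ * ((c : G) * (x : G) * (c : G)⁻¹) * ((c : G)⁻¹)⁻¹ = (x : G); group)
          right_inv := fun x => Subtype.ext (by
            change (c : G) * ((c : G)⁻¹ * (x : G) * ((c : G)⁻¹)⁻¹) * (c : G)⁻¹ = (x : G); group)
          map_mul' := fun x y => Subtype.ext (by
            change (c : G) * ((x : G) * (y : G)) * (c : G)⁻¹ =
              ((c : G) * (x : G) * (c : G)⁻¹) * ((c : G) * (y : G) * (c : G)⁻¹)
            group) }
      map_one' := MulEquiv.ext fun x => Subtype.ext (by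
        change ((1 : C) : G) * (x : G) * ((1 : C) : G)⁻¹ = (x : G); simp)
      map_mul' := fun c d => MulEquiv.ext fun x => Subtype.ext (by
        change ((c : G) * (d : G)) * (x : G) * ((c : G) * (d : G))⁻¹ =
          (c : G) * ((d : G) * (x : G) * (d : G)⁻¹) * (c : G)⁻¹
        group) }
  obtain ⟨t', ht', ht't⟩ : ∃ t' ∈ commutator C, (t' : G) = t := by
    rw [← Subgroup.map_subtype_commutator] at htc
    exact Subgroup.mem_map.1 htc
  obtain ⟨d, heven, hd⟩ := exists_even_rank q hq2 M (fun x => Subtype.ext (hexp _ x.2.1)) ρ t' ht'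
    (fun x => Subtype.ext (by
      change (t' : G) * (x : G) * (t' : G)⁻¹ = (x : G)⁻¹
      rw [ht't]
      exact x.2.2))
  refine ⟨d, heven, ?_⟩
  have e : InvIn N t ≃ M :=
    { toFun := fun r => ⟨r.1, r.2.1, by
        rw [htinv]; exact eq_inv_of_mul_eq_one_left (by rw [mul_assoc]; exact r.2.2)⟩
      invFun := fun x => ⟨x.1, x.2.1, by
        have h := x.2.2
        rw [htinv] at h
        rw [← mul_assoc, h]; group⟩
      left_inv := fun r => rfl
      right_inv := fun x => rfl }
  rw [Nat.card_congr e, hd]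

theorem even_exponent_aux : ∀ (n : ℕ) (G : Type u) [Group G] [Finite G], Nat.card G = n →
    ∀ (R : Subgroup G) [R.Normal], Odd (Nat.card R) → ∀ t : G, t * t = 1 →
      t ∈ ⁅Subgroup.centralizer ({t} : Set G), Subgroup.centralizer ({t} : Set G)⁆ →
      ∀ p k : ℕ, p.Prime → p ≠ 2 → Nat.card (InvIn R t) = p ^ k → Even k := by
  intro n
  induction n using Nat.strong_induction_on with
  | _ n ih =>
  intro G _ _ hn R _ hR t ht htc p k hp hp2 hcard
  classical
  by_cases hR1 : R = ⊥
  · subst hR1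
    haveI : Subsingleton (InvIn (⊥ : Subgroup G) t) :=
      ⟨fun a b => Subtype.ext ((Subgroup.mem_bot.1 a.2.1).trans (Subgroup.mem_bot.1 b.2.1).symm)⟩
    have h1 : Nat.card (InvIn (⊥ : Subgroup G) t) = 1 :=
      Nat.card_eq_one_iff_unique.2 ⟨inferInstance,
        ⟨⟨1, Subgroup.one_mem _, by rw [mul_one, ht]⟩⟩⟩
    rw [h1] at hcard
    have hk : k = 0 := by
      rcases Nat.pow_eq_one.1 hcard.symm with h | h
      · exact absurd h hp.ne_one
      · exact h
    rw [hk]
    exact Even.zero
  haveI hsol : Group.IsSolvable R := Cfsg.Agent.S0205.result hR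
  have hex : ∃ m, derivedSeries R m = ⊥ := (Group.isSolvable_def R).1 hsol
  set m := Nat.find hex
  have hm : m ≠ 0 := by
    intro h
    have h2 := Nat.find_spec hex
    rw [show Nat.find hex = 0 from h, derivedSeries_zero] at h2
    exact hR1 (by rw [← R.range_subtype, MonoidHom.range_eq_map, h2, Subgroup.map_bot])
  set D₀ := derivedSeries R (m - 1) with hD₀
  have hD1 : D₀ ≠ ⊥ := Nat.find_min hex (by omega)
  have hDc : ⁅D₀, D₀⁆ = ⊥ := by
    rw [hD₀, ← derivedSeries_succ, show m - 1 + 1 = m by omega]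
    exact Nat.find_spec hex
  haveI : D₀.Characteristic := derivedSeries_characteristic R (m - 1)
  set D := D₀.map R.subtype with hD
  haveI hDn : D.Normal := by rw [hD]; infer_instance
  have hDcomm : ∀ a ∈ D, ∀ b ∈ D, a * b = b * a := by
    rintro a ⟨a', ha', rfl⟩ b ⟨b', hb', rfl⟩
    have h1 : ⁅a', b'⁆ = 1 := by
      have h := Subgroup.commutator_mem_commutator ha' hb'
      rwa [hDc, Subgroup.mem_bot] at h
    rw [commutatorElement_eq_one_iff_mul_comm] at h1
    exact congrArg Subtype.val h1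
  have hDne : Nat.card D ≠ 1 := by
    rw [Subgroup.card_map_of_injective R.subtype_injective]
    exact fun h => hD1 (Subgroup.card_eq_one.1 h)
  obtain ⟨q, hq, hqD⟩ := Nat.exists_prime_and_dvd hDne
  haveI := Fact.mk hq
  have hDR : D ≤ R := Subgroup.map_subtype_le _
  have hq2 : q ≠ 2 := fun h => by
    have := hR.of_dvd_nat (hqD.trans (Subgroup.card_dvd_of_le hDR))
    rw [h] at this
    exact absurd this (by decide)
  let N : Subgroup G :=
    { carrier := {a | a ∈ D ∧ a ^ q = 1}
      one_mem' := ⟨D.one_mem, one_pow q⟩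
      mul_mem' := by
        rintro a b ⟨ha, ha'⟩ ⟨hb, hb'⟩
        exact ⟨D.mul_mem ha hb, by rw [Commute.mul_pow (hDcomm a ha b hb), ha', hb', one_mul]⟩
      inv_mem' := by
        rintro a ⟨ha, ha'⟩
        exact ⟨D.inv_mem ha, by rw [inv_pow, ha', inv_one]⟩ }
  haveI hNn : N.Normal := ⟨fun a ha g => ⟨hDn.conj_mem a ha.1 g, by
    rw [conj_pow, ha.2]; group⟩⟩
  have hN1 : 1 < Nat.card N := by
    obtain ⟨x, hx⟩ := exists_prime_orderOf_dvd_card' (G := D) q hqD
    have hxq : (x : G) ^ q = 1 := by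
      rw [← Subgroup.coe_pow, ← hx, pow_orderOf_eq_one, Subgroup.coe_one]
    rw [Subgroup.one_lt_card_iff_ne_bot]
    intro h
    have : (x : G) ∈ (⊥ : Subgroup G) := h ▸ (show (x : G) ∈ N from ⟨x.2, hxq⟩)
    rw [Subgroup.mem_bot] at this
    rw [show x = 1 from Subtype.ext this, orderOf_one] at hx
    exact hq.ne_one hx.symm
  have hNR : N ≤ R := fun a ha => hDR ha.1
  obtain ⟨j, hj, hjcard⟩ := card_invIn_eq_pow_even q hq2 N
    (fun a ha b hb => hDcomm a ha.1 b hb.1) (fun a ha => ha.2) ht htc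
  rw [card_invIn_mul N R hNR hR ht, hjcard] at hcard
  obtain ⟨k', -, hk'⟩ := (Nat.dvd_prime_pow hp).1 ⟨_, hcard.symm⟩
  haveI : (R.map (QuotientGroup.mk' N)).Normal :=
    Subgroup.Normal.map inferInstance _ (QuotientGroup.mk'_surjective N)
  have hlt : Nat.card (G ⧸ N) < n := by
    have h := Subgroup.card_eq_card_quotient_mul_card_subgroup N
    rw [hn] at h
    rw [h]
    exact lt_mul_of_one_lt_right Nat.card_pos hN1
  have hevk : Even k' := ih _ hlt (G ⧸ N) rfl _
    (hR.of_dvd_nat (Subgroup.card_map_dvd _ _)) (t : G ⧸ N)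
    (by rw [← QuotientGroup.mk_mul, ht, QuotientGroup.mk_one])
    (by
      have h := Subgroup.mem_map_of_mem (QuotientGroup.mk' N) htc
      rw [Subgroup.map_commutator] at h
      refine Subgroup.commutator_mono ?_ ?_ h <;>
      · rintro _ ⟨c, hc, rfl⟩
        rw [Subgroup.mem_centralizer_singleton_iff]
        simp only [QuotientGroup.mk'_apply, ← QuotientGroup.mk_mul]
        rw [Subgroup.mem_centralizer_singleton_iff.1 hc])
    p k' hp hp2 hk'
  rw [hk'] at hcard
  rcases Nat.eq_zero_or_pos j with rfl | hjpos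
  · rw [pow_zero, mul_one] at hcard
    rwa [← Nat.pow_right_injective hp.two_le hcard]
  · have hqp : q = p := (Nat.prime_dvd_prime_iff_eq hq hp).1
      (hq.dvd_of_dvd_pow ((dvd_pow_self q hjpos.ne').trans ⟨_, by rw [mul_comm]; exact hcard.symm⟩))
    rw [hqp, ← pow_add] at hcard
    rw [← Nat.pow_right_injective hp.two_le hcard]
    exact hevk.add hj

/-- Number of involutions and solvability when there is only one involution modulo `R`. -/
theorem solvable_of_unique_mod {G : Type*} [Group G] [Finite G] (R : Subgroup G) [R.Normal]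
    (hR : Odd (Nat.card R)) (p k : ℕ) (hp : p.Prime) (hp2 : p ≠ 2) (hk : Odd k ∨ p ^ k = 9)
    (hcard : Nat.card {x : G // orderOf x = 2} = p ^ k)
    (hconj : ∀ x y : G, orderOf x = 2 → orderOf y = 2 → ∃ g : G, g * x * g⁻¹ = y)
    (huniq : ∀ x y : G, orderOf x = 2 → orderOf y = 2 → x⁻¹ * y ∈ R) : Group.IsSolvable G := by
  classical
  haveI : Fact (Nat.Prime 2) := ⟨Nat.prime_two⟩
  have hord : ∀ x : G, orderOf x = 2 ↔ x * x = 1 ∧ x ≠ 1 := fun x => by
    rw [orderOf_eq_prime_iff, pow_two]
  obtain ⟨⟨t, ht2⟩⟩ : Nonempty {x : G // orderOf x = 2} := by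
    have : 0 < Nat.card {x : G // orderOf x = 2} := by rw [hcard]; exact pow_pos hp.pos _
    exact (Nat.card_pos_iff.1 this).1
  obtain ⟨ht, ht1⟩ := (hord t).1 ht2
  have htinv : t⁻¹ = t := inv_eq_of_mul_eq_one_right ht
  have htR : t ∉ R := fun h => ht1 (eq_one_of_odd_of_sq hR h ht)
  -- the centraliser covers the quotient
  set C := Subgroup.centralizer ({t} : Set G) with hC
  have hCsurj : Function.Surjective ((QuotientGroup.mk' R).comp C.subtype) := by
    intro x
    obtain ⟨g, rfl⟩ := QuotientGroup.mk'_surjective R x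
    have hgt : orderOf (g * t * g⁻¹) = 2 := by
      rw [← MulAut.conj_apply, MulEquiv.orderOf_eq, ht2]
    obtain ⟨v, hvR, hv⟩ := exists_conj_eq hR (r := t⁻¹ * (g * t * g⁻¹)) ht (huniq _ _ ht2 hgt)
      (by rw [mul_inv_cancel_left]; exact ((hord _).1 hgt).1)
    rw [mul_inv_cancel_left] at hv
    refine ⟨⟨v⁻¹ * g, Subgroup.mem_centralizer_singleton_iff.2 ?_⟩, ?_⟩
    · calc v⁻¹ * g * t = v⁻¹ * (g * t * g⁻¹) * g := by group
        _ = v⁻¹ * (v * t * v⁻¹) * g := by rw [hv]
        _ = t * (v⁻¹ * g) := by group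
    · refine QuotientGroup.eq.2 ?_
      simp only [Subgroup.coe_subtype]
      rw [show (v⁻¹ * g)⁻¹ * g = g⁻¹ * v * (g⁻¹)⁻¹ by group]
      exact Subgroup.Normal.conj_mem inferInstance v hvR g⁻¹
  suffices hCs : Group.IsSolvable C by
    haveI := hCs
    haveI : Group.IsSolvable R := Cfsg.Agent.S0205.result hR
    haveI : Group.IsSolvable (G ⧸ R) := Group.isSolvable_of_surjective hCsurj
    exact Group.isSolvable_of_ker_le_range R.subtype (QuotientGroup.mk' R)
      (by rw [QuotientGroup.ker_mk', Subgroup.range_subtype])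
  have htC : t ∈ C := Subgroup.mem_centralizer_singleton_iff.2 rfl
  -- `t` is the only involution in its centraliser
  have huC : ∀ x ∈ C, x * x = 1 → x ≠ 1 → x = t := by
    intro x hx hx2 hx1
    have hxR := huniq t x ht2 ((hord x).2 ⟨hx2, hx1⟩)
    have hxt := Subgroup.mem_centralizer_singleton_iff.1 hx
    have h := eq_one_of_odd_of_sq hR hxR (by
      rw [htinv, mul_assoc, ← mul_assoc x, hxt]
      calc t * (t * x * x) = t * t * (x * x) := by group
        _ = 1 := by rw [ht, hx2, one_mul])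
    exact (inv_mul_eq_one.1 h).symm
  rcases hk with hodd | h9
  · by_contra hns
    obtain ⟨T⟩ : Nonempty (Sylow 2 C) := inferInstance
    by_cases hab : ∀ a ∈ (T : Subgroup C), ∀ b ∈ (T : Subgroup C), a * b = b * a
    · apply hns
      haveI : IsMulCommutative (T : Subgroup C) :=
        ⟨⟨fun a b => Subtype.ext (hab _ a.2 _ b.2)⟩⟩
      have hcyc : IsCyclic (T : Subgroup C) := by
        refine FourAct.isCyclic_of_unique T.2 fun x y hx hy hx1 hy1 => ?_
        have key : ∀ z : (T : Subgroup C), z * z = 1 → z ≠ 1 → ((z : C) : G) = t :=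
          fun z hz hz1 => huC _ (z : C).2
            (by exact_mod_cast congrArg (fun w : (T : Subgroup C) => ((w : C) : G)) hz)
            (fun h => hz1 (Subtype.ext (Subtype.ext h)))
        exact Subtype.ext (Subtype.ext ((key x hx hx1).trans (key y hy hy1).symm))
      have heven : (Nat.card C).minFac = 2 := by
        rw [Nat.minFac_eq_two_iff, ← ht2, ← Subgroup.orderOf_mk t htC]
        exact orderOf_dvd_natCard _
      set τ := MonoidHom.transferSylow T (hcyc.normalizer_le_centralizer heven)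
      haveI : Group.IsSolvable τ.ker := Cfsg.Agent.S0205.result
        (Nat.not_even_iff_odd.1 (fun h => MonoidHom.not_dvd_card_ker_transferSylow T _ h.two_dvd))
      haveI : Group.IsSolvable (T : Subgroup C) :=
        Group.isSolvable_of_comm fun a b => Subtype.ext (hab _ a.2 _ b.2)
      exact Group.isSolvable_of_ker_le_range τ.ker.subtype τ (by rw [Subgroup.range_subtype])
    · push Not at hab
      obtain ⟨a, ha, b, hb, hne⟩ := hab
      set c := ⁅a, b⁆ with hc
      have hc1 : c ≠ 1 := fun h => hne (commutatorElement_eq_one_iff_mul_comm.1 h)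
      have hcT : c ∈ ⁅(T : Subgroup C), (T : Subgroup C)⁆ :=
        Subgroup.commutator_mem_commutator ha hb
      obtain ⟨m, hm⟩ := IsPGroup.iff_orderOf.1 T.2
        ⟨c, Subgroup.commutator_le_self _ hcT⟩
      rw [Subgroup.orderOf_mk] at hm
      have hm0 : m ≠ 0 := fun h => hc1 (by rwa [h, pow_zero, orderOf_eq_one_iff] at hm)
      have hd : orderOf (c ^ 2 ^ (m - 1)) = 2 := by
        rw [orderOf_pow' c (by positivity), hm, Nat.gcd_eq_right (pow_dvd_pow 2 (by omega)),
          Nat.pow_div (by omega) (by norm_num), show m - (m - 1) = 1 by omega, pow_one]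
      have hdt : ((c ^ 2 ^ (m - 1) : C) : G) = t := by
        obtain ⟨h1, h2⟩ := (hord _).1 ((Subgroup.orderOf_coe (c ^ 2 ^ (m - 1))).trans hd)
        exact huC _ (c ^ 2 ^ (m - 1) : C).2 h1 h2
      have htc : t ∈ ⁅C, C⁆ := by
        rw [← hdt, ← Subgroup.map_subtype_commutator]
        exact Subgroup.mem_map_of_mem _ (Subgroup.pow_mem _
          (Subgroup.commutator_mono le_top le_top hcT) _)
      have e : {x : G // orderOf x = 2} ≃ InvIn R t :=
        { toFun := fun x => ⟨t * x.1, by
            refine ⟨htinv ▸ huniq t x.1 ht2 x.2, ?_⟩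
            rw [← mul_assoc t t, ht, one_mul]
            exact ((hord _).1 x.2).1⟩
          invFun := fun r => ⟨t * r.1, (hord _).2 ⟨r.2.2, fun h => htR (by
            rw [← inv_inv t, inv_eq_of_mul_eq_one_right h]
            exact R.inv_mem r.2.1)⟩⟩
          left_inv := fun x => Subtype.ext (by simp [← mul_assoc, ht])
          right_inv := fun r => Subtype.ext (by simp [← mul_assoc, ht]) }
      exact (Nat.not_even_iff_odd.2 hodd) (even_exponent_aux _ G rfl R hR t ht htc p k hp hp2
        (by rw [← Nat.card_congr e, hcard]))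
  · -- nine involutions: `C` acts on the other eight
    haveI : Fintype G := Fintype.ofFinite G
    let J := {x : {x : G // orderOf x = 2} // ¬ x = ⟨t, ht2⟩}
    have hJ : Fintype.card J = 8 := by
      rw [Fintype.card_subtype_compl, Fintype.card_subtype_eq, ← Nat.card_eq_fintype_card, hcard,
        h9]
    have hmem : ∀ (c : C) (x : J), orderOf ((c : G) * x.1.1 * (c : G)⁻¹) = 2 := fun c x => by
      rw [← MulAut.conj_apply, MulEquiv.orderOf_eq, x.1.2]
    have hfix : ∀ c : C, (c : G)⁻¹ * t * (c : G) = t := fun c => by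
      rw [mul_assoc, ← Subgroup.mem_centralizer_singleton_iff.1 c.2, inv_mul_cancel_left]
    let φ : C → J → J := fun c x => ⟨⟨_, hmem c x⟩, fun h => x.2 (Subtype.ext (by
      have h' : (c : G) * x.1.1 * (c : G)⁻¹ = t := congrArg Subtype.val h
      calc x.1.1 = (c : G)⁻¹ * ((c : G) * x.1.1 * (c : G)⁻¹) * (c : G) := by group
        _ = t := by rw [h', hfix]))⟩
    let act : MulAction C J :=
      { smul := φ
        one_smul := fun x => Subtype.ext (Subtype.ext (by
          change ((1 : C) : G) * x.1.1 * ((1 : C) : G)⁻¹ = x.1.1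
          simp))
        mul_smul := fun c d x => Subtype.ext (Subtype.ext (by
          change ((c : G) * d) * x.1.1 * ((c : G) * d)⁻¹ =
            (c : G) * ((d : G) * x.1.1 * (d : G)⁻¹) * (c : G)⁻¹
          group)) }
    letI := act
    set f := MulAction.toPermHom C J
    set σ : Equiv.Perm J := f ⟨t, htC⟩ with hσ
    have hσfix : ∀ x : J, σ x ≠ x := by
      intro x h
      have h' : t * x.1.1 * t⁻¹ = x.1.1 := congrArg (fun y : J => y.1.1) h
      have hxC : x.1.1 ∈ C := Subgroup.mem_centralizer_singleton_iff.2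
        ((mul_inv_eq_iff_eq_mul.1 h').symm)
      obtain ⟨h1, h2⟩ := (hord _).1 x.1.2
      exact x.2 (Subtype.ext (huC _ hxC h1 h2))
    have hσ2 : σ ^ 2 = 1 := by
      rw [hσ, ← map_pow, show (⟨t, htC⟩ : C) ^ 2 = 1 from Subtype.ext (by simp [pow_two, ht]),
        map_one]
    have hsupp : σ.support = Finset.univ := Finset.eq_univ_iff_forall.2 fun x =>
      Equiv.Perm.mem_support.2 (hσfix x)
    have hct : σ.cycleType = Multiset.replicate 4 2 := by
      have hall := Equiv.Perm.pow_prime_eq_one_iff.1 hσ2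
      have hrep := Multiset.eq_replicate_card.2 hall
      have hsum : σ.cycleType.sum = 8 := by
        rw [Equiv.Perm.sum_cycleType, hsupp, Finset.card_univ, hJ]
      rw [hrep, Multiset.sum_replicate, smul_eq_mul] at hsum
      rw [hrep]
      congr 1
      omega
    have hcent : Nat.card (Subgroup.centralizer ({σ} : Set (Equiv.Perm J))) = 2 ^ 7 * 3 ^ 1 := by
      rw [Equiv.Perm.nat_card_centralizer, hct, hJ]
      rfl
    haveI : Group.IsSolvable (Subgroup.centralizer ({σ} : Set (Equiv.Perm J))) :=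
      Cfsg.Agent.S0144.result 2 3 7 1 Nat.prime_two Nat.prime_three hcent
    have hrange : f.range ≤ Subgroup.centralizer ({σ} : Set (Equiv.Perm J)) := by
      rintro _ ⟨c, rfl⟩
      rw [Subgroup.mem_centralizer_singleton_iff, hσ, ← map_mul, ← map_mul]
      exact congrArg f (Subtype.ext (Subgroup.mem_centralizer_singleton_iff.1 c.2))
    haveI : Group.IsSolvable f.range :=
      Group.isSolvable_of_isSolvable_injective (Subgroup.inclusion_injective hrange)
    have hker : Odd (Nat.card f.ker) := by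
      rw [← Nat.not_even_iff_odd]
      intro h
      obtain ⟨x, hx⟩ := exists_prime_orderOf_dvd_card' (G := f.ker) 2 h.two_dvd
      have hx' : orderOf (((x : C)) : G) = 2 := by
        rw [Subgroup.orderOf_coe, Subgroup.orderOf_coe, hx]
      obtain ⟨h1, h2⟩ := (hord _).1 hx'
      have hxt : (x : C) = ⟨t, htC⟩ := Subtype.ext (huC _ (x : C).2 h1 h2)
      have hσ1 : σ = 1 := by
        rw [hσ, ← hxt]
        exact x.2
      have : Nonempty J := Fintype.card_pos_iff.1 (by omega)
      obtain ⟨j⟩ := this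
      exact hσfix j (by rw [hσ1]; rfl)
    haveI : Group.IsSolvable f.ker := Cfsg.Agent.S0205.result hker
    exact Group.isSolvable_of_ker_le_range f.ker.subtype f.rangeRestrict
      (by rw [Subgroup.range_subtype, MonoidHom.ker_rangeRestrict])

end Cfsg.Agent.Pyramid
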