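import Cfsg.Agent.Pyramid.Basic
import Cfsg.Agent.Invol.BaerSuzuki

/-!
# No two-transitive action on the involutions when they form a group of order at least four

The order eight case is a hypothesis; everything else reduces to it or to a contradiction.
-/

set_option autoImplicit false
set_option linter.style.haveILetI false
set_option linter.unusedSectionVars false

namespace Cfsg.Agent.Pyramid.Two

open Cfsg.Agent.Pyramid

section Linear

variable {V : Type*} [CommGroup V] [Finite V]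

/-- The fixed points of an automorphism. -/
def fixed (x : MulAut V) : Subgroup V where
  carrier := {u | x u = u}
  one_mem' := map_one x
  mul_mem' {a b} ha hb := by simp only [Set.mem_ofPred_eq, map_mul] at *; rw [ha, hb]
  inv_mem' {a} ha := by simp only [Set.mem_ofPred_eq, map_inv] at *; rw [ha]

theorem mem_fixed {x : MulAut V} {u : V} : u ∈ fixed x ↔ x u = u := Iff.rfl

theorem eq_of_sq (h2 : ∀ u : V, u * u = 1) {a b : V} (h : a * b = 1) : b = a :=
  mul_left_cancel (h.trans (h2 a).symm)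

variable (T : Subgroup (MulAut V))
  (h2t : ∀ a b c d : V, a ≠ 1 → b ≠ 1 → c ≠ 1 → d ≠ 1 → a ≠ b → c ≠ d →
    ∃ t ∈ T, t a = c ∧ t b = d)
  (hfix : ∀ t ∈ T, Odd (orderOf t) → ∀ a b : V, a ≠ 1 → b ≠ 1 → a ≠ b → t a = a → t b = b → t = 1)

include hfix in
/-- No nontrivial element of odd order fixing a displacement of an involution is inverted by it. -/
theorem not_inverted (h2 : ∀ u : V, u * u = 1) {x h : MulAut V} (hh : h ∈ T) (hodd : Odd (orderOf h))
    (hinv : x * h * x⁻¹ = h⁻¹) {v : V} (he1 : v * x v ≠ 1) (hxe : x (v * x v) = v * x v)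
    (hhe : h (v * x v) = v * x v) : h = 1 := by
  classical
  by_contra hne
  set e := v * x v with he
  haveI : Fintype (Subgroup.zpowers h) := Fintype.ofFinite _
  let N : V → V := fun w => ∏ y : Subgroup.zpowers h, (y : MulAut V) w
  have hN : ∀ w, h (N w) = N w := fun w => by
    simp only [N, map_prod]
    exact Fintype.prod_equiv (Equiv.mulLeft (⟨h, Subgroup.mem_zpowers h⟩ : Subgroup.zpowers h)) _ _
      fun y => rfl
  have hcases : ∀ w, N w = 1 ∨ N w = e := fun w => by
    by_contra hc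
    push Not at hc
    exact hne (hfix h hh hodd _ _ hc.1 he1 hc.2 (hN w) hhe)
  have hxN : x (N v) = N (x v) := by
    simp only [N, map_prod]
    refine Fintype.prod_equiv (Equiv.inv _) _ _ fun y => ?_
    obtain ⟨k, hk⟩ := Subgroup.mem_zpowers_iff.1 y.2
    have h1 : x * (y : MulAut V) = ((y⁻¹ : Subgroup.zpowers h) : MulAut V) * x := by
      rw [Subgroup.coe_inv, ← hk, ← inv_zpow, ← hinv, conj_zpow]
      group
    exact DFunLike.congr_fun h1 v
  have hNe : N e = e := by
    have hy : ∀ y : Subgroup.zpowers h, (y : MulAut V) e = e := fun y => by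
      have : Subgroup.zpowers h ≤ MulAction.stabilizer (MulAut V) e :=
        Subgroup.zpowers_le.2 hhe
      exact this y.2
    have hc : Odd (Fintype.card (Subgroup.zpowers h)) := by
      rwa [← Nat.card_eq_fintype_card, Nat.card_zpowers]
    obtain ⟨k, hk⟩ := hc
    simp only [N, hy, Finset.prod_const, Finset.card_univ, hk, pow_succ, pow_mul, pow_two, h2,
      one_pow, one_mul]
  have hNmul : N v * N (x v) = N e := by
    simp only [N, he, map_mul, Finset.prod_mul_distrib]
  have hfx : x (N v) = N v := by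
    rcases hcases v with h0 | h0
    · rw [h0, map_one]
    · rw [h0, hxe]
  rw [← hxN, hfx, h2, hNe] at hNmul
  exact he1 hNmul.symm

include h2t hfix in
/-- An involution acts as a transvection. -/
theorem transvection (h2 : ∀ u : V, u * u = 1) (hV : 4 ∣ Nat.card V) {x : MulAut V} (hx : x ∈ T)
    (hxx : orderOf x = 2) : ∃ e : V, ∀ u, u * x u = 1 ∨ u * x u = e := by
  classical
  have hxsq : x * x = 1 := by rw [← pow_two, ← hxx, pow_orderOf_eq_one]
  obtain ⟨v, hv⟩ : ∃ v, x v ≠ v := by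
    by_contra hc
    push Not at hc
    have : x = 1 := MulEquiv.ext hc
    rw [this, orderOf_one] at hxx
    omega
  set e := v * x v with he
  have he1 : e ≠ 1 := fun h => hv (eq_of_sq h2 h)
  have hxe : x e = e := by
    rw [he, map_mul, show x (x v) = v from DFunLike.congr_fun hxsq v, mul_comm]
  let M : Subgroup (MulAut V) := T ⊓ MulAction.stabilizer (MulAut V) e
  have hxM : x ∈ M := ⟨hx, hxe⟩
  by_cases hO : ∀ N : Subgroup M, N.Normal → IsPGroup 2 N → (⟨x, hxM⟩ : M) ∉ N
  · obtain ⟨h, hh1, hhodd, hhinv⟩ :=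
      Invol.exists_inverted_odd (⟨x, hxM⟩ : M) ((Subgroup.orderOf_mk x hxM).trans hxx) hO
    refine absurd (Subtype.ext ?_) hh1
    exact not_inverted T hfix h2 h.2.1 (by rwa [Subgroup.orderOf_coe])
      (congrArg Subtype.val hhinv) he1 hxe h.2.2
  push Not at hO
  obtain ⟨N, hN, hN2, hxN⟩ := hO
  let K : Subgroup V := Subgroup.zpowers e
  have hK : ∀ u, u ∈ K ↔ u = 1 ∨ u = e := fun u => by
    constructor
    · intro hu
      obtain ⟨k, rfl⟩ := Subgroup.mem_zpowers_iff.1 hu
      have he2 : e ^ (2 : ℤ) = 1 := by rw [zpow_two, h2]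
      rcases Int.emod_two_eq_zero_or_one k with h | h
      · left; rw [← Int.mul_ediv_add_emod k 2, h, add_zero, zpow_mul, he2, one_zpow]
      · right; rw [← Int.mul_ediv_add_emod k 2, h, zpow_add, zpow_mul, he2, one_zpow, one_mul,
          zpow_one]
    · rintro (rfl | rfl)
      · exact one_mem _
      · exact Subgroup.mem_zpowers _
  have hmap : ∀ t : N, K ≤ K.comap ((t : M) : MulAut V).toMonoidHom := fun t =>
    Subgroup.zpowers_le.2 (by
      rw [Subgroup.mem_comap]
      show ((t : M) : MulAut V) e ∈ K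
      rw [show ((t : M) : MulAut V) e = e from (t : M).2.2]
      exact Subgroup.mem_zpowers e)
  letI : MulAction N (V ⧸ K) :=
    { smul := fun t q => QuotientGroup.map K K ((t : M) : MulAut V).toMonoidHom (hmap t) q
      one_smul := fun q => by induction q using QuotientGroup.induction_on with | H u => rfl
      mul_smul := fun s t q => by induction q using QuotientGroup.induction_on with | H u => rfl }
  have hsmul : ∀ (t : N) (u : V), t • (u : V ⧸ K) = ((((t : M) : MulAut V) u : V) : V ⧸ K) :=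
    fun _ _ => rfl
  have hev : 2 ∣ Nat.card (V ⧸ K) := by
    have h1 := Subgroup.card_eq_card_quotient_mul_card_subgroup K
    have h2' : Nat.card K = 2 := by
      rw [Nat.card_zpowers]
      exact orderOf_eq_prime (by rw [pow_two, h2]) he1
    rw [h2'] at h1
    omega
  have hone : ((1 : V) : V ⧸ K) ∈ MulAction.fixedPoints N (V ⧸ K) := fun t => by
    rw [hsmul, map_one]
  haveI : Fact (Nat.Prime 2) := ⟨Nat.prime_two⟩
  obtain ⟨q, hq, hq1⟩ := hN2.exists_fixed_point_of_prime_dvd_card_of_fixed_point _ hev hone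
  induction q using QuotientGroup.induction_on with | H u0 =>
  have hu0 : ∀ t : M, t ∈ N → u0⁻¹ * (t : MulAut V) u0 ∈ K := fun t ht => by
    have h1 := hq ⟨t, ht⟩
    rw [hsmul] at h1
    exact QuotientGroup.eq.1 h1.symm
  have hu0K : u0 ≠ 1 ∧ u0 ≠ e := by
    constructor <;> intro hc <;> apply hq1 <;> rw [hc, QuotientGroup.eq]
    · simp
    · rw [inv_one, one_mul]; exact Subgroup.mem_zpowers e
  refine ⟨e, fun u => ?_⟩
  by_cases hu : u = 1 ∨ u = e
  · left
    rcases hu with rfl | rfl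
    · simp
    · rw [hxe, h2]
  push Not at hu
  obtain ⟨m, hm, hme, hmu⟩ := h2t e u0 e u he1 hu0K.1 he1 hu.1 hu0K.2.symm hu.2.symm
  have hmM : m ∈ M := ⟨hm, hme⟩
  have h1 := hu0 _ (hN.conj_mem _ hxN (⟨m, hmM⟩ : M)⁻¹)
  rw [inv_inv, hK] at h1
  have h3 : u * x u = m (u0⁻¹ * (((⟨m, hmM⟩ : M)⁻¹ * ⟨x, hxM⟩ * ⟨m, hmM⟩ : M) : MulAut V) u0) := by
    rw [map_mul, map_inv, hmu, show u⁻¹ = u from inv_eq_of_mul_eq_one_right (h2 u)]
    congr 1
    show x u = m (m.symm (x (m u0)))
    rw [MulEquiv.apply_symm_apply, hmu]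
  rw [h3]
  rcases h1 with h1 | h1 <;> rw [h1]
  · left; exact map_one m
  · right; exact hme

include h2t hfix in
/-- There is no two-transitive linear group of this sort in degree at least sixteen. -/
theorem false_of_fix (h2 : ∀ u : V, u * u = 1) (h16 : 16 ∣ Nat.card V) : False := by
  classical
  haveI : Fact (Nat.Prime 2) := ⟨Nat.prime_two⟩
  haveI : Nontrivial V := Finite.one_lt_card_iff_nontrivial.1 (by
    have := Nat.le_of_dvd Nat.card_pos h16
    omega)
  have h4 : 4 ∣ Nat.card V := dvd_trans (by norm_num) h16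
  have hpair : ∀ {S : Subgroup V}, 3 ≤ Nat.card S → ∃ a b : V,
      a ∈ S ∧ b ∈ S ∧ a ≠ 1 ∧ b ≠ 1 ∧ a ≠ b := fun {S} hS => by
    haveI := Fintype.ofFinite S
    have h : 2 ≤ ((Finset.univ : Finset S).erase 1).card := by
      rw [Finset.card_erase_of_mem (Finset.mem_univ _), Finset.card_univ, ← Nat.card_eq_fintype_card]
      omega
    obtain ⟨a, ha, b, hb, hab⟩ := Finset.one_lt_card.1 h
    refine ⟨a, b, a.2, b.2, ?_, ?_, fun hc => hab (Subtype.ext hc)⟩
    · exact fun hc => Finset.ne_of_mem_erase ha (Subtype.ext hc)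
    · exact fun hc => Finset.ne_of_mem_erase hb (Subtype.ext hc)
  obtain ⟨a, b, -, -, ha, hb, hab⟩ := hpair (S := ⊤) (by
    rw [Subgroup.card_top]
    have := Nat.le_of_dvd Nat.card_pos h16
    omega)
  obtain ⟨t, ht, hta, htb⟩ := h2t a b b a ha hb hb ha hab hab.symm
  have hev : 2 ∣ orderOf t := by
    by_contra hc
    have hodd : Odd (orderOf t) := Nat.odd_iff.2 (by omega)
    obtain ⟨k, hk⟩ := hodd
    have hst : t ^ 2 ∈ MulAction.stabilizer (MulAut V) a := by
      show (t ^ 2) a = a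
      rw [pow_two, MulAut.mul_apply, hta, htb]
    have : t ∈ MulAction.stabilizer (MulAut V) a := by
      have h1 : t = (t ^ 2) ^ (k + 1) := by
        rw [← pow_mul, show 2 * (k + 1) = orderOf t + 1 by omega, pow_succ, pow_orderOf_eq_one,
          one_mul]
      rw [h1]
      exact pow_mem hst _
    exact hab (Eq.trans (Eq.symm (MulAction.mem_stabilizer_iff.1 this)) hta)
  have hdvd : 2 ∣ Nat.card T := by
    refine hev.trans ?_
    rw [← Subgroup.orderOf_mk t ht]
    exact orderOf_dvd_natCard _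
  obtain ⟨x, hx⟩ := exists_prime_orderOf_dvd_card' (p := 2) hdvd
  have hO : ∀ N : Subgroup T, N.Normal → IsPGroup 2 N → x ∉ N := fun N hN hN2 hxN => by
    have hev' : 2 ∣ Nat.card V := dvd_trans (by norm_num) h16
    have hone : (1 : V) ∈ MulAction.fixedPoints N V := fun s => map_one ((s : T) : MulAut V)
    obtain ⟨c, hc, hc1⟩ := hN2.exists_fixed_point_of_prime_dvd_card_of_fixed_point V hev' hone
    have hall : ∀ u : V, u ≠ 1 → (x : MulAut V) u = u := fun u hu => by
      obtain ⟨d, d', -, -, hd, hd', hdd⟩ := hpair (S := ⊤) (by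
        rw [Subgroup.card_top]
        have := Nat.le_of_dvd Nat.card_pos h16
        omega)
      obtain ⟨d, hd, hdc⟩ : ∃ d, d ≠ 1 ∧ d ≠ c := by
        by_cases h : d = c
        · exact ⟨d', hd', fun h' => hdd (h.trans h'.symm)⟩
        · exact ⟨d, hd, h⟩
      obtain ⟨d1, hd1, hdu⟩ : ∃ d1, d1 ≠ 1 ∧ d1 ≠ u := by
        by_cases h : a = u
        · exact ⟨b, hb, fun h' => hab (h.trans h'.symm)⟩
        · exact ⟨a, ha, h⟩
      obtain ⟨m, hm, hmc, -⟩ := h2t c d u d1 hc1.symm hd hu hd1 hdc.symm hdu.symm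
      have h1 : ((((⟨m, hm⟩ : T)⁻¹ * x * ⟨m, hm⟩ : T)) : MulAut V) c = c := by
        have := hc ⟨_, by simpa only [inv_inv] using hN.conj_mem x hxN (⟨m, hm⟩ : T)⁻¹⟩
        exact this
      have h2' : m.symm ((x : MulAut V) (m c)) = c := h1
      rw [hmc] at h2'
      rw [← m.apply_symm_apply ((x : MulAut V) u), h2', hmc]
    have : x = 1 := Subtype.ext (MulEquiv.ext fun u => by
      by_cases hu : u = 1
      · subst hu; exact map_one _
      · exact hall u hu)
    rw [this, orderOf_one] at hx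
    omega
  obtain ⟨h, hh1, hhodd, hhinv⟩ := Invol.exists_inverted_odd x hx hO
  have hz : orderOf (x * h) = 2 := by
    refine orderOf_eq_prime ?_ fun hc => ?_
    · have hxsq : x * x = 1 := by rw [← pow_two, ← hx, pow_orderOf_eq_one]
      have hxi : x⁻¹ = x := inv_eq_of_mul_eq_one_right hxsq
      rw [hxi] at hhinv
      rw [pow_two, ← mul_assoc, hhinv, inv_mul_cancel]
    · rw [eq_inv_of_mul_eq_one_left hc, orderOf_inv] at hx
      rw [hx] at hhodd
      exact absurd hhodd (by decide)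
  have hindex : ∀ y : T, orderOf y = 2 → (fixed (y : MulAut V)).index ≤ 2 := fun y hy => by
    obtain ⟨e, he⟩ := transvection T h2t hfix h2 h4 y.2 ((Subgroup.orderOf_coe y).trans hy)
    let δ : V →* V := MonoidHom.id V * (y : MulAut V).toMonoidHom
    have hker : δ.ker = fixed (y : MulAut V) := Subgroup.ext fun u =>
      ⟨fun h => eq_of_sq h2 h, fun h => (congrArg (u * ·) h).trans (h2 u)⟩
    rw [← hker, Subgroup.index_ker]
    calc Nat.card δ.range ≤ Nat.card ({1, e} : Set V) :=
          Nat.card_mono (Set.toFinite _) (by rintro _ ⟨u, rfl⟩; exact he u)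
      _ ≤ 2 := by
        rw [Nat.card_coe_set_eq]
        exact (Set.ncard_insert_le _ _).trans (by rw [Set.ncard_singleton])
  have hI : (fixed (x : MulAut V) ⊓ fixed ((x * h : T) : MulAut V)).index ≤ 4 :=
    Subgroup.index_inf_le.trans (Nat.mul_le_mul (hindex x hx) (hindex _ hz))
  obtain ⟨c, d, hc, hd, hc1, hd1, hcd⟩ :=
    hpair (S := fixed (x : MulAut V) ⊓ fixed ((x * h : T) : MulAut V)) (by
      have h1 := (fixed (x : MulAut V) ⊓ fixed ((x * h : T) : MulAut V)).card_mul_index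
      have h2' := Nat.le_of_dvd Nat.card_pos h16
      nlinarith)
  have hfixh : ∀ w ∈ fixed (x : MulAut V) ⊓ fixed ((x * h : T) : MulAut V), (h : MulAut V) w = w :=
    fun w hw => (x : MulAut V).injective ((hw.2 : (x : MulAut V) ((h : MulAut V) w) = w).trans
      hw.1.symm)
  exact hh1 (Subtype.ext (hfix h h.2 (by rwa [Subgroup.orderOf_coe]) c d hc1 hd1 hcd (hfixh c hc) (hfixh d hd)))

end Linear

section Group

universe u

variable {H : Type u} [Group H] [Finite H]

theorem exists_normalizer {r : ℕ} [Fact r.Prime] {K : Subgroup H} (P : Sylow r K) (h : H)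
    (hP : ∀ x ∈ (P : Subgroup K).map K.subtype, h⁻¹ * x * h ∈ K) :
    ∃ k ∈ K, h * k ∈ Subgroup.normalizer (((P : Subgroup K).map K.subtype : Subgroup H) : Set H) := by
  set X : Subgroup H := (P : Subgroup K).map K.subtype with hX
  let Y : Subgroup K := (X.map (MulAut.conj h⁻¹).toMonoidHom).comap K.subtype
  have hle : X.map (MulAut.conj h⁻¹).toMonoidHom ≤ K := by
    rintro _ ⟨x, hx, rfl⟩
    simpa using hP x hx
  have hcard : Nat.card Y = Nat.card (P : Subgroup K) := by
    show Nat.card ((X.map (MulAut.conj h⁻¹).toMonoidHom).subgroupOf K) = _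
    rw [Nat.card_congr (Subgroup.subgroupOfEquivOfLe hle).toEquiv,
      Subgroup.card_map_of_injective (MulEquiv.injective _), hX,
      Subgroup.card_map_of_injective K.subtype_injective]
  let Q : Sylow r K := Sylow.ofCard Y (hcard.trans P.card_eq_multiplicity)
  obtain ⟨k, hk⟩ := MulAction.exists_smul_eq K P Q
  refine ⟨k, k.2, Subgroup.mem_normalizer_fintype fun x hx => ?_⟩
  obtain ⟨y, hy, rfl⟩ := hx
  have hmem : MulAut.conj k y ∈ (Q : Subgroup K) := by
    rw [← hk]
    exact Subgroup.smul_mem_pointwise_smul y (MulAut.conj k) _ hy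
  obtain ⟨w, hw, hwe⟩ := (hmem : MulAut.conj k y ∈ Y)
  simp only [MulEquiv.coe_toMonoidHom, MulAut.conj_apply, Subgroup.coe_subtype, inv_inv,
    Subgroup.coe_mul, Subgroup.coe_inv] at hwe
  show h * k * (y : H) * (h * k)⁻¹ ∈ X
  rwa [show h * (k : H) * y * (h * k)⁻¹ = h * ((k : H) * y * (k : H)⁻¹) * h⁻¹ by group, ← hwe,
    show h * (h⁻¹ * w * h) * h⁻¹ = w by group]

/-- The `r`-part of an element whose image has order divisible by `r` keeps a nontrivial image. -/
theorem exists_part {A : Type*} [Group A] (φ : H →* A) {g : H} {r : ℕ} [hr : Fact r.Prime]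
    (hg : r ∣ orderOf (φ g)) :
    ∃ m : ℕ, IsPGroup r (Subgroup.zpowers (g ^ m)) ∧ φ (g ^ m) ≠ 1 := by
  have h0 : orderOf g ≠ 0 := (orderOf_pos g).ne'
  refine ⟨orderOf g / r ^ (orderOf g).factorization r, IsPGroup.of_card
    (n := (orderOf g).factorization r) ?_, ?_⟩
  · rw [Nat.card_zpowers, orderOf_pow_orderOf_div h0 (Nat.ordProj_dvd _ _)]
  · rw [map_pow]
    intro hc
    exact Nat.not_dvd_ordCompl hr.out h0 (hg.trans (orderOf_dvd_of_pow_eq_one hc))

theorem card_pow_two {E : Subgroup H} (hE : IsInvSub E) : ∃ n : ℕ, Nat.card E = 2 ^ n :=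
  haveI : Fact (Nat.Prime 2) := ⟨Nat.prime_two⟩
  IsPGroup.iff_card.1 fun e => ⟨1, Subtype.ext (by rw [pow_one, pow_two]; exact hE.sq e.2)⟩

/-- An element of square one normalising a subgroup of odd order centralises it. -/
theorem commute_of_norm {E : Subgroup H} (hE : IsInvSub E) {X : Subgroup H}
    (hX : Odd (Nat.card X)) {y : H} (hy : y ∈ E) (hn : y ∈ Subgroup.normalizer (X : Set H))
    {x : H} (hx : x ∈ X) : x * y = y * x := by
  have h1 : x * y * x⁻¹ * y⁻¹ ∈ E := mul_mem (hE.conj_mem hy x) (inv_mem hy)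
  have h2 : x * y * x⁻¹ * y⁻¹ ∈ X := by
    rw [show x * y * x⁻¹ * y⁻¹ = x * (y * x⁻¹ * y⁻¹) by group]
    exact mul_mem hx ((Subgroup.mem_normalizer_iff.1 hn _).1 (inv_mem hx))
  have h3 : orderOf (x * y * x⁻¹ * y⁻¹) ∣ 2 :=
    orderOf_dvd_of_pow_eq_one (by rw [pow_two]; exact hE.sq h1)
  have h4 : orderOf (x * y * x⁻¹ * y⁻¹) ∣ Nat.card X := Subgroup.orderOf_dvd_natCard _ h2
  have h5 : orderOf (x * y * x⁻¹ * y⁻¹) = 1 :=
    (Nat.coprime_two_left.2 hX).coprime_dvd_left h3 |>.eq_one_of_dvd h4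
  rw [orderOf_eq_one_iff, mul_inv_eq_one, mul_inv_eq_iff_eq_mul] at h5
  exact h5

theorem odd_pgroup {r : ℕ} [hr : Fact r.Prime] (hr2 : r ≠ 2) {X : Subgroup H}
    (hX : IsPGroup r X) : Odd (Nat.card X) := by
  obtain ⟨n, hn⟩ := IsPGroup.iff_card.1 hX
  rw [hn]
  exact (hr.out.odd_of_ne_two hr2).pow

/-- The order four case. -/
theorem false_of_four (E : Subgroup H) (hE : IsInvSub E) (h2 : ConjTrans₂ E)
    (h4 : Nat.card E = 4) : False := by
  classical
  haveI := hE.normal
  haveI : Fact (Nat.Prime 3) := ⟨Nat.prime_three⟩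
  haveI := Fintype.ofFinite E
  let φ : H →* MulAut E := MulAut.conjNormal
  have hφ : ∀ (g : H) (a : E), ((φ g a : E) : H) = g * a * g⁻¹ := fun g a => by simp [φ]
  have hcard : 2 ≤ ((Finset.univ : Finset E).erase 1).card := by
    rw [Finset.card_erase_of_mem (Finset.mem_univ _), Finset.card_univ, ← Nat.card_eq_fintype_card,
      h4]
    norm_num
  obtain ⟨e, he, f, hf, hef⟩ := Finset.one_lt_card.1 hcard
  replace he := Finset.ne_of_mem_erase he
  replace hf := Finset.ne_of_mem_erase hf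
  have hsq : ∀ a : E, a * a = 1 := fun a => Subtype.ext (hE.sq a.2)
  have hcomm : ∀ a b : E, a * b = b * a := fun a b => Subtype.ext (hE.comm a.2 b.2)
  have hef1 : e * f ≠ 1 := fun h => hef (mul_left_cancel (h.trans (hsq e).symm)).symm
  have hee : e * f ≠ e := fun h => hf (mul_left_cancel (a := e) (by rw [h, mul_one]))
  have hff : e * f ≠ f := fun h => he (mul_right_cancel (b := f) (by rw [h, one_mul]))
  have hall : ∀ a : E, a = 1 ∨ a = e ∨ a = f ∨ a = e * f := fun a => by
    have huniv : ({1, e, f, e * f} : Finset E) = Finset.univ := by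
      refine Finset.eq_univ_of_card _ ?_
      rw [← Nat.card_eq_fintype_card, h4, Finset.card_insert_of_notMem (by
        simp [Ne.symm he, Ne.symm hf, Ne.symm hef1]), Finset.card_insert_of_notMem (by
        simp [hef, Ne.symm hee]), Finset.card_insert_of_notMem (by simp [Ne.symm hff]),
        Finset.card_singleton]
    simpa using (huniv.symm ▸ Finset.mem_univ a : a ∈ ({1, e, f, e * f} : Finset E))
  have hne : ∀ a : E, a ≠ 1 → (a : H) ≠ 1 := fun a ha h => ha (Subtype.ext h)
  have htr : ∀ a b : E, a ≠ 1 → b ≠ 1 → a ≠ b → ∃ g : H, φ g e = a ∧ φ g f = b := fun a b ha hb hab => by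
    obtain ⟨g, hg1, hg2⟩ := h2 e e.2 f f.2 a a.2 b b.2 (hne e he) (hne f hf) (hne a ha) (hne b hb)
      (fun h => hef (Subtype.ext h)) (fun h => hab (Subtype.ext h))
    exact ⟨g, Subtype.ext ((hφ g e).trans hg1), Subtype.ext ((hφ g f).trans hg2)⟩
  obtain ⟨g, hge, hgf⟩ := htr f (e * f) hf hef1 hff.symm
  obtain ⟨s, hse, hsf⟩ := htr f e hf he hef.symm
  have hext : ∀ t t' : MulAut E, t e = t' e → t f = t' f → t = t' := fun t t' h1 h2' =>
    MulEquiv.ext fun a => by
      rcases hall a with rfl | rfl | rfl | rfl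
      · rw [map_one, map_one]
      · exact h1
      · exact h2'
      · rw [map_mul, map_mul, h1, h2']
  have hgg : φ g (e * f) = e := by
    rw [map_mul, hge, hgf, hcomm e f, ← mul_assoc, hsq, one_mul]
  have h3 : φ g ^ 3 = 1 := hext _ _ (by simp [pow_succ, MulAut.mul_apply, hge, hgf, hgg])
    (by simp [pow_succ, MulAut.mul_apply, hge, hgf, hgg])
  have hg1 : φ g ≠ 1 := fun h => by
    rw [h, MulAut.one_apply] at hge
    exact hef hge
  have hnofix : ∀ a : E, φ g a = a → a = 1 := fun a ha => by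
    rcases hall a with rfl | rfl | rfl | rfl
    · rfl
    · exact absurd (hge.symm.trans ha) hef.symm
    · exact absurd (hgf.symm.trans ha) hff
    · exact absurd (hgg.symm.trans ha) hee.symm
  let K : Subgroup H := (Subgroup.zpowers (φ g)).comap φ
  obtain ⟨m, hm3, hm1⟩ := exists_part φ (g := g) (r := 3) (by rw [orderOf_eq_prime h3 hg1])
  have hmK : g ^ m ∈ K := Subgroup.mem_comap.2 (by rw [map_pow]; exact ⟨m, by simp⟩)
  obtain ⟨P, hP⟩ := (IsPGroup.comap_subtype hm3 :
    IsPGroup 3 ((Subgroup.zpowers (g ^ m)).subgroupOf K)).exists_le_sylow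
  have hs2 : φ s * φ s = 1 := hext _ _ (by simp [MulAut.mul_apply, hse, hsf])
    (by simp [MulAut.mul_apply, hse, hsf])
  have hsg : φ s * φ g * (φ s)⁻¹ = (φ g)⁻¹ := by
    rw [inv_eq_of_mul_eq_one_right hs2, eq_inv_iff_mul_eq_one]
    have h1 : φ s (e * f) = e * f := by rw [map_mul, hse, hsf, hcomm]
    exact hext _ _ (by simp [MulAut.mul_apply, hge, hsf])
      (by simp [MulAut.mul_apply, hgf, hgg, hse, h1])
  have hsK : ∀ x ∈ (P : Subgroup K).map K.subtype, s⁻¹ * x * s ∈ K := by
    rintro _ ⟨y, -, rfl⟩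
    show φ (s⁻¹ * y * s) ∈ Subgroup.zpowers (φ g)
    obtain ⟨k, hk⟩ := Subgroup.mem_zpowers_iff.1 (y.2 : φ y ∈ Subgroup.zpowers (φ g))
    refine Subgroup.mem_zpowers_iff.2 ⟨-k, ?_⟩
    rw [map_mul, map_mul, map_inv, ← hk]
    have h1 : (φ g ^ k) = (φ s * φ g * (φ s)⁻¹) ^ (-k) := by rw [hsg, inv_zpow', neg_neg]
    rw [h1, conj_zpow]
    group
  obtain ⟨k, hk, hn⟩ := exists_normalizer P s hsK
  set w := s * k with hw
  have hφw : φ w ∉ Subgroup.zpowers (φ g) := fun hc => by
    have h1 : φ s ∈ Subgroup.zpowers (φ g) := by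
      rw [hw, map_mul] at hc
      exact (Subgroup.mul_mem_cancel_right (Subgroup.zpowers (φ g))
        (Subgroup.mem_comap.1 hk)).1 hc
    have h2' : orderOf (φ s) ∣ Nat.card (Subgroup.zpowers (φ g)) :=
      Subgroup.orderOf_dvd_natCard _ h1
    rw [Nat.card_zpowers, orderOf_eq_prime h3 hg1, orderOf_eq_prime (p := 2)
      (by rw [pow_two, hs2]) (fun h => by rw [h, MulAut.one_apply] at hse; exact hef hse)] at h2'
    norm_num at h2'
  have hev : 2 ∣ orderOf w := by
    have h1 : φ w ^ 2 ∈ Subgroup.zpowers (φ g) := by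
      obtain ⟨j, hj⟩ := Subgroup.mem_zpowers_iff.1 (hk : φ k ∈ Subgroup.zpowers (φ g))
      rw [hw, map_mul, ← hj, pow_two,
        show φ s * φ g ^ j * (φ s * φ g ^ j) = φ s * φ g ^ j * (φ s)⁻¹ * (φ s * φ s) * φ g ^ j by
          group, hs2, mul_one, ← conj_zpow, hsg]
      exact mul_mem (zpow_mem (inv_mem (Subgroup.mem_zpowers _)) j)
        (zpow_mem (Subgroup.mem_zpowers _) j)
    by_contra hc
    obtain ⟨j, hj⟩ : Odd (orderOf w) := Nat.odd_iff.2 (by omega)
    apply hφw
    have h2' : φ w = (φ w ^ 2) ^ (j + 1) := by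
      rw [← pow_mul, ← map_pow, show 2 * (j + 1) = orderOf w + 1 by omega, pow_succ,
        pow_orderOf_eq_one, one_mul]
    rw [h2']
    exact pow_mem h1 _
  have hy2 : orderOf (w ^ (orderOf w / 2)) = 2 := orderOf_pow_orderOf_div (orderOf_pos w).ne' hev
  set y := w ^ (orderOf w / 2)
  have hyE : y ∈ E := (hE y).2 (by rw [← pow_two, ← hy2, pow_orderOf_eq_one])
  have hgmP : g ^ m ∈ (P : Subgroup K).map K.subtype :=
    ⟨⟨g ^ m, hmK⟩, hP (Subgroup.mem_subgroupOf.2 (Subgroup.mem_zpowers _)), rfl⟩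
  have hc := commute_of_norm hE (odd_pgroup (by norm_num) (P.2.map _)) hyE (pow_mem hn _) hgmP
  have hfix : φ (g ^ m) ⟨y, hyE⟩ = ⟨y, hyE⟩ := Subtype.ext (by rw [hφ, hc]; group)
  have hgen : φ g ∈ Subgroup.zpowers (φ (g ^ m)) := by
    haveI : Fact (Nat.card (Subgroup.zpowers (φ g))).Prime :=
      ⟨by rw [Nat.card_zpowers, orderOf_eq_prime h3 hg1]; exact Nat.prime_three⟩
    rcases Subgroup.eq_bot_or_eq_top_of_prime_card ((Subgroup.zpowers (φ (g ^ m))).subgroupOf
      (Subgroup.zpowers (φ g))) with h | h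
    · exfalso
      have h' : (⟨φ (g ^ m), hmK⟩ : Subgroup.zpowers (φ g)) ∈
          (Subgroup.zpowers (φ (g ^ m))).subgroupOf (Subgroup.zpowers (φ g)) :=
        Subgroup.mem_zpowers _
      rw [h, Subgroup.mem_bot] at h'
      exact hm1 (congrArg Subtype.val h')
    · exact Subgroup.mem_subgroupOf.1 (h ▸ Subgroup.mem_top (⟨φ g, Subgroup.mem_zpowers _⟩ :
        Subgroup.zpowers (φ g)))
  have h1 : (⟨y, hyE⟩ : E) = 1 := by
    refine hnofix _ ?_
    have : Subgroup.zpowers (φ (g ^ m)) ≤ MulAction.stabilizer (MulAut E) (⟨y, hyE⟩ : E) :=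
      Subgroup.zpowers_le.2 hfix
    exact this hgen
  have h1' : y = 1 := congrArg Subtype.val h1
  rw [h1', orderOf_one] at hy2
  omega

/-- An odd element fixing two points and moving another gives a smaller configuration. -/
theorem exists_smaller (E : Subgroup H) (hE : IsInvSub E) (h2 : ConjTrans₂ E)
    {g e f : H} (hodd : Odd (orderOf g)) (he : e ∈ E) (hf : f ∈ E) (he1 : e ≠ 1) (hf1 : f ≠ 1)
    (hef : e ≠ f) (hge : g * e * g⁻¹ = e) (hgf : g * f * g⁻¹ = f)
    (hmove : ∃ a ∈ E, g * a * g⁻¹ ≠ a) :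
    ∃ (N : Subgroup H) (U : Subgroup N), IsInvSub U ∧ ConjTrans₂ U ∧ 4 ≤ Nat.card U ∧
      Nat.card U < Nat.card E := by
  classical
  haveI := hE.normal
  let φ : H →* MulAut E := MulAut.conjNormal
  have hφ : ∀ (g : H) (a : E), ((φ g a : E) : H) = g * a * g⁻¹ := fun g a => by simp [φ]
  have hg1 : φ g ≠ 1 := fun h => by
    obtain ⟨a, ha, hne⟩ := hmove
    exact hne (by rw [← hφ g ⟨a, ha⟩, h]; rfl)
  obtain ⟨r, hr, hrd⟩ := Nat.exists_prime_and_dvd (orderOf_eq_one_iff.not.2 hg1)
  haveI : Fact r.Prime := ⟨hr⟩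
  have hr2 : r ≠ 2 := fun h => by
    have := hrd.trans (orderOf_map_dvd φ g)
    rw [h] at this
    exact Nat.not_even_iff_odd.2 hodd (even_iff_two_dvd.2 this)
  let K : Subgroup H := Subgroup.centralizer ({e, f} : Set H)
  have hgK : g ∈ K := by
    refine Subgroup.mem_centralizer_iff.2 ?_
    rintro z (rfl | rfl)
    · exact (mul_inv_eq_iff_eq_mul.1 hge).symm
    · exact (mul_inv_eq_iff_eq_mul.1 hgf).symm
  obtain ⟨m, hmr, hm1⟩ := exists_part φ hrd
  have hmK : g ^ m ∈ K := pow_mem hgK m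
  obtain ⟨P, hP⟩ := (IsPGroup.comap_subtype hmr :
    IsPGroup r ((Subgroup.zpowers (g ^ m)).subgroupOf K)).exists_le_sylow
  set X : Subgroup H := (P : Subgroup K).map K.subtype with hX
  have hXodd : Odd (Nat.card X) := odd_pgroup hr2 (P.2.map _)
  have hXK : X ≤ K := Subgroup.map_subtype_le _
  set N := Subgroup.normalizer (X : Set H) with hN
  set U₀ := E ⊓ Subgroup.centralizer (X : Set H) with hU₀
  have hU₀N : U₀ ≤ N := fun y hy => Subgroup.mem_normalizer_fintype fun x hx => by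
    have h1 := Subgroup.mem_centralizer_iff.1 hy.2 x hx
    rwa [← h1, mul_inv_cancel_right]
  let U : Subgroup N := U₀.subgroupOf N
  have hcard : Nat.card U = Nat.card U₀ :=
    Nat.card_congr (Subgroup.subgroupOfEquivOfLe hU₀N).toEquiv
  have heX : ∀ z ∈ ({e, f} : Set H), z ∈ U₀ := fun z hz => by
    refine ⟨?_, Subgroup.mem_centralizer_iff.2 fun x hx =>
      (Subgroup.mem_centralizer_iff.1 (hXK hx) z hz).symm⟩
    rcases hz with rfl | rfl <;> assumption
  have hU : IsInvSub U := fun y => by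
    constructor
    · intro hy
      exact Subtype.ext (hE.sq hy.1)
    · intro hy
      have hyE : (y : H) ∈ E := (hE _).2 (congrArg Subtype.val hy)
      exact ⟨hyE, Subgroup.mem_centralizer_iff.2 fun x hx =>
        commute_of_norm hE hXodd hyE y.2 hx⟩
  have hbase : ∀ a ∈ U₀, ∀ b ∈ U₀, a ≠ 1 → b ≠ 1 → a ≠ b →
      ∃ n ∈ N, n * e * n⁻¹ = a ∧ n * f * n⁻¹ = b := by
    intro a ha b hb ha1 hb1 hab
    obtain ⟨h, hha, hhb⟩ := h2 e he f hf a ha.1 b hb.1 he1 hf1 ha1 hb1 hef hab
    have hh : ∀ x ∈ X, h⁻¹ * x * h ∈ K := by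
      intro x hx
      refine Subgroup.mem_centralizer_iff.2 ?_
      rintro z (rfl | rfl)
      · have h1 := Subgroup.mem_centralizer_iff.1 ha.2 x hx
        rw [← hha] at h1
        apply mul_left_cancel (a := h)
        apply mul_right_cancel (b := h⁻¹)
        simpa [mul_assoc] using h1.symm
      · have h1 := Subgroup.mem_centralizer_iff.1 hb.2 x hx
        rw [← hhb] at h1
        apply mul_left_cancel (a := h)
        apply mul_right_cancel (b := h⁻¹)
        simpa [mul_assoc] using h1.symm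
    obtain ⟨k, hk, hn⟩ := exists_normalizer P h hh
    refine ⟨h * k, hn, ?_, ?_⟩
    · have h1 := Subgroup.mem_centralizer_iff.1 hk e (Or.inl rfl)
      rw [mul_inv_rev, show h * k * e * (k⁻¹ * h⁻¹) = h * (k * e * k⁻¹) * h⁻¹ by group, ← h1,
        mul_inv_cancel_right, hha]
    · have h1 := Subgroup.mem_centralizer_iff.1 hk f (Or.inr rfl)
      rw [mul_inv_rev, show h * k * f * (k⁻¹ * h⁻¹) = h * (k * f * k⁻¹) * h⁻¹ by group, ← h1,
        mul_inv_cancel_right, hhb]
  refine ⟨N, U, hU, ?_, ?_, ?_⟩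
  · intro a ha b hb c hc d hd ha1 hb1 hc1 hd1 hab hcd
    have hne : ∀ x : N, x ≠ 1 → (x : H) ≠ 1 := fun x hx h => hx (Subtype.ext h)
    obtain ⟨n, hn, hna, hnb⟩ := hbase _ ha _ hb (hne a ha1) (hne b hb1)
      (fun h => hab (Subtype.ext h))
    obtain ⟨n', hn', hnc, hnd⟩ := hbase _ hc _ hd (hne c hc1) (hne d hd1)
      (fun h => hcd (Subtype.ext h))
    refine ⟨⟨n' * n⁻¹, mul_mem hn' (inv_mem hn)⟩, Subtype.ext ?_, Subtype.ext ?_⟩
    · show n' * n⁻¹ * N.subtype a * (n' * n⁻¹)⁻¹ = N.subtype c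
      rw [← hna, ← hnc]; group
    · show n' * n⁻¹ * N.subtype b * (n' * n⁻¹)⁻¹ = N.subtype d
      rw [← hnb, ← hnd]; group
  · rw [hcard]
    obtain ⟨j, hj⟩ := card_pow_two hU
    rw [hcard] at hj
    have h3 : 3 ≤ Nat.card U₀ := by
      haveI := Fintype.ofFinite U₀
      rw [Nat.card_eq_fintype_card, ← Finset.card_univ]
      refine le_trans ?_ (Finset.card_le_card (Finset.subset_univ
        ({1, ⟨e, heX e (Or.inl rfl)⟩, ⟨f, heX f (Or.inr rfl)⟩} : Finset U₀)))
      rw [Finset.card_insert_of_notMem, Finset.card_insert_of_notMem, Finset.card_singleton]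
      · simp [hef]
      · simp [Subtype.ext_iff, Ne.symm he1, Ne.symm hf1]
    rw [hj] at h3 ⊢
    rcases j with _ | _ | j
    · simp at h3
    · simp at h3
    · calc 4 = 2 ^ 2 := rfl
        _ ≤ 2 ^ (j + 2) := Nat.pow_le_pow_right (by norm_num) (by omega)
  · rw [hcard]
    refine lt_of_le_of_ne (Nat.card_mono (E : Set H).toFinite inf_le_left) fun heq => hm1 ?_
    have hUE : U₀ = E := Subgroup.eq_of_le_of_card_ge inf_le_left heq.ge
    refine MulEquiv.ext fun a => Subtype.ext ?_
    rw [hφ, MulAut.one_apply]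
    have ha : (a : H) ∈ U₀ := hUE.symm ▸ a.2
    have h1 := Subgroup.mem_centralizer_iff.1 ha.2 (g ^ m)
      ⟨⟨g ^ m, hmK⟩, hP (Subgroup.mem_subgroupOf.2 (Subgroup.mem_zpowers _)), rfl⟩
    rw [h1, mul_inv_cancel_right]

/-- When no odd element fixes two points and moves another, degree sixteen or more is impossible. -/
theorem false_of_large (E : Subgroup H) (hE : IsInvSub E) (h2 : ConjTrans₂ E)
    (h16 : 16 ∣ Nat.card E)
    (hno : ∀ g e f : H, Odd (orderOf g) → e ∈ E → f ∈ E → e ≠ 1 → f ≠ 1 → e ≠ f →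
      g * e * g⁻¹ = e → g * f * g⁻¹ = f → ∀ a ∈ E, g * a * g⁻¹ = a) : False := by
  haveI := hE.normal
  letI : CommGroup E :=
    { (inferInstance : Group E) with mul_comm := fun a b => Subtype.ext (hE.comm a.2 b.2) }
  let φ : H →* MulAut E := MulAut.conjNormal
  have hφ : ∀ (g : H) (a : E), ((φ g a : E) : H) = g * a * g⁻¹ := fun g a => by simp [φ]
  have hne : ∀ a : E, a ≠ 1 → (a : H) ≠ 1 := fun a ha h => ha (Subtype.ext h)
  refine false_of_fix (V := E) φ.range ?_ ?_ (fun a => Subtype.ext (hE.sq a.2)) h16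
  · intro a b c d ha hb hc hd hab hcd
    obtain ⟨g, hg1, hg2⟩ := h2 a a.2 b b.2 c c.2 d d.2 (hne a ha) (hne b hb) (hne c hc) (hne d hd)
      (fun h => hab (Subtype.ext h)) (fun h => hcd (Subtype.ext h))
    exact ⟨φ g, ⟨g, rfl⟩, Subtype.ext ((hφ g a).trans hg1), Subtype.ext ((hφ g b).trans hg2)⟩
  · rintro _ ⟨g, rfl⟩ hodd a b ha hb hab hga hgb
    -- replace `g` by its odd part, which generates the same cyclic image
    have h0 : orderOf g ≠ 0 := (orderOf_pos g).ne'
    set i := 2 ^ (orderOf g).factorization 2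
    have hpow : Odd (orderOf (g ^ i)) := by
      rw [Nat.odd_iff, orderOf_pow, Nat.gcd_eq_right (Nat.ordProj_dvd _ _)]
      have := Nat.not_dvd_ordCompl Nat.prime_two h0
      omega
    have hfix : ∀ z : E, φ g z = z → g ^ i * z * (g ^ i)⁻¹ = (z : H) := fun z hz => by
      have h1 : φ g ^ i ∈ MulAction.stabilizer (MulAut E) z :=
        pow_mem (show φ g ∈ MulAction.stabilizer (MulAut E) z from hz) i
      rw [← map_pow] at h1
      exact (hφ _ z).symm.trans (congrArg Subtype.val h1)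
    have hall := hno _ _ _ hpow a.2 b.2 (hne a ha) (hne b hb) (fun h => hab (Subtype.ext h))
      (hfix a hga) (hfix b hgb)
    have h1 : φ g ^ i = 1 := by
      rw [← map_pow]
      exact MulEquiv.ext fun z => Subtype.ext ((hφ _ z).trans (hall z z.2))
    obtain ⟨k, -, hk⟩ := (Nat.dvd_prime_pow Nat.prime_two).1 (orderOf_dvd_of_pow_eq_one h1)
    rw [hk] at hodd
    rcases k with _ | k
    · exact orderOf_eq_one_iff.1 hk
    · exact absurd hodd (Nat.not_odd_iff_even.2 ⟨2 ^ k, by rw [pow_succ]; omega⟩)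

end Group

end Cfsg.Agent.Pyramid.Two

namespace Cfsg.Agent.Pyramid

universe u

/-- Given the order eight case, involutions forming a group of order at least four are never
permuted two-transitively. -/
theorem not_conjTrans₂
    (h8 : ∀ (H : Type u) [Group H] [Finite H] (E : Subgroup H), IsInvSub E → ConjTrans₂ E →
      Nat.card E = 8 → False)
    (H : Type u) [Group H] [Finite H] (E : Subgroup H) (hE : IsInvSub E) (h2 : ConjTrans₂ E)
    (h4 : 4 ≤ Nat.card E) : False := by
  suffices h : ∀ n : ℕ, ∀ (H : Type u) [Group H] [Finite H] (E : Subgroup H), IsInvSub E →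
      ConjTrans₂ E → 4 ≤ Nat.card E → Nat.card E = n → False from h _ H E hE h2 h4 rfl
  intro n
  induction n using Nat.strong_induction_on with
  | _ n IH =>
    intro H _ _ E hE h2 h4 hn
    obtain ⟨s, hs⟩ := Two.card_pow_two hE
    match s, hs with
    | 0, hs => omega
    | 1, hs => omega
    | 2, hs => exact Two.false_of_four E hE h2 (by omega)
    | 3, hs => exact h8 H E hE h2 (by omega)
    | s + 4, hs =>
      refine Two.false_of_large E hE h2 ⟨2 ^ s, by rw [hs, pow_add]; ring⟩ fun g e f hodd he hf he1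
        hf1 hef hge hgf a ha => ?_
      by_contra hga
      obtain ⟨N, U, hU, hU2, hU4, hlt⟩ :=
        Two.exists_smaller E hE h2 hodd he hf he1 hf1 hef hge hgf ⟨a, ha, hga⟩
      exact IH _ (hn ▸ hlt) N U hU hU2 hU4 rfl

end Cfsg.Agent.Pyramid
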