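import Cfsg.Agent.Pyramid.EightMin
import Cfsg.Agent.Pyramid.Two
import Cfsg.Agent.Pyramid.OneInv
import Cfsg.Agent.S0675
import Cfsg.Agent.S4037

/-!
# Groups with a class of `p ^ k` involutions
-/

set_option autoImplicit false
set_option linter.unusedSectionVars false

universe u

namespace Cfsg.Agent.Pyramid

/-- If `p ^ j + 1` is a power of two with `p` odd and `j ≥ 1` then `j = 1`. -/
theorem exp_one {p j s : ℕ} (hp : Odd p) (hp1 : 1 < p) (hj : 1 ≤ j) (h : p ^ j + 1 = 2 ^ s) :
    j = 1 := by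
  have hpp : p ≤ p ^ j := Nat.le_self_pow (by omega) p
  have hs : 2 ≤ s := by
    by_contra hs
    have : 2 ^ s ≤ 2 ^ 1 := Nat.pow_le_pow_right two_pos (by omega)
    omega
  have h4 : 4 ∣ p ^ j + 1 := h ▸ pow_dvd_pow 2 hs
  rcases Nat.even_or_odd j with ⟨i, rfl⟩ | ⟨i, rfl⟩
  · exfalso
    obtain ⟨a, ha⟩ := hp.pow (n := i)
    rw [pow_add, ha] at h4
    have e : (2 * a + 1) * (2 * a + 1) + 1 = 4 * (a * a + a) + 2 := by ring
    rw [e] at h4
    omega
  · by_contra hne
    have hdvd : p + 1 ∣ p ^ (2 * i + 1) + 1 := by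
      have := Odd.nat_add_dvd_pow_add_pow p 1 (n := 2 * i + 1) ⟨i, rfl⟩
      simpa using this
    obtain ⟨a, -, hpa⟩ := (Nat.dvd_prime_pow Nat.prime_two).1 (h ▸ hdvd)
    have hlt : p + 1 < 2 ^ s := by
      rw [← h]
      have : p ^ 1 < p ^ (2 * i + 1) := Nat.pow_lt_pow_right hp1 (by omega)
      rw [pow_one] at this
      omega
    have has : a + 1 ≤ s := by
      rw [hpa] at hlt
      exact (Nat.pow_lt_pow_iff_right (by norm_num : 1 < 2)).1 hlt
    -- `p * p ≡ 1` modulo `2 ^ (a + 1)`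
    obtain ⟨b, hb⟩ := hp
    have hsq : p * p ≡ 1 [MOD 2 ^ (a + 1)] := by
      refine ((Nat.modEq_iff_dvd' (by nlinarith)).2 ?_).symm
      have e : p * p - 1 = 2 * b * (p + 1) := by
        subst hb
        rw [Nat.sub_eq_iff_eq_add (by nlinarith)]
        ring
      rw [e, hpa, pow_succ']
      exact ⟨b, by ring⟩
    have hpow : p ^ (2 * i + 1) + 1 ≡ p + 1 [MOD 2 ^ (a + 1)] := by
      have := ((hsq.pow i).mul_right p).add_right 1
      rw [one_pow, one_mul] at this
      calc p ^ (2 * i + 1) + 1 = (p * p) ^ i * p + 1 := by rw [pow_succ, pow_mul, pow_two]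
        _ ≡ p + 1 [MOD 2 ^ (a + 1)] := this
    rw [h, hpa] at hpow
    have h0 : 2 ^ s ≡ 0 [MOD 2 ^ (a + 1)] := Nat.modEq_zero_iff_dvd.2 (pow_dvd_pow 2 has)
    have := Nat.modEq_zero_iff_dvd.1 (hpow.symm.trans h0)
    have := (Nat.pow_dvd_pow_iff_le_right (by norm_num : 1 < 2)).1 this
    omega

/-- A lift of an element of square one modulo a normal subgroup of odd order. -/
theorem exists_lift {G : Type u} [Group G] [Finite G] (R : Subgroup G) [R.Normal]
    (hR : Odd (Nat.card R)) {x : G} (hx : x * x ∈ R) :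
    ∃ y : G, y * y = 1 ∧ (QuotientGroup.mk y : G ⧸ R) = QuotientGroup.mk x := by
  refine ⟨x ^ Nat.card R, ?_, ?_⟩
  · rw [← pow_add, ← two_mul, pow_mul, pow_two]
    exact orderOf_dvd_iff_pow_eq_one.1 (Subgroup.orderOf_dvd_natCard R hx)
  · obtain ⟨m, hm⟩ := hR
    rw [QuotientGroup.mk_pow, hm, pow_succ, pow_mul, pow_two, ← QuotientGroup.mk_mul,
      (QuotientGroup.eq_one_iff _).2 hx, one_pow, one_mul]

theorem orderOf_eq_two_iff' {G : Type u} [Group G] {x : G} : orderOf x = 2 ↔ x * x = 1 ∧ x ≠ 1 := by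
  rw [orderOf_eq_prime_iff (p := 2), pow_two]

/-- A group with no normal subgroup of odd order whose involutions are conjugate and contained in an
elementary abelian subgroup of order `p + 1` is soluble. -/
theorem isSolvable_of_inv (H : Type u) [Group H] [Finite H] {E : Subgroup H} (hE : IsInvSub E)
    (htrans : ConjTrans E) (hcore : CoreFree₂ H) {p : ℕ} (hp : p.Prime) (hp2 : p ≠ 2)
    (hcard : Nat.card E = p + 1) : Group.IsSolvable H := by
  classical
  haveI hCs := centralizer_isSolvable hE hp hp2 hcard htrans hcore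
  let α := {e : H // e ∈ E ∧ e ≠ 1}
  haveI : Fintype α := Fintype.ofFinite α
  letI : MulAction H α :=
    { smul := fun g x => ⟨g * x.1 * g⁻¹, hE.conj_mem x.2.1 g,
        fun h => x.2.2 (conj_eq_one_iff.1 h)⟩
      one_smul := fun x => Subtype.ext (by show 1 * x.1 * 1⁻¹ = x.1; group)
      mul_smul := fun g h x => Subtype.ext (by
        show g * h * x.1 * (g * h)⁻¹ = g * (h * x.1 * h⁻¹) * g⁻¹; group) }
  let φ := MulAction.toPermHom H α
  have hφker : φ.ker ≤ Subgroup.centralizer (E : Set H) := by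
    intro g hg
    rw [Subgroup.mem_centralizer_iff]
    intro e he
    rcases eq_or_ne e 1 with rfl | he1
    · rw [one_mul, mul_one]
    have h := congrArg Subtype.val
      (DFunLike.congr_fun (MonoidHom.mem_ker.1 hg) (⟨e, he, he1⟩ : α))
    have h' : g * e * g⁻¹ = e := h
    rw [mul_inv_eq_iff_eq_mul] at h'
    exact h'.symm
  have hαc : Fintype.card α = p := by
    rw [← Nat.card_eq_fintype_card]
    have h := Nat.card_congr (Equiv.sumCompl (fun x : E => (x : H) ≠ 1))
    rw [Nat.card_sum, hcard] at h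
    have h1 : Nat.card {x : E // ¬ (x : H) ≠ 1} = 1 := by
      rw [Nat.card_eq_one_iff_exists]
      exact ⟨⟨1, by simp⟩, fun y => Subtype.ext (Subtype.ext (not_not.1 y.2))⟩
    have h2 : Nat.card {x : E // (x : H) ≠ 1} = Nat.card α :=
      Nat.card_congr
        { toFun := fun x => ⟨x.1.1, x.1.2, x.2⟩
          invFun := fun x => ⟨⟨x.1, x.2.1⟩, x.2.2⟩
          left_inv := fun x => rfl
          right_inv := fun x => rfl }
    omega
  haveI : MulAction.IsPretransitive φ.range α := ⟨fun a b => by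
    obtain ⟨g, hg⟩ := htrans a.1 a.2.1 b.1 b.2.1 a.2.2 b.2.2
    exact ⟨⟨φ g, g, rfl⟩, Subtype.ext hg⟩⟩
  rcases Cfsg.Agent.S0675.result (hαc ▸ hp) φ.range with hsol | h2t
  · haveI := hsol
    haveI : Group.IsSolvable φ.ker :=
      Group.isSolvable_of_isSolvable_injective (Subgroup.inclusion_injective hφker)
    exact Group.isSolvable_of_ker_le_range φ.ker.subtype φ.rangeRestrict
      (by rw [MonoidHom.ker_rangeRestrict, Subgroup.range_subtype])
  · exfalso
    rw [MulAction.is_two_pretransitive_iff] at h2t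
    have h2 : ConjTrans₂ E := by
      intro a ha b hb c hc d hd ha1 hb1 hc1 hd1 hab hcd
      obtain ⟨⟨σ, g, rfl⟩, h1, h2'⟩ := @h2t (⟨a, ha, ha1⟩ : α) ⟨b, hb, hb1⟩ ⟨c, hc, hc1⟩ ⟨d, hd, hd1⟩
        (fun h => hab (congrArg Subtype.val h)) (fun h => hcd (congrArg Subtype.val h))
      exact ⟨g, congrArg Subtype.val h1, congrArg Subtype.val h2'⟩
    exact not_conjTrans₂ (fun H => eight_false H) H E hE h2 (by have := hp.two_le; omega)

/-- A group whose `p ^ k` involutions are conjugate is soluble if `k` is odd or `p ^ k = 9`. -/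
theorem main_forward (G : Type u) [Group G] [Finite G] (p k : ℕ) (hp : p.Prime) (hp2 : p ≠ 2)
    (hk : Odd k ∨ p ^ k = 9) (hcard : Nat.card {x : G // orderOf x = 2} = p ^ k)
    (hconj : ∀ x y : G, orderOf x = 2 → orderOf y = 2 → ∃ g : G, g * x * g⁻¹ = y) :
    Group.IsSolvable G := by
  classical
  obtain ⟨⟨t, ht⟩⟩ : Nonempty {x : G // orderOf x = 2} :=
    (Nat.card_pos_iff.1 (hcard ▸ pow_pos hp.pos k)).1
  set R := Cfsg.pPrimeCore 2 G with hRdef
  have hRodd : Odd (Nat.card R) :=
    Nat.coprime_two_right.1 (PSolv.coprime_card_pPrimeCore 2 G)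
  haveI : Group.IsSolvable R := Cfsg.Agent.S0205.result hRodd
  let π := QuotientGroup.mk' R
  have hπs : Function.Surjective π := QuotientGroup.mk'_surjective R
  have hcore : CoreFree₂ (G ⧸ R) := by
    intro N hN hodd
    have hle : N.comap π ≤ R := by
      refine PSolv.le_pPrimeCore (hN.comap π) (Nat.coprime_two_right.2 ?_)
      have hker : π.ker = R := QuotientGroup.ker_mk' R
      have h1 := Subgroup.card_eq_card_quotient_mul_card_subgroup (R.subgroupOf (N.comap π))
      have hRle : R ≤ N.comap π := by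
        intro x hx
        rw [Subgroup.mem_comap]
        have : π x = 1 := by rw [← MonoidHom.mem_ker, hker]; exact hx
        rw [this]; exact N.one_mem
      rw [h1, Nat.card_congr (Subgroup.subgroupOfEquivOfLe hRle).toEquiv]
      refine Odd.mul ?_ hRodd
      have hmap : (N.comap π).map π = N := Subgroup.map_comap_eq_self_of_surjective hπs _
      have h2 : Nat.card N = (π.ker).relIndex (N.comap π) := by
        rw [Subgroup.relIndex_ker, hmap]
      rw [hker] at h2
      show Odd (R.relIndex (N.comap π))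
      rw [← h2]
      exact hodd
    rw [← Subgroup.map_comap_eq_self_of_surjective hπs N, Subgroup.map_eq_bot_iff]
    rw [QuotientGroup.ker_mk']
    exact hle
  -- the involutions of the quotient
  have hlift : ∀ y : G ⧸ R, y * y = 1 → y ≠ 1 → ∃ x : G, orderOf x = 2 ∧ π x = y := by
    intro y hy hy1
    obtain ⟨x, rfl⟩ := hπs y
    obtain ⟨z, hz, hzx⟩ := exists_lift R hRodd (x := x) ((QuotientGroup.eq_one_iff _).1 hy)
    refine ⟨z, orderOf_eq_two_iff'.2 ⟨hz, fun h => hy1 ?_⟩, hzx⟩
    show (QuotientGroup.mk x : G ⧸ R) = 1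
    rw [← hzx, h, QuotientGroup.mk_one]
  have hπ1 : ∀ x : G, orderOf x = 2 → π x ≠ 1 := by
    intro x hx h
    have hxR : x ∈ R := (QuotientGroup.eq_one_iff _).1 h
    have : 2 ∣ Nat.card R := by rw [← hx]; exact Subgroup.orderOf_dvd_natCard R hxR
    rw [Nat.odd_iff] at hRodd
    omega
  have hπsq : ∀ x : G, orderOf x = 2 → π x * π x = 1 := fun x hx => by
    rw [← map_mul, (orderOf_eq_two_iff'.1 hx).1, map_one]
  have hconjH : ∀ y z : G ⧸ R, y * y = 1 → y ≠ 1 → z * z = 1 → z ≠ 1 →
      ∃ g : G ⧸ R, g * y * g⁻¹ = z := by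
    intro y z hy hy1 hz hz1
    obtain ⟨x, hx, rfl⟩ := hlift y hy hy1
    obtain ⟨w, hw, rfl⟩ := hlift z hz hz1
    obtain ⟨g, rfl⟩ := hconj x w hx hw
    exact ⟨π g, by simp⟩
  -- the involutions generate a soluble normal subgroup
  have hclass : (ConjClasses.mk t).carrier = {x : G | orderOf x = 2} := by
    ext x
    rw [ConjClasses.mem_carrier_iff_mk_eq, ConjClasses.mk_eq_mk_iff_isConj, Set.mem_ofPred_eq,
      isConj_comm, isConj_iff]
    constructor
    · rintro ⟨g, rfl⟩
      rw [← MulAut.conj_apply, MulEquiv.orderOf_eq, ht]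
    · exact fun hx => hconj t x ht hx
  haveI hNsol := Cfsg.Agent.S4037.result t hp k (by
    rw [hclass, ← Nat.card_coe_set_eq, ← hcard]; rfl)
  set N := (Subgroup.normalClosure ({t} : Set G)).map π with hN
  haveI : N.Normal := Subgroup.Normal.map Subgroup.normalClosure_normal π hπs
  haveI : Group.IsSolvable N :=
    Group.isSolvable_of_surjective (π.subgroupMap_surjective _)
  have htN : π t ∈ N := Subgroup.mem_map_of_mem π (Subgroup.subset_normalClosure rfl)
  -- an abelian normal subgroup containing all involutions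
  obtain ⟨A, hA, hAab, hAne⟩ : ∃ A : Subgroup (G ⧸ R), A.Normal ∧
      (∀ a ∈ A, ∀ b ∈ A, a * b = b * a) ∧ A ≠ ⊥ := by
    obtain ⟨m, hm⟩ := (Group.isSolvable_def N).1 inferInstance
    have hex : ∃ n, derivedSeries N n = ⊥ := ⟨m, hm⟩
    obtain ⟨n, hn⟩ : ∃ n, Nat.find hex = n + 1 := by
      refine Nat.exists_eq_succ_of_ne_zero fun h0 => ?_
      have := Nat.find_spec hex
      rw [h0, derivedSeries_zero] at this
      have h1 : (⟨π t, htN⟩ : N) ∈ (⊥ : Subgroup N) := this ▸ Subgroup.mem_top _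
      exact hπ1 t ht (congrArg Subtype.val (Subgroup.mem_bot.1 h1))
    have hbot := Nat.find_spec hex
    rw [hn, derivedSeries_succ, Subgroup.commutator_eq_bot_iff_le_centralizer] at hbot
    refine ⟨(derivedSeries N n).map N.subtype, inferInstance, ?_, fun h => ?_⟩
    · rintro _ ⟨a, ha, rfl⟩ _ ⟨b, hb, rfl⟩
      exact congrArg Subtype.val (Subgroup.mem_centralizer_iff.1 (hbot hb) a ha)
    · rw [Subgroup.map_eq_bot_iff_of_injective _ N.subtype_injective] at h
      exact Nat.find_min hex (by omega : n < Nat.find hex) h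
  have hinvA : ∀ y : G ⧸ R, y * y = 1 → y ∈ A := by
    intro y hy
    rcases eq_or_ne y 1 with rfl | hy1
    · exact A.one_mem
    have heven : 2 ∣ Nat.card A := by
      by_contra hodd
      exact hAne (hcore A hA (Nat.odd_iff.2 (by omega)))
    obtain ⟨z, hz⟩ := exists_prime_orderOf_dvd_card' (G := A) 2 heven
    rw [← Subgroup.orderOf_coe] at hz
    obtain ⟨hz2, hz1⟩ := orderOf_eq_two_iff'.1 hz
    obtain ⟨g, rfl⟩ := hconjH z y hz2 hz1 hy hy1
    exact hA.conj_mem _ z.2 g
  let E : Subgroup (G ⧸ R) :=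
    { carrier := {y | y * y = 1}
      one_mem' := one_mul 1
      mul_mem' := by
        intro a b ha hb
        show a * b * (a * b) = 1
        have hab := hAab a (hinvA a ha) b (hinvA b hb)
        calc a * b * (a * b) = a * b * (b * a) := by rw [hab]
          _ = a * (b * b) * a := by group
          _ = 1 := by rw [show b * b = 1 from hb, mul_one]; exact ha
      inv_mem' := by
        intro a ha
        show a⁻¹ * a⁻¹ = 1
        rw [← mul_inv_rev, show a * a = 1 from ha, inv_one] }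
  have hE : IsInvSub E := fun y => Iff.rfl
  have htrans : ConjTrans E := fun a ha b hb ha1 hb1 => hconjH a b ha ha1 hb hb1
  -- the number of involutions of the quotient divides `p ^ k`
  let IG := {x : G // orderOf x = 2}
  let IH := {y : G ⧸ R // y ∈ E ∧ y ≠ 1}
  let f : IG → IH := fun x => ⟨π x.1, hπsq x.1 x.2, hπ1 x.1 x.2⟩
  let y₀ : IH := f ⟨t, ht⟩
  have hfib : ∀ y : IH, Nat.card {x : IG // f x = y} = Nat.card {x : IG // f x = y₀} := by
    intro y
    obtain ⟨g', hg⟩ := hconjH y.1 y₀.1 y.2.1 y.2.2 y₀.2.1 y₀.2.2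
    obtain ⟨g, rfl⟩ := hπs g'
    let σ : IG ≃ IG := (MulAut.conj g).toEquiv.subtypeEquiv fun x => by
      show orderOf x = 2 ↔ orderOf (MulAut.conj g x) = 2
      rw [MulEquiv.orderOf_eq]
    refine Nat.card_congr (σ.subtypeEquiv fun x => ?_)
    rw [Subtype.ext_iff, Subtype.ext_iff]
    show π x.1 = y.1 ↔ π (g * x.1 * g⁻¹) = y₀.1
    rw [map_mul, map_mul, map_inv]
    constructor
    · intro hx; rw [hx, hg]
    · intro hx
      exact mul_left_cancel (mul_right_cancel (hx.trans hg.symm))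
  have hdvd : Nat.card IH ∣ p ^ k := by
    haveI : Fintype IH := Fintype.ofFinite IH
    refine ⟨Nat.card {x : IG // f x = y₀}, ?_⟩
    rw [← hcard, ← Nat.card_congr (Equiv.sigmaFiberEquiv f), Nat.card_sigma,
      Finset.sum_congr rfl (fun y _ => hfib y), Finset.sum_const, Finset.card_univ, smul_eq_mul,
      Nat.card_eq_fintype_card (α := IH)]
  obtain ⟨j, -, hj⟩ := (Nat.dvd_prime_pow hp).1 hdvd
  have hEc : Nat.card E = p ^ j + 1 := by
    rw [← hj]
    have h := Nat.card_congr (Equiv.sumCompl (fun x : E => (x : G ⧸ R) ≠ 1))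
    rw [Nat.card_sum] at h
    have h1 : Nat.card {x : E // ¬ (x : G ⧸ R) ≠ 1} = 1 := by
      rw [Nat.card_eq_one_iff_exists]
      exact ⟨⟨1, by simp⟩, fun y => Subtype.ext (Subtype.ext (not_not.1 y.2))⟩
    have h2 : Nat.card {x : E // (x : G ⧸ R) ≠ 1} = Nat.card IH :=
      Nat.card_congr
        { toFun := fun x => ⟨x.1.1, x.1.2, x.2⟩
          invFun := fun x => ⟨⟨x.1, x.2.1⟩, x.2.2⟩
          left_inv := fun x => rfl
          right_inv := fun x => rfl }
    omega
  rcases Nat.eq_zero_or_pos j with rfl | hjpos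
  · -- a single involution modulo `R`
    rw [pow_zero] at hj
    haveI hsub : Subsingleton IH := (Nat.card_eq_one_iff_unique.1 hj).1
    refine solvable_of_unique_mod R hRodd p k hp hp2 hk hcard hconj fun x y hx hy => ?_
    exact QuotientGroup.eq.1 (congrArg Subtype.val (Subsingleton.elim (f ⟨x, hx⟩) (f ⟨y, hy⟩)))
  · obtain ⟨s, hs⟩ := (show IsPGroup 2 E from fun e => ⟨1, Subtype.ext (by
      rw [SubmonoidClass.coe_pow, pow_one, pow_two]; exact e.2)⟩).exists_card_eq
    have hj1 := exp_one (hp.odd_of_ne_two hp2) hp.one_lt hjpos (hEc ▸ hs)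
    rw [hj1, pow_one] at hEc
    haveI := isSolvable_of_inv (G ⧸ R) hE htrans hcore hp hp2 hEc
    exact Group.isSolvable_of_ker_le_range R.subtype π (by rw [QuotientGroup.ker_mk', Subgroup.range_subtype])

end Cfsg.Agent.Pyramid
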