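import Cfsg.Agent.Pyramid.Count

/-!
# An automorphism of prime order regular on the involutions
-/

set_option autoImplicit false
set_option linter.unusedSectionVars false

namespace Cfsg.Agent.Pyramid

variable {S : Type*} [Group S] [Finite S] {E : Subgroup S}

theorem aut_pow_fix {γ : MulAut S} {x : S} (h : γ x = x) : ∀ i : ℕ, (γ ^ i) x = x
  | 0 => rfl
  | i + 1 => by rw [pow_succ, MulAut.mul_apply, h, aut_pow_fix h i]

theorem aut_pow_mem {γ : MulAut S} {L : Subgroup S} (hL : ∀ x ∈ L, γ x ∈ L) {x : S} (hx : x ∈ L) :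
    ∀ i : ℕ, (γ ^ i) x ∈ L
  | 0 => hx
  | i + 1 => by rw [pow_succ', MulAut.mul_apply]; exact hL _ (aut_pow_mem hL hx i)

/-- If `σ ^ n` fixes `x` and so does `σ ^ m` with `m` prime to `n`, then `σ` fixes `x`. -/
theorem aut_fix_of_coprime {σ : MulAut S} {x : S} {n m : ℕ} (hn : (σ ^ n) x = x) (hm : (σ ^ m) x = x)
    (h : m.Coprime n) : σ x = x := by
  haveI : Finite (MulAut S) := Finite.of_injective _ (DFunLike.coe_injective (F := MulAut S))
  have h1 : σ ^ n ∈ MulAction.stabilizer (MulAut S) x := hn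
  have h2 : σ ^ m ∈ MulAction.stabilizer (MulAut S) x := hm
  have := Subgroup.zpow_mem _ h1 (m.gcdB n)
  have := Subgroup.mul_mem _ (Subgroup.zpow_mem _ h2 (m.gcdA n)) this
  rw [← zpow_natCast, ← zpow_mul, ← zpow_natCast, ← zpow_mul, ← zpow_add,
    ← Nat.gcd_eq_gcd_ab, h.gcd_eq_one] at this
  simpa using this

/-- Odd order automorphisms fixing `E` cannot move an element into its own coset of `E`. -/
theorem fix_of_coset {σ : MulAut S} (hE : IsInvSub E) {n : ℕ} (hn : Odd n) (hσ : (σ ^ n) = 1)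
    (hfix : ∀ e ∈ E, σ e = e) {x : S} (hx : x⁻¹ * σ x ∈ E) : σ x = x := by
  set e := x⁻¹ * σ x
  have h1 : σ x = x * e := by simp [e]
  have hpow : ∀ i : ℕ, (σ ^ i) x = x * e ^ i := by
    intro i
    induction i with
    | zero => simp
    | succ i ih =>
      rw [pow_succ', MulAut.mul_apply, ih, map_mul, map_pow, hfix e hx, h1, mul_assoc, ← pow_succ']
  have h2 : e ^ n = 1 := by
    have := hpow n
    rw [hσ, MulAut.one_apply] at this
    exact mul_eq_left.1 this.symm
  obtain ⟨j, rfl⟩ := hn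
  have h3 : e = 1 := by
    rw [pow_succ, pow_mul, pow_two, hE.sq hx, one_pow, one_mul] at h2
    exact h2
  rw [h1, h3, mul_one]

theorem eq_two_pow_of_sq {a i : ℕ} (h : a ^ 2 = 2 ^ i) : ∃ j, a = 2 ^ j :=
  (Nat.dvd_prime_pow Nat.prime_two).1 (Dvd.intro_left a (by rw [← h, pow_two])) |>.imp fun _ h => h.2

/-- If `2 ^ d = 2 ^ s + p * 2 ^ j` with `p + 1 = 2 ^ s`, then `j = s`. -/
theorem exp_eq {d s j p : ℕ} (hp : 1 < p) (hps : p + 1 = 2 ^ s) (h : 2 ^ d = 2 ^ s + p * 2 ^ j) :
    j = s := by
  have hpo : ¬ 2 ∣ p := by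
    have hs : s ≠ 0 := by intro hs; rw [hs, pow_zero] at hps; omega
    have : 2 ∣ 2 ^ s := dvd_pow_self 2 hs
    omega
  rcases lt_trichotomy j s with hjs | hjs | hjs
  · exfalso
    have e : 2 ^ d = 2 ^ j * (2 ^ (s - j) + p) := by
      rw [h, mul_add, ← pow_add, Nat.add_sub_cancel' hjs.le]; ring
    obtain ⟨t, -, ht⟩ := (Nat.dvd_prime_pow Nat.prime_two).1
      (show 2 ^ (s - j) + p ∣ 2 ^ d from ⟨2 ^ j, by rw [e, mul_comm]⟩)
    have := Nat.one_le_two_pow (n := s - j)
    rcases Nat.eq_zero_or_pos t with rfl | htpos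
    · rw [pow_zero] at ht; omega
    · have h1 : 2 ∣ 2 ^ t := dvd_pow_self 2 htpos.ne'
      have h2 : 2 ∣ 2 ^ (s - j) := dvd_pow_self 2 (by omega)
      omega
  · exact hjs
  · exfalso
    have e : 2 ^ d = 2 ^ s * (1 + p * 2 ^ (j - s)) := by
      rw [h, mul_add, mul_one, mul_left_comm, ← pow_add, Nat.add_sub_cancel' hjs.le]
    obtain ⟨t, -, ht⟩ := (Nat.dvd_prime_pow Nat.prime_two).1 (Dvd.intro_left _ e.symm)
    have h2 : 2 ∣ p * 2 ^ (j - s) := dvd_mul_of_dvd_right (dvd_pow_self 2 (by omega)) p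
    rcases Nat.eq_zero_or_pos t with rfl | htpos
    · have : 0 < p * 2 ^ (j - s) := by positivity
      rw [pow_zero] at ht; omega
    · have h1 : 2 ∣ 2 ^ t := dvd_pow_self 2 htpos.ne'
      omega

variable {p : ℕ}

/-- An automorphism of order a power of `p = |E| - 1` moving some element of `E` is transitive on the
nontrivial elements of `E`, and its `p`-th power fixes `E`. -/
theorem orbit_facts (hE : IsInvSub E) (hp : p.Prime) (hcard : Nat.card E = p + 1)
    {γ : MulAut S} {m : ℕ} (hγ : γ ^ (p ^ m) = 1) {x₀ : S} (hx₀ : x₀ ∈ E) (hmove : γ x₀ ≠ x₀) :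
    (∀ e ∈ E, (γ ^ p) e = e) ∧ ∀ e ∈ E, e ≠ 1 → ∃ i : ℕ, (γ ^ i) x₀ = e := by
  classical
  haveI : Fintype S := Fintype.ofFinite S
  haveI : Fact p.Prime := ⟨hp⟩
  have hinv : ∀ x ∈ E, γ x ∈ E := fun x hx => (hE _).2 (by rw [← map_mul, hE.sq hx, map_one])
  have hper : Function.minimalPeriod γ x₀ ∣ p ^ m := by
    refine Function.IsPeriodicPt.minimalPeriod_dvd ?_
    show (γ : S → S)^[p ^ m] x₀ = x₀
    have : ∀ i, (γ : S → S)^[i] x₀ = (γ ^ i) x₀ := fun i => by
      induction i with
      | zero => rfl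
      | succ i ih => rw [Function.iterate_succ_apply', ih, pow_succ', MulAut.mul_apply]
    rw [this, hγ, MulAut.one_apply]
  have hiter : ∀ (i : ℕ) (x : S), (γ : S → S)^[i] x = (γ ^ i) x := fun i x => by
    induction i with
    | zero => rfl
    | succ i ih => rw [Function.iterate_succ_apply', ih, pow_succ', MulAut.mul_apply]
  obtain ⟨t, -, ht⟩ := (Nat.dvd_prime_pow hp).1 hper
  have ht0 : t ≠ 0 := by
    rintro rfl
    rw [pow_zero, Function.minimalPeriod_eq_one_iff_isFixedPt] at ht
    exact hmove ht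
  have hx1 : x₀ ≠ 1 := fun h => hmove (by rw [h, map_one])
  let O := (Finset.range (p ^ t)).image fun i => (γ ^ i) x₀
  have hOc : O.card = p ^ t := by
    rw [Finset.card_image_of_injOn, Finset.card_range]
    intro i hi j hj hij
    simp only [Finset.coe_range, Set.mem_Iio] at hi hj
    refine Function.iterate_injOn_Iio_minimalPeriod (by rw [ht]; exact hi) (by rw [ht]; exact hj) ?_
    simp only [hiter]
    exact hij
  let F := (Finset.univ.filter fun x : S => x ∈ E).erase 1
  have hFc : F.card = p := by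
    rw [Finset.card_erase_of_mem (by simp), ← Fintype.card_subtype, ← Nat.card_eq_fintype_card]
    show Nat.card E - 1 = p
    omega
  have hsub : O ⊆ F := by
    intro y hy
    obtain ⟨i, -, rfl⟩ := Finset.mem_image.1 hy
    refine Finset.mem_erase.2 ⟨fun h => hx1 ((γ ^ i).injective (by rw [h, map_one])), ?_⟩
    exact Finset.mem_filter.2 ⟨Finset.mem_univ _, aut_pow_mem hinv hx₀ i⟩
  have ht1 : t = 1 := by
    have := Finset.card_le_card hsub
    rw [hOc, hFc] at this
    by_contra h1
    have : p ^ 2 ≤ p ^ t := Nat.pow_le_pow_right hp.pos (by omega)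
    nlinarith [hp.two_le]
  have hOF : O = F := Finset.eq_of_subset_of_card_le hsub (by rw [hOc, hFc, ht1, pow_one])
  have htr : ∀ e ∈ E, e ≠ 1 → ∃ i : ℕ, (γ ^ i) x₀ = e := fun e he he1 => by
    have : e ∈ O := hOF ▸ Finset.mem_erase.2 ⟨he1, Finset.mem_filter.2 ⟨Finset.mem_univ _, he⟩⟩
    obtain ⟨i, -, hi⟩ := Finset.mem_image.1 this
    exact ⟨i, hi⟩
  refine ⟨fun e he => ?_, htr⟩
  rcases eq_or_ne e 1 with rfl | he1
  · exact map_one _
  obtain ⟨i, rfl⟩ := htr e he he1
  rw [← MulAut.mul_apply, ← pow_add, add_comm, pow_add, MulAut.mul_apply]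
  congr 1
  have := Function.isPeriodicPt_minimalPeriod (γ : S → S) x₀
  rw [ht, ht1, pow_one] at this
  exact (hiter p x₀).symm.trans this

/-- Replace an automorphism of `p`-power order by one of order `p` with the same action on `E`. -/
theorem exists_prime_order_aut (hS : IsPGroup 2 S) (hE : IsInvSub E) (hc : E ≤ Subgroup.center S)
    (hp : p.Prime) (hp2 : p ≠ 2) (hcard : Nat.card E = p + 1) :
    ∀ (m : ℕ) (γ : MulAut S), γ ^ (p ^ m) = 1 → ∀ x₀ ∈ E, γ x₀ ≠ x₀ → γ ^ p = 1 := by
  classical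
  intro m
  induction m with
  | zero => intro γ hγ x₀ _ hmove; exact absurd (by simp only [pow_zero, pow_one] at hγ; simp [hγ]) hmove
  | succ m ih =>
    intro γ hγ x₀ hx₀ hmove
    by_cases hm : m = 0
    · subst hm; simpa using hγ
    set μ := γ ^ (p ^ m) with hμ
    by_cases hμ1 : μ = 1
    · exact ih γ hμ1 x₀ hx₀ hmove
    exfalso
    obtain ⟨hfixp, htr⟩ := orbit_facts hE hp hcard hγ hx₀ hmove
    have hμfix : ∀ e ∈ E, μ e = e := fun e he => by
      obtain ⟨j, hj⟩ : p ∣ p ^ m := dvd_pow_self p hm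
      rw [hμ, hj, pow_mul]
      exact aut_pow_fix (hfixp e he) j
    have hμp : μ ^ p = 1 := by rw [hμ, ← pow_mul, ← pow_succ]; exact hγ
    have hpodd : Odd p := hp.odd_of_ne_two hp2
    have hcom : ∀ x, μ (γ x) = γ (μ x) := fun x => by
      rw [← MulAut.mul_apply, ← MulAut.mul_apply, hμ, ← pow_succ, ← pow_succ']
    -- a minimal invariant subgroup moved by `μ`
    let P : Subgroup S → Prop := fun L => (∀ x ∈ L, γ x ∈ L) ∧ ∃ x ∈ L, μ x ≠ x
    have hne : ∃ L, P L := by
      refine ⟨⊤, fun x _ => Subgroup.mem_top _, ?_⟩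
      by_contra h
      push Not at h
      exact hμ1 (MulEquiv.ext fun x => h x (Subgroup.mem_top x))
    obtain ⟨L, hLm⟩ := (Set.toFinite {L | P L}).exists_minimal hne
    obtain ⟨hL, xL, hxL, hxLm⟩ := hLm.1
    have hmin : ∀ K : Subgroup S, K ≤ L → (∀ x ∈ K, γ x ∈ K) → K ≠ L → ∀ x ∈ K, μ x = x := by
      intro K hK hKi hKne x hx
      by_contra hne'
      exact hKne (le_antisymm hK (hLm.le_of_le ⟨hKi, x, hx, hne'⟩ hK))
    have hLμ : ∀ x ∈ L, μ x ∈ L := fun x hx => aut_pow_mem hL hx _
    -- `L` is generated by the elements `x⁻¹ μ x`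
    let gen : Set S := {d | ∃ x ∈ L, d = x⁻¹ * μ x}
    have hgen : Subgroup.closure gen = L := by
      by_contra hne'
      have hle : Subgroup.closure gen ≤ L := (Subgroup.closure_le _).2 (by
        rintro _ ⟨x, hx, rfl⟩; exact L.mul_mem (L.inv_mem hx) (hLμ x hx))
      have hinv : ∀ x ∈ Subgroup.closure gen, γ x ∈ Subgroup.closure gen := by
        intro x hx
        refine (Subgroup.closure_le (K := (Subgroup.closure gen).comap γ.toMonoidHom)).2 ?_ hx
        rintro _ ⟨y, hy, rfl⟩
        exact Subgroup.subset_closure ⟨γ y, hL y hy, by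
          show γ (y⁻¹ * μ y) = _; rw [map_mul, map_inv, hcom]⟩
      have hfix := hmin _ hle hinv hne'
      apply hxLm
      have hd := hfix _ (Subgroup.subset_closure ⟨xL, hxL, rfl⟩)
      set d := xL⁻¹ * μ xL
      have hpow : ∀ i : ℕ, (μ ^ i) xL = xL * d ^ i := by
        intro i
        induction i with
        | zero => simp
        | succ i ih =>
          rw [pow_succ', MulAut.mul_apply, ih, map_mul, map_pow, hd,
            show μ xL = xL * d by simp [d], mul_assoc, ← pow_succ']
      have hdp : d ^ p = 1 := by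
        have := hpow p
        rw [hμp, MulAut.one_apply] at this
        exact mul_eq_left.1 this.symm
      obtain ⟨a, ha⟩ := IsPGroup.iff_orderOf.1 hS d
      have hd1 : d = 1 := by
        rw [← orderOf_eq_one_iff]
        exact Nat.eq_one_of_dvd_coprimes
          (Nat.Coprime.pow_left a ((Nat.coprime_primes Nat.prime_two hp).2 (Ne.symm hp2)))
          (ha ▸ dvd_rfl) (orderOf_dvd_of_pow_eq_one hdp)
      calc μ xL = xL * d := by simp [d]
        _ = xL := by rw [hd1, mul_one]
    haveI : Nontrivial L := ⟨⟨⟨xL, hxL⟩, 1, fun h => hxLm (by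
      rw [show xL = 1 from congrArg Subtype.val h, map_one])⟩⟩
    -- squares are central
    let Q : Subgroup S := Subgroup.closure {q | ∃ x ∈ L, q = x * x}
    have hQL : Q ≤ L := (Subgroup.closure_le _).2 (by rintro _ ⟨x, hx, rfl⟩; exact L.mul_mem hx hx)
    have hQγ : ∀ x ∈ Q, γ x ∈ Q := by
      intro x hx
      refine (Subgroup.closure_le (K := Q.comap γ.toMonoidHom)).2 ?_ hx
      rintro _ ⟨y, hy, rfl⟩
      exact Subgroup.subset_closure ⟨γ y, hL y hy, map_mul γ y y⟩
    haveI : Fact (Nat.Prime 2) := ⟨Nat.prime_two⟩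
    have hQne : Q ≠ L := by
      obtain ⟨a, ha⟩ := (hS.to_subgroup L).exists_card_eq
      have ha0 : a ≠ 0 := by
        rintro rfl
        exact (Finite.one_lt_card (α := L)).ne' (by simpa using ha)
      obtain ⟨M, hM⟩ := Sylow.exists_subgroup_card_pow_prime (G := L) 2 (n := a - 1)
        (ha ▸ pow_dvd_pow 2 (Nat.sub_le a 1))
      have hMi : M.index = 2 := by
        have := M.card_mul_index
        rw [hM, ha] at this
        have e : 2 ^ a = 2 ^ (a - 1) * 2 := by rw [← pow_succ, Nat.sub_add_cancel (by omega)]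
        rw [e] at this
        exact Nat.eq_of_mul_eq_mul_left (by positivity) this
      intro hQ
      have hle : Q ≤ M.map L.subtype := (Subgroup.closure_le _).2 (by
        rintro _ ⟨x, hx, rfl⟩
        exact ⟨⟨x, hx⟩ * ⟨x, hx⟩, Subgroup.mul_self_mem_of_index_two hMi _, rfl⟩)
      have := Subgroup.card_le_of_le (hQ ▸ hle)
      rw [Subgroup.card_map_of_injective L.subtype_injective, hM, ha] at this
      have := (Nat.pow_le_pow_iff_right (le_refl 2)).1 this
      omega
    have hQfix := hmin Q hQL hQγ hQne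
    have hQcent : ∀ q ∈ Q, ∀ x ∈ L, q * x = x * q := by
      intro q hq
      suffices L ≤ Subgroup.centralizer {q} from fun x hx =>
        (Subgroup.mem_centralizer_singleton_iff.1 (this hx)).symm
      rw [← hgen, Subgroup.closure_le]
      rintro _ ⟨x, hx, rfl⟩
      refine Subgroup.mem_centralizer_singleton_iff.2 ?_
      have hconj : x * q * x⁻¹ ∈ Q := by
        have hqL := hQL hq
        have hnorm : ∀ w ∈ Q, x * w * x⁻¹ ∈ Q := fun w hw => by
          refine (Subgroup.closure_le (K := Q.comap (MulAut.conj x).toMonoidHom)).2 ?_ hw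
          rintro _ ⟨y, hy, rfl⟩
          exact Subgroup.subset_closure ⟨x * y * x⁻¹, L.mul_mem (L.mul_mem hx hy) (L.inv_mem hx), by
            show x * (y * y) * x⁻¹ = _; group⟩
        exact hnorm q hq
      have h1 := hQfix _ hconj
      rw [map_mul, map_mul, map_inv, hQfix q hq] at h1
      calc x⁻¹ * μ x * q = x⁻¹ * (μ x * q * (μ x)⁻¹) * μ x := by group
        _ = x⁻¹ * (x * q * x⁻¹) * μ x := by rw [h1]
        _ = q * (x⁻¹ * μ x) := by group
    have hsqQ : ∀ x ∈ L, x * x ∈ Q := fun x hx => Subgroup.subset_closure ⟨x, hx, rfl⟩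
    have hcQ : ∀ x ∈ L, ∀ y ∈ L, x⁻¹ * y * x * y⁻¹ ∈ Q := fun x hx y hy => by
      have e : x⁻¹ * y * x * y⁻¹ = (x * x)⁻¹ * (x * y * (x * y)) * (y * y)⁻¹ := by group
      rw [e]
      exact Q.mul_mem (Q.mul_mem (Q.inv_mem (hsqQ x hx)) (hsqQ _ (L.mul_mem hx hy)))
        (Q.inv_mem (hsqQ y hy))
    have hcE : ∀ x ∈ L, ∀ y ∈ L, x⁻¹ * y * x * y⁻¹ ∈ E := by
      intro x hx y hy
      set c := x⁻¹ * y * x * y⁻¹ with hc'
      refine (hE _).2 ?_
      have hcx : c * x = x * c := hQcent _ (hcQ x hx y hy) x hx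
      have hcy : c * y = y * c := hQcent _ (hcQ x hx y hy) y hy
      have h2 : y * (x * x) = x * x * y := (hQcent _ (hsqQ x hx) y hy).symm
      have e1 : x⁻¹ * y * x = c * y := by rw [hc']; group
      calc c * c = c * (c * y) * y⁻¹ := by group
        _ = c * (x⁻¹ * y * x) * y⁻¹ := by rw [e1]
        _ = x⁻¹ * (x * c) * (x⁻¹ * y * x) * y⁻¹ := by group
        _ = x⁻¹ * (c * x) * (x⁻¹ * y * x) * y⁻¹ := by rw [hcx]
        _ = x⁻¹ * (c * y) * x * y⁻¹ := by group
        _ = x⁻¹ * (x⁻¹ * y * x) * x * y⁻¹ := by rw [e1]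
        _ = (x * x)⁻¹ * (y * (x * x)) * y⁻¹ := by group
        _ = 1 := by rw [h2]; group
    -- squares lie in `E`
    have hsq : ∀ x ∈ L, x * x ∈ E := by
      let K : Subgroup S :=
        { carrier := {x | x ∈ L ∧ x * x ∈ E}
          one_mem' := ⟨L.one_mem, by simp [E.one_mem]⟩
          mul_mem' := by
            rintro x y ⟨hx, hx2⟩ ⟨hy, hy2⟩
            refine ⟨L.mul_mem hx hy, ?_⟩
            have hk := hcE x hx y hy
            have e : x * y * (x * y) = x * x * ((x⁻¹ * y * x * y⁻¹) * (y * y)) := by group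
            rw [e]
            exact E.mul_mem hx2 (E.mul_mem hk hy2)
          inv_mem' := by
            rintro x ⟨hx, hx2⟩
            exact ⟨L.inv_mem hx, by rw [← mul_inv_rev]; exact E.inv_mem hx2⟩ }
      suffices L ≤ K from fun x hx => (this hx).2
      conv_lhs => rw [← hgen]
      refine (Subgroup.closure_le _).2 ?_
      rintro _ ⟨x, hx, rfl⟩
      refine ⟨L.mul_mem (L.inv_mem hx) (hLμ x hx), ?_⟩
      have hfx : μ (x * x) = x * x := hQfix _ (hsqQ x hx)
      have hk := hcE x⁻¹ (L.inv_mem hx) (μ x) (hLμ x hx)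
      have e : x⁻¹ * μ x * (x⁻¹ * μ x) =
          (x * x)⁻¹ * ((x⁻¹⁻¹ * μ x * x⁻¹ * (μ x)⁻¹) * (μ x * μ x)) := by group
      rw [e, ← map_mul, hfx, Subgroup.mem_center_iff.1 (hc hk) (x * x) |>.symm, ← mul_assoc,
        inv_mul_cancel, one_mul]
      exact hk
    have hEL : E ≤ L := by
      obtain ⟨z, hz, hzL, hz1⟩ : ∃ z, z ∈ E ∧ z ∈ L ∧ z ≠ 1 := by
        by_cases hxx : xL * xL = 1
        · exact ⟨xL, (hE _).2 hxx, hxL, fun h => hxLm (by rw [h, map_one])⟩
        · exact ⟨xL * xL, hsq _ hxL, L.mul_mem hxL hxL, hxx⟩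
      intro e he
      rcases eq_or_ne e 1 with rfl | he1
      · exact L.one_mem
      obtain ⟨i, rfl⟩ := htr e he he1
      obtain ⟨j, hj⟩ := htr z hz hz1
      have hper : (γ ^ (p ^ (m + 1) * j)) x₀ = x₀ := by rw [pow_mul, hγ, one_pow, MulAut.one_apply]
      have hjj : j ≤ p ^ (m + 1) * j := Nat.le_mul_of_pos_left j (pow_pos hp.pos _)
      have e' : (γ ^ i) x₀ = (γ ^ (i + (p ^ (m + 1) * j - j))) z := by
        rw [← hj, ← MulAut.mul_apply, ← pow_add, add_assoc, Nat.sub_add_cancel hjj, pow_add,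
          MulAut.mul_apply, hper]
      rw [e']
      exact aut_pow_mem hL hzL _
    -- `μ` fixes nothing outside `E`
    have hCμ : ∀ x ∈ L, μ x = x → x ∈ E := by
      intro x hx hxμ
      by_contra hxE
      let M : Subgroup S := (MonoidHom.eqLocus μ.toMonoidHom (MonoidHom.id S)) ⊓ L
      have hMfix : ∀ y ∈ M, μ y = y := fun y hy => hy.1
      -- the product over a `μ`-orbit
      have hcl : ∀ y ∈ L, ∀ i : ℕ, (μ ^ i) y ∈ L := fun y hy i => aut_pow_mem hLμ hy i
      haveI : (E.subgroupOf L).Normal := ⟨fun a ha b => by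
        rw [Subgroup.mem_subgroupOf] at ha ⊢
        exact hE.conj_mem ha _⟩
      let Qt := ↥L ⧸ E.subgroupOf L
      letI : CommGroup Qt :=
        { (inferInstance : Group Qt) with
          mul_comm := fun a b => by
            induction a using QuotientGroup.induction_on with
            | H u =>
              induction b using QuotientGroup.induction_on with
              | H v =>
                rw [← QuotientGroup.mk_mul, ← QuotientGroup.mk_mul, QuotientGroup.eq,
                  Subgroup.mem_subgroupOf]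
                have := hcE _ u.2 _ (L.inv_mem v.2)
                show (u.1 * v.1)⁻¹ * (v.1 * u.1) ∈ E
                have e : (u.1 * v.1)⁻¹ * (v.1 * u.1) =
                    (u.1⁻¹ * v.1⁻¹ * u.1 * v.1⁻¹⁻¹)⁻¹ := by group
                rw [e]
                exact E.inv_mem this }
      let f : ℕ → ↥L →* Qt := fun i => (QuotientGroup.mk' _).comp
        (((μ ^ i).toMonoidHom.comp L.subtype).codRestrict L fun y => hcl _ y.2 i)
      let nm : ↥L →* Qt := ∏ i ∈ Finset.range p, f i
      have hnm : nm = 1 := by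
        have hle : L ≤ nm.ker.map L.subtype := by
          conv_lhs => rw [← hgen]
          refine (Subgroup.closure_le _).2 ?_
          rintro _ ⟨y, hy, rfl⟩
          refine ⟨⟨y, hy⟩⁻¹ * ⟨μ y, hLμ y hy⟩, ?_, rfl⟩
          rw [SetLike.mem_coe, MonoidHom.mem_ker, map_mul, map_inv, inv_mul_eq_one]
          simp only [nm, MonoidHom.finsetProd_apply]
          have h1 : ∀ i, f i ⟨μ y, hLμ y hy⟩ = f (i + 1) ⟨y, hy⟩ := fun i => by
            refine congrArg QuotientGroup.mk (Subtype.ext ?_)
            show (μ ^ i) (μ y) = (μ ^ (i + 1)) y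
            rw [pow_succ, MulAut.mul_apply]
          have hsucc := (Finset.prod_range_succ' (fun i => f i ⟨y, hy⟩) p).symm.trans
            (Finset.prod_range_succ (fun i => f i ⟨y, hy⟩) p)
          have hp0 : f p ⟨y, hy⟩ = f 0 ⟨y, hy⟩ := by
            refine congrArg QuotientGroup.mk (Subtype.ext ?_)
            show (μ ^ p) y = (μ ^ 0) y
            rw [hμp, pow_zero]
          rw [hp0] at hsucc
          rw [Finset.prod_congr rfl fun i _ => h1 i]
          exact (mul_right_cancel hsucc).symm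
        refine MonoidHom.ext fun u => ?_
        obtain ⟨v, hv, hvu⟩ := hle u.2
        rw [show u = v from Subtype.ext hvu.symm]
        exact hv
      have hxp : nm ⟨x, hx⟩ = 1 := by rw [hnm, MonoidHom.one_apply]
      simp only [nm, MonoidHom.finsetProd_apply] at hxp
      rw [Finset.prod_congr rfl (fun i _ => show f i ⟨x, hx⟩ = QuotientGroup.mk' _ ⟨x, hx⟩ from
          congrArg QuotientGroup.mk (Subtype.ext (aut_pow_fix hxμ i))),
        Finset.prod_const, Finset.card_range, ← map_pow] at hxp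
      have hxpE : x ^ p ∈ E := by
        have := (QuotientGroup.eq_one_iff _).1 hxp
        simpa [Subgroup.mem_subgroupOf] using this
      obtain ⟨j, hj⟩ := hpodd
      have : x ^ p * ((x * x) ^ j)⁻¹ = x := by rw [hj, pow_succ', pow_mul, pow_two]; group
      exact hxE (this ▸ E.mul_mem hxpE (E.inv_mem (E.pow_mem (hsq x hx) j)))
    -- count
    let γL : MulAut ↥L :=
      { toFun := fun x => ⟨γ x.1, hL _ x.2⟩
        invFun := fun x => ⟨(γ ^ (p ^ (m + 1) - 1)) x.1, aut_pow_mem hL x.2 _⟩
        left_inv := fun x => Subtype.ext (by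
          show (γ ^ (p ^ (m + 1) - 1)) (γ x.1) = x.1
          rw [← MulAut.mul_apply, ← pow_succ, Nat.sub_add_cancel (pow_pos hp.pos _), hγ,
            MulAut.one_apply])
        right_inv := fun x => Subtype.ext (by
          show γ ((γ ^ (p ^ (m + 1) - 1)) x.1) = x.1
          rw [← MulAut.mul_apply, ← pow_succ', Nat.sub_add_cancel (pow_pos hp.pos _), hγ,
            MulAut.one_apply])
        map_mul' := fun x y => Subtype.ext (map_mul γ x.1 y.1) }
    have hγL : ∀ (i : ℕ) (x : ↥L), ((γL ^ i) x).1 = (γ ^ i) x.1 := fun i x => by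
      induction i with
      | zero => rfl
      | succ i ih => rw [pow_succ', pow_succ', MulAut.mul_apply, MulAut.mul_apply, ← ih]; rfl
    let E' := E.subgroupOf L
    have hE'c : Nat.card E' = p + 1 :=
      (Nat.card_congr (Subgroup.subgroupOfEquivOfLe hEL).toEquiv).trans hcard
    have hd : SqData E' :=
      { inv := fun x => by rw [Subgroup.mem_subgroupOf, hE, Subtype.ext_iff]; rfl
        central := fun x hx => Subgroup.mem_center_iff.2 fun y =>
          Subtype.ext (Subgroup.mem_center_iff.1 (hc hx) y.1)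
        sq := fun x => hsq _ x.2 }
    haveI : Fact (Nat.Prime 2) := ⟨Nat.prime_two⟩
    obtain ⟨s, hs⟩ := (hS.to_subgroup E).exists_card_eq
    obtain ⟨dL, hdL⟩ := (hS.to_subgroup L).exists_card_eq
    obtain ⟨M, hM⟩ : ∃ M : Subgroup ↥E', M.index = 2 := by
      have hs0 : s ≠ 0 := by rintro rfl; rw [pow_zero] at hs; have := hp.two_le; omega
      obtain ⟨M, hM⟩ := Sylow.exists_subgroup_card_pow_prime (G := ↥E') 2 (n := s - 1)
        (by rw [hE'c, ← hcard, hs]; exact pow_dvd_pow 2 (Nat.sub_le s 1))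
      refine ⟨M, ?_⟩
      have := M.card_mul_index
      rw [hM, hE'c, ← hcard, hs] at this
      have e : 2 ^ s = 2 ^ (s - 1) * 2 := by rw [← pow_succ, Nat.sub_add_cancel (by omega)]
      rw [e] at this
      exact Nat.eq_of_mul_eq_mul_left (by positivity) this
    obtain ⟨c, hcS, -, hF⟩ := sum_sq_sign hd M hM (fun a ha b hb ha1 hb1 => by
      obtain ⟨i, hi⟩ := htr a.1 ha (fun h => ha1 (Subtype.ext h))
      obtain ⟨j, hj⟩ := htr b.1 hb (fun h => hb1 (Subtype.ext h))
      refine ⟨((γL ^ i).symm.trans (γL ^ j)).toEquiv, fun x => ?_⟩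
      show x * x = a ↔ (γL ^ j) ((γL ^ i).symm x) * (γL ^ j) ((γL ^ i).symm x) = b
      rw [← map_mul, ← map_mul]
      constructor
      · intro hxx
        rw [hxx]
        refine Subtype.ext ?_
        rw [hγL]
        have : ((γL ^ i).symm a).1 = x₀ := by
          apply (γ ^ i).injective
          rw [← hγL, MulEquiv.apply_symm_apply, hi]
        rw [this, hj]
      · intro hxx
        have h1 : ((γL ^ i).symm (x * x)).1 = x₀ := by
          apply (γ ^ j).injective
          rw [← hγL, hxx, hj]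
        refine Subtype.ext ?_
        rw [← hi, ← h1, ← hγL, MulEquiv.apply_symm_apply])
    -- the orbits outside `E` have length `p ^ (m + 1)`
    have hdiv : p ^ (m + 1) ∣ Nat.card L - Nat.card E' := by
      haveI : Finite (MulAut ↥L) := Finite.of_injective _ (DFunLike.coe_injective (F := MulAut ↥L))
      let X := {x : ↥L // x ∉ E'}
      let G' := Subgroup.zpowers γL
      letI : MulAction G' X :=
        { smul := fun g x => ⟨(g : MulAut ↥L) x.1, fun hx => x.2 ((hd.inv _).2
            ((g : MulAut ↥L).injective (by rw [map_mul, (hd.inv _).1 hx, map_one])))⟩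
          one_smul := fun x => Subtype.ext rfl
          mul_smul := fun g g' x => Subtype.ext rfl }
      have hγLp : γL ^ (p ^ (m + 1)) = 1 :=
        MulEquiv.ext fun x => Subtype.ext (by rw [hγL, hγ]; rfl)
      have hord : orderOf γL = p ^ (m + 1) := by
        haveI : Fact p.Prime := ⟨hp⟩
        refine orderOf_eq_prime_pow (fun h => hxLm ?_) hγLp
        have := congrArg Subtype.val (DFunLike.congr_fun h ⟨xL, hxL⟩)
        rw [hγL] at this
        exact this
      have hfree : ∀ x : X, MulAction.stabilizer G' x = ⊥ := by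
        intro x
        by_contra hne'
        refine x.2 (hCμ x.1.1 x.1.2 ?_)
        haveI : Fact p.Prime := ⟨hp⟩
        have hG' : IsPGroup p G' := IsPGroup.of_card (n := m + 1) (by rw [Nat.card_zpowers, hord])
        obtain ⟨a, ha⟩ := (hG'.to_subgroup (MulAction.stabilizer G' x)).exists_card_eq
        have ha0 : a ≠ 0 := by
          rintro rfl
          exact hne' (Subgroup.eq_bot_of_card_eq _ (by simpa using ha))
        -- the subgroup of order `p` of a cyclic group is unique
        have hgen' : (⟨γL ^ (p ^ m), Subgroup.pow_mem _ (Subgroup.mem_zpowers γL) _⟩ : G') ∈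
            MulAction.stabilizer G' x := by
          obtain ⟨y, hy⟩ := exists_prime_orderOf_dvd_card' (G := MulAction.stabilizer G' x) p
            (ha ▸ dvd_pow_self p ha0)
          obtain ⟨k, hk⟩ : (y.1 : MulAut ↥L) ∈ Submonoid.powers γL :=
            mem_powers_iff_mem_zpowers.2 y.1.2
          have hyp : orderOf (γL ^ k) = p := by
            simp only at hk
            rw [hk, Subgroup.orderOf_coe, Subgroup.orderOf_coe]; exact hy
          have hk' : p ^ m ∣ k := by
            have h1 : p ^ (m + 1) ∣ k * p := by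
              rw [← hord]
              refine orderOf_dvd_of_pow_eq_one ?_
              conv_lhs => rw [pow_mul, ← hyp]
              exact pow_orderOf_eq_one _
            rw [pow_succ] at h1
            exact Nat.dvd_of_mul_dvd_mul_right hp.pos h1
          obtain ⟨u, rfl⟩ := hk'
          have hu : u.Coprime p := by
            rw [Nat.coprime_comm, hp.coprime_iff_not_dvd]
            rintro ⟨v, rfl⟩
            have : γL ^ (p ^ m * (p * v)) = 1 := by
              rw [← mul_assoc, ← pow_succ, pow_mul, hγLp, one_pow]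
            rw [this, orderOf_one] at hyp
            exact hp.one_lt.ne hyp
          show (⟨(γL ^ (p ^ m)) x.1, _⟩ : X) = x
          refine Subtype.ext (aut_fix_of_coprime (n := p) ?_ (m := u) ?_ hu)
          · rw [← pow_mul, ← pow_succ, hγLp, MulAut.one_apply]
          · rw [← pow_mul]
            have := congrArg Subtype.val y.2
            simp only at hk
            rw [hk]
            exact this
        have := congrArg (fun z : X => (z.1 : S)) hgen'
        change ((γL ^ (p ^ m)) x.1).1 = x.1.1 at this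
        rw [hγL] at this
        exact this
      have hX : Nat.card X = Nat.card L - Nat.card E' := by
        have h := Nat.card_congr (Equiv.sumCompl (fun x : ↥L => x ∈ E'))
        rw [Nat.card_sum] at h
        have : Nat.card {x : ↥L // x ∈ E'} = Nat.card E' := rfl
        show Nat.card {x : ↥L // x ∉ E'} = _
        omega
      rw [← hX, ← hord, Nat.card_congr (MulAction.selfEquivSigmaOrbitsQuotientStabilizer G' X)]
      haveI : Fintype (MulAction.orbitRel.Quotient G' X) := Fintype.ofFinite _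
      rw [Nat.card_sigma]
      refine Finset.dvd_sum fun w _ => ?_
      rw [← Subgroup.index, hfree, Subgroup.index_bot, Nat.card_zpowers]
    rw [hE'c] at hcS hF hdiv
    rw [hcS, Nat.add_sub_cancel_left, show p + 1 - 1 = p by omega, pow_succ'] at hdiv
    have hpc : p ∣ c := dvd_trans (dvd_pow_self p hm) (Nat.dvd_of_mul_dvd_mul_left hp.pos hdiv)
    have hps : p + 1 = 2 ^ s := by rw [← hcard, hs]
    have hsd : s ≤ dL := by
      have := E'.card_le_card_group
      rw [hE'c, hps, hdL] at this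
      exact (Nat.pow_le_pow_iff_right (le_refl 2)).1 this
    rw [hdL, show p + 1 - 1 = p by omega, hps] at hcS
    -- `c` is a multiple of `|E|`
    have hco : (2 ^ s).Coprime p :=
      Nat.Coprime.pow_left s ((Nat.coprime_primes Nat.prime_two hp).2 (Ne.symm hp2))
    obtain ⟨n, rfl⟩ : 2 ^ s ∣ c := by
      have h1 : 2 ^ s ∣ 2 ^ s + p * c := hcS ▸ pow_dvd_pow 2 hsd
      exact hco.dvd_of_dvd_mul_left ((Nat.dvd_add_right (dvd_refl _)).1 h1)
    have hn : p ∣ n := hco.symm.dvd_of_dvd_mul_left hpc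
    have hd' : 2 ^ (dL - s) = 1 + p * n := by
      refine Nat.eq_of_mul_eq_mul_left (show 0 < 2 ^ s by positivity) ?_
      rw [← pow_add, Nat.add_sub_cancel' hsd, hcS]; ring
    rcases Nat.eq_zero_or_pos n with rfl | hnpos
    · refine hxLm (hμfix xL ?_)
      have h1 : Nat.card E' = Nat.card L := by rw [hdL, hE'c, hps, hcS]; simp
      have := Subgroup.eq_top_of_card_eq E' h1
      exact (this ▸ Subgroup.mem_top (⟨xL, hxL⟩ : ↥L) : (⟨xL, hxL⟩ : ↥L) ∈ E')
    have hpn := Nat.le_of_dvd hnpos hn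
    have hp2le := hp.two_le
    rcases hF with hF | hF
    · rw [hps] at hF
      have h0 : ((2 ^ s : ℕ) : ℤ) - (2 ^ s * n : ℕ) = 0 := (pow_eq_zero_iff two_ne_zero).1 hF
      have h1 : 2 ^ s * 1 = 2 ^ s * n := by omega
      have := Nat.eq_of_mul_eq_mul_left (show 0 < 2 ^ s by positivity) h1
      omega
    obtain ⟨r, hr⟩ := ((hS.to_subgroup L).to_subgroup (radical hd M)).exists_card_eq
    rw [hr, hdL, hps] at hF
    have e2 : (2 ^ s * (n - 1)) ^ 2 = 2 ^ (dL + r) := by
      zify [show 1 ≤ n from hnpos]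
      rw [pow_add]
      push_cast at hF ⊢
      rw [← hF]; ring
    obtain ⟨j', hj'⟩ := eq_two_pow_of_sq e2
    obtain ⟨j, -, hj⟩ := (Nat.dvd_prime_pow Nat.prime_two).1 (Dvd.intro_left _ hj')
    have hn' : n = 1 + 2 ^ j := by omega
    have hds : 2 ^ (dL - s) = 2 ^ s + p * 2 ^ j := by
      rw [hd', hn', ← hps]; ring
    have hjs := exp_eq hp.one_lt hps hds
    rw [hn', hjs, ← hps, show 1 + (p + 1) = p + 2 by ring] at hn
    have := Nat.le_of_dvd two_pos ((Nat.dvd_add_right (dvd_refl p)).1 hn)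
    omega

end Cfsg.Agent.Pyramid
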